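import Cfsg.Agent.H434.CornBase

/-!
# Corners of isometries V: moved maximal totally singular subspaces (helper434)

A non-scalar isometry moves a maximal totally singular subspace `W` with `W ∩ g W ≠ 0` (dimension `≥ 3`).
-/

set_option autoImplicit false

namespace Cfsg.Agent.H434.Corn

open Module QuadraticMap Cfsg.Agent.LieClassical.OrthCore Cfsg.Agent.LieClassical.OrthTrans
  Cfsg.Agent.LieClassical.OrthFinite

variable {F V : Type*} [Field F] [AddCommGroup V] [Module F V] {Q : QuadraticForm F V}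

theorem ts_span_pair {x y : V} (hx : Q x = 0) (hy : Q y = 0) (hxy : polar Q x y = 0) :
    TS Q (Submodule.span F {x, y}) := by
  intro z hz
  obtain ⟨a, b, rfl⟩ := Submodule.mem_span_pair.1 hz
  rw [Q_add, QuadraticMap.map_smul, QuadraticMap.map_smul, hx, hy, polar_smul_left, polar_smul_right, hxy]
  simp

theorem ts_span {x : V} (hx : Q x = 0) : TS Q (Submodule.span F {x}) := by
  intro z hz
  obtain ⟨a, rfl⟩ := Submodule.mem_span_singleton.1 hz
  rw [QuadraticMap.map_smul, hx, smul_zero]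

/-- an isometry which maps every singular vector to a multiple of itself is a scalar -/
theorem scalar_of_lines [FiniteDimensional F V] (hQ : Nondeg Q) (hd : 3 ≤ finrank F V) {x₀ : V}
    (hx₀ : Q x₀ = 0) (hx₀0 : x₀ ≠ 0) {g : V ≃ₗ[F] V} (hg : g ∈ O Q)
    (h : ∀ x, Q x = 0 → ∃ c : F, g x = c • x) : ∃ c : F, ∀ v, g v = c • v := by
  obtain ⟨y₀, hxy⟩ := exists_hyp hQ hx₀ hx₀0
  obtain ⟨a, ha⟩ := h x₀ hx₀
  obtain ⟨b, hb⟩ := h y₀ hxy.right
  have hab : a * b = 1 := by
    have h1 := polar_map hg x₀ y₀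
    rw [ha, hb, polar_smul_left, polar_smul_right, hxy.pair] at h1
    simpa using h1
  -- on the orthogonal space
  have key : ∀ v, polar Q x₀ v = 0 → polar Q y₀ v = 0 → g v = a • v ∧ (Q v ≠ 0 → b = a) := by
    intro v hxv hyv
    have hs : Q (x₀ + v - Q v • y₀) = 0 := by
      have e : x₀ + v - Q v • y₀ = (x₀ + v) + (-(Q v)) • y₀ := by module
      rw [e, Q_add, Q_add, hx₀, hxv, QuadraticMap.map_smul, hxy.right, polar_smul_right,
        polar_add_left, hxy.pair, polar_comm Q v y₀, hyv]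
      simp
    obtain ⟨c, hc⟩ := h _ hs
    have hxg : polar Q x₀ (g v) = 0 := by
      have h1 := polar_map hg x₀ v
      rw [ha, polar_smul_left, hxv, smul_eq_mul] at h1
      rcases mul_eq_zero.1 h1 with h2 | h2
      · rw [h2, zero_mul] at hab; exact absurd hab zero_ne_one
      · exact h2
    have hyg : polar Q y₀ (g v) = 0 := by
      have h1 := polar_map hg y₀ v
      rw [hb, polar_smul_left, hyv, smul_eq_mul] at h1
      rcases mul_eq_zero.1 h1 with h2 | h2
      · rw [h2, mul_zero] at hab; exact absurd hab zero_ne_one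
      · exact h2
    rw [map_sub, map_add, map_smul, ha, hb] at hc
    have e1 : a = c := by
      have h1 := congrArg (fun z => polar Q y₀ z) hc
      simp only [polar_sub_right, polar_add_right, polar_smul_right, hxy.pair', hyg, hxy.polar_right, hyv,
        smul_eq_mul] at h1
      linear_combination h1
    have e2 : Q v * b = c * Q v := by
      have h1 := congrArg (fun z => polar Q x₀ z) hc
      simp only [polar_sub_right, polar_add_right, polar_smul_right, hxy.pair, hxg, hxy.polar_left, hxv,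
        smul_eq_mul] at h1
      linear_combination -h1
    rw [← e1] at hc e2
    refine ⟨?_, fun hne => ?_⟩
    · have e3 : Q v • b • y₀ = a • Q v • y₀ := by rw [smul_smul, smul_smul, e2]
      rw [e3, smul_sub, smul_add] at hc
      have h1 : a • x₀ + g v - a • Q v • y₀ - (a • x₀ + a • v - a • Q v • y₀) = 0 := sub_eq_zero.2 hc
      have h2 : g v - a • v = 0 := by rw [← h1]; abel
      exact sub_eq_zero.1 h2
    · exact mul_left_cancel₀ hne (by rw [e2]; ring)
  -- a vector which is not singular and orthogonal to the pair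
  obtain ⟨v, hv0, hxv, hyv⟩ : ∃ v : V, v ≠ 0 ∧ polar Q x₀ v = 0 ∧ polar Q y₀ v = 0 := by
    obtain ⟨v, w, h1, h2, -, -, h5⟩ := exists_perp2 hQ hd hxy
    refine ⟨v, ?_, h1, h2⟩
    rintro rfl
    rw [polar_zero_left] at h5
    exact zero_ne_one h5
  have hab' : b = a := by
    by_contra hne
    have hall : ∀ u, polar Q x₀ u = 0 → polar Q y₀ u = 0 → Q u = 0 := by
      intro u h1 h2
      by_contra h3
      exact hne ((key u h1 h2).2 h3)
    apply hv0
    apply hQ
    intro z
    set z' := z - polar Q y₀ z • x₀ - polar Q x₀ z • y₀ with hz'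
    have h1 : polar Q x₀ z' = 0 := by
      rw [hz', polar_sub_right, polar_sub_right, polar_smul_right, polar_smul_right, hxy.polar_left, hxy.pair]
      simp
    have h2 : polar Q y₀ z' = 0 := by
      rw [hz', polar_sub_right, polar_sub_right, polar_smul_right, polar_smul_right, hxy.polar_right, hxy.pair']
      simp
    have h3 : polar Q v z' = 0 := by
      have h4 := Q_add (Q := Q) v z'
      rw [hall v hxv hyv, hall z' h1 h2, hall (v + z') (by rw [polar_add_right, hxv, h1, add_zero])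
        (by rw [polar_add_right, hyv, h2, add_zero])] at h4
      linear_combination -h4
    have h5 : z = z' + polar Q y₀ z • x₀ + polar Q x₀ z • y₀ := by rw [hz']; abel
    rw [h5, polar_add_right, polar_add_right, polar_smul_right, polar_smul_right, h3,
      polar_comm Q v x₀, polar_comm Q v y₀, hxv, hyv]
    simp
  refine ⟨a, fun z => ?_⟩
  set z' := z - polar Q y₀ z • x₀ - polar Q x₀ z • y₀ with hz'
  have h1 : polar Q x₀ z' = 0 := by
    rw [hz', polar_sub_right, polar_sub_right, polar_smul_right, polar_smul_right, hxy.polar_left, hxy.pair]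
    simp
  have h2 : polar Q y₀ z' = 0 := by
    rw [hz', polar_sub_right, polar_sub_right, polar_smul_right, polar_smul_right, hxy.polar_right, hxy.pair']
    simp
  have h5 : z = z' + polar Q y₀ z • x₀ + polar Q x₀ z • y₀ := by rw [hz']; abel
  rw [h5]
  rw [map_add, map_add, map_smul, map_smul, (key z' h1 h2).1, ha, hb, hab']
  module

variable [FiniteDimensional F V]

/-- If all maximal totally singular subspaces are invariant then `g` is scalar. -/
theorem scalar_of_invariant (hQ : Nondeg Q) (hd : 3 ≤ finrank F V) {x₀ : V}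
    (hx₀ : Q x₀ = 0) (hx₀0 : x₀ ≠ 0) {g : V ≃ₗ[F] V} (hg : g ∈ O Q)
    (h : ∀ W, MaxTS Q W → ∀ w ∈ W, g w ∈ W) : ∃ c : F, ∀ v, g v = c • v := by
  refine scalar_of_lines hQ hd hx₀ hx₀0 hg fun x hx => ?_
  by_contra hcon
  push Not at hcon
  have hx0 : x ≠ 0 := by
    rintro rfl
    exact hcon 0 (by simp)
  have hgx : Q (g x) = 0 := by rw [mem_O.1 hg]; exact hx
  obtain ⟨W, hxW, hW⟩ := exists_maxTS (ts_span hx)
  have hx1 : x ∈ W := hxW (Submodule.mem_span_singleton_self x)
  have hx2 : g x ∈ W := h W hW x hx1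
  have hp : polar Q x (g x) = 0 := hW.ts.pz hx1 hx2
  have hT := ts_span_pair hx hgx hp
  obtain ⟨W', -, hdp⟩ := exists_partner hQ hT (X := ⊥) (fun x hx => by
    rw [(Submodule.mem_bot F).1 hx, QuadraticMap.map_zero]) (fun x hx _ => (Submodule.mem_bot F).1 hx)
  -- a functional on `⟨x, g x⟩`
  have hxT : x ∈ Submodule.span F {x, g x} := Submodule.subset_span (by simp)
  have hgT : g x ∈ Submodule.span F {x, g x} := Submodule.subset_span (by simp)
  have hnot : (⟨g x, hgT⟩ : Submodule.span F {x, g x}) ∉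
      Submodule.span F {(⟨x, hxT⟩ : Submodule.span F {x, g x})} := by
    intro hmem
    obtain ⟨c, hc⟩ := Submodule.mem_span_singleton.1 hmem
    exact hcon c (congrArg Subtype.val hc).symm
  obtain ⟨ψ, h1, h2⟩ := Submodule.exists_dual_map_eq_bot_of_notMem hnot inferInstance
  obtain ⟨z, hz, hze⟩ := hdp.symm.exists_eq ψ
  have hzx : polar Q x z = 0 := by
    rw [polar_comm]
    have h3 := hze ⟨x, hxT⟩
    have h4 : ψ ⟨x, hxT⟩ ∈ (Submodule.span F {(⟨x, hxT⟩ : Submodule.span F {x, g x})}).map ψ :=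
      ⟨_, Submodule.mem_span_singleton_self _, rfl⟩
    rw [h2, Submodule.mem_bot] at h4
    rw [← h4]; exact h3
  have hzg : polar Q z (g x) ≠ 0 := by
    have h3 := hze ⟨g x, hgT⟩
    intro h4
    apply h1
    rw [← h3]; exact h4
  obtain ⟨W₂, hW₂, hmW₂⟩ := exists_maxTS (ts_span_pair hx (hdp.ts' z hz) hzx)
  have h5 : x ∈ W₂ := hW₂ (Submodule.subset_span (by simp))
  have h6 : z ∈ W₂ := hW₂ (Submodule.subset_span (by simp))
  exact hzg (hmW₂.ts.pz h6 (h W₂ hmW₂ x h5))

/-- All maximal totally singular subspaces have the same dimension. -/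
theorem MaxTS.finrank_le {W₁ W₂ : Submodule F V} (h₁ : MaxTS Q W₁) (h₂ : MaxTS Q W₂) :
    finrank F W₂ ≤ finrank F W₁ := by
  let I : Submodule F W₁ := W₂.comap W₁.subtype
  let f : W₂ →ₗ[F] Dual F W₁ := pairing Q W₂ W₁
  have hrange : LinearMap.range f ≤ I.dualAnnihilator := by
    rintro _ ⟨w, rfl⟩
    rw [Submodule.mem_dualAnnihilator]
    intro x hx
    exact h₂.ts.pz w.2 hx
  have hker : finrank F (LinearMap.ker f) ≤ finrank F I := by
    have hmem : ∀ w : LinearMap.ker f, ((w : W₂) : V) ∈ W₁ := by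
      intro w
      refine h₁.max _ (h₂.ts _ (w : W₂).2) (fun a ha => ?_)
      have h3 : f w = 0 := w.2
      have h4 := LinearMap.congr_fun h3 ⟨a, ha⟩
      rw [polar_comm]; exact h4
    let j : LinearMap.ker f →ₗ[F] I :=
      LinearMap.codRestrict I (LinearMap.codRestrict W₁ (W₂.subtype ∘ₗ (LinearMap.ker f).subtype) hmem)
        (fun w => (w : W₂).2)
    refine LinearMap.finrank_le_finrank_of_injective (f := j) ?_
    intro a b hab
    apply Subtype.ext
    apply Subtype.ext
    exact congrArg (fun z : I => ((z : W₁) : V)) hab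
  have h1 := LinearMap.finrank_range_add_finrank_ker f
  have h2 := Submodule.finrank_mono hrange
  have h3 := Subspace.finrank_add_finrank_dualAnnihilator_eq I
  omega

theorem MaxTS.finrank_eq {W₁ W₂ : Submodule F V} (h₁ : MaxTS Q W₁) (h₂ : MaxTS Q W₂) :
    finrank F W₂ = finrank F W₁ := le_antisymm (h₁.finrank_le h₂) (h₂.finrank_le h₁)

/-- two subspaces of small codimension meet -/
theorem exists_inf {U K L : Submodule F V} (hK : K ≤ U) (hL : L ≤ U) (h : finrank F U < finrank F K + finrank F L) :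
    ∃ y ∈ K, y ∈ L ∧ y ≠ 0 := by
  have h1 := Submodule.finrank_sup_add_finrank_inf_eq K L
  have h2 := Submodule.finrank_mono (sup_le hK hL)
  have h3 : K ⊓ L ≠ ⊥ := by
    intro h0
    rw [h0, finrank_bot] at h1
    omega
  obtain ⟨y, hy, hy0⟩ := Submodule.exists_mem_ne_zero_of_ne_bot h3
  exact ⟨y, hy.1, hy.2, hy0⟩

theorem exists_of_neighbour {W₁ U : Submodule F V} {g : V ≃ₗ[F] V} (hU : ∀ w ∈ U, g w ∈ U)
    (h3 : 3 ≤ finrank F U) (h : finrank F U ≤ finrank F ↥(W₁ ⊓ U) + 1) :
    ∃ w ∈ W₁, w ≠ 0 ∧ g w ∈ W₁ := by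
  have h4 : finrank F ↥((W₁ ⊓ U).map g.toLinearMap) = finrank F ↥(W₁ ⊓ U) := LinearEquiv.finrank_map_eq g _
  obtain ⟨y, hy1, ⟨w, hw, rfl⟩, hy0⟩ := exists_inf (U := U) (K := W₁ ⊓ U) (L := (W₁ ⊓ U).map g.toLinearMap)
    inf_le_right (by rintro _ ⟨z, hz, rfl⟩; exact hU z hz.2) (by omega)
  refine ⟨w, hw.1, ?_, hy1.1⟩
  rintro rfl
  exact hy0 (map_zero _)

omit [FiniteDimensional F V] in
/-- The neighbour of `W` through `u`. -/
theorem MaxTS.neighbour {W : Submodule F V} (hW : MaxTS Q W) {u : V} (hu : Q u = 0) (huW : u ∉ W) :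
    MaxTS Q (Submodule.span F {u} ⊔ (W ⊓ perp Q (Submodule.span F {u}))) := by
  have hmem : ∀ k, k ∈ perp Q (Submodule.span F {u}) ↔ polar Q u k = 0 := by
    intro k
    constructor
    · intro h; exact h u (Submodule.mem_span_singleton_self u)
    · intro h w hw
      obtain ⟨c, rfl⟩ := Submodule.mem_span_singleton.1 hw
      rw [polar_smul_left, h, smul_zero]
  obtain ⟨w₀, hw₀, hw₀u⟩ : ∃ w₀ ∈ W, polar Q w₀ u ≠ 0 := by
    by_contra hcon
    push Not at hcon
    exact huW (hW.max u hu hcon)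
  constructor
  · intro z hz
    obtain ⟨a, ha, b, hb, rfl⟩ := Submodule.mem_sup.1 hz
    obtain ⟨c, rfl⟩ := Submodule.mem_span_singleton.1 ha
    rw [Q_add, QuadraticMap.map_smul, hu, hW.ts b hb.1, polar_smul_left, (hmem b).1 hb.2]
    simp
  · intro y hy hp
    have hyu : polar Q u y = 0 := hp u (Submodule.mem_sup_left (Submodule.mem_span_singleton_self u))
    set c := (polar Q w₀ u)⁻¹ * polar Q w₀ y with hc
    have hz : Q (y - c • u) = 0 := by
      have e : y - c • u = y + (-c) • u := by module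
      rw [e, Q_add, hy, QuadraticMap.map_smul, hu, polar_smul_right, polar_comm Q y u, hyu]
      simp
    have hz2 : ∀ w ∈ W, polar Q w (y - c • u) = 0 := by
      intro w hw
      -- decompose `w`
      set d := (polar Q w₀ u)⁻¹ * polar Q w u with hd
      have hk : w - d • w₀ ∈ W ⊓ perp Q (Submodule.span F {u}) := by
        refine ⟨W.sub_mem hw (W.smul_mem _ hw₀), (hmem _).2 ?_⟩
        rw [polar_sub_right, polar_smul_right, polar_comm Q u w, polar_comm Q u w₀, smul_eq_mul, hd]
        field_simp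
        ring
      have h1 : polar Q (w - d • w₀) y = 0 := hp _ (Submodule.mem_sup_right hk)
      have h2 : polar Q (w - d • w₀) u = 0 := by rw [polar_comm]; exact (hmem _).1 hk.2
      have h3 : polar Q w₀ (y - c • u) = 0 := by
        rw [polar_sub_right, polar_smul_right, smul_eq_mul, hc]
        field_simp
        ring
      have e : w = (w - d • w₀) + d • w₀ := by abel
      rw [e, polar_add_left, polar_smul_left, h3, polar_sub_right, polar_smul_right, h1, h2]
      simp
    have h4 : y - c • u ∈ W := hW.max _ hz hz2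
    have h5 : y - c • u ∈ W ⊓ perp Q (Submodule.span F {u}) := by
      refine ⟨h4, (hmem _).2 ?_⟩
      rw [polar_sub_right, polar_smul_right, hyu, polar_self_of_sing hu]
      simp
    have e : y = c • u + (y - c • u) := by abel
    rw [e]
    exact Submodule.add_mem_sup (Submodule.smul_mem _ _ (Submodule.mem_span_singleton_self u)) h5

/-- **Existence of a moved maximal totally singular subspace meeting its image.** -/
theorem exists_moved [Finite F] (hQ : Nondeg Q) {g : V ≃ₗ[F] V} (hg : g ∈ O Q)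
    (hs : ∀ c : F, ∃ v, g v ≠ c • v) (h3 : ∀ W, MaxTS Q W → 3 ≤ finrank F W) :
    ∃ W, MaxTS Q W ∧ (∃ w ∈ W, g w ∉ W) ∧ ∃ w ∈ W, w ≠ 0 ∧ g w ∈ W := by
  classical
  by_contra hcon
  push Not at hcon
  have hcon' : ∀ W, MaxTS Q W → (∃ w ∈ W, w ≠ 0 ∧ g w ∈ W) → ∀ w ∈ W, g w ∈ W := by
    intro W hW h1 w hw
    by_contra h2
    obtain ⟨w', h3, h4, h5⟩ := h1
    exact hcon W hW ⟨w, hw, h2⟩ w' h3 h4 h5
  -- some subspace is moved
  obtain ⟨W₀, -, hW₀⟩ := exists_maxTS (Q := Q) (T := (⊥ : Submodule F V)) (fun x hx => by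
    rw [(Submodule.mem_bot F).1 hx, QuadraticMap.map_zero])
  have hd3 : 3 ≤ finrank F V := (h3 W₀ hW₀).trans (Submodule.finrank_le _)
  obtain ⟨x₀, hx₀, hx₀0⟩ : ∃ x ∈ W₀, x ≠ 0 := by
    have : W₀ ≠ ⊥ := by
      intro h0
      have := h3 W₀ hW₀
      rw [h0, finrank_bot] at this
      omega
    obtain ⟨x, hx, hx0⟩ := Submodule.exists_mem_ne_zero_of_ne_bot this
    exact ⟨x, hx, hx0⟩
  obtain ⟨Wa, hWa, wa, hwa, hwa'⟩ : ∃ W, MaxTS Q W ∧ ∃ w ∈ W, g w ∉ W := by
    by_contra h
    push Not at h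
    obtain ⟨c, hc⟩ := scalar_of_invariant hQ hd3 (hW₀.ts x₀ hx₀) hx₀0 hg h
    obtain ⟨v, hv⟩ := hs c
    exact hv (hc v)
  -- an invariant one
  let q : QuadraticForm F V := LinearMap.BilinMap.toQuadraticMap ((polarBilin Q).compl₂ g.toLinearMap)
  obtain ⟨x, hxa, hx0, hxq⟩ := exists_sing_mem (Q := q) Wa (h3 Wa hWa)
  have hxq' : polar Q x (g x) = 0 := hxq
  have hxs : Q x = 0 := hWa.ts x hxa
  obtain ⟨Wb, hxb, hWb⟩ := exists_maxTS (ts_span_pair hxs (by rw [mem_O.1 hg]; exact hxs) hxq')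
  have hWbi : ∀ w ∈ Wb, g w ∈ Wb := hcon' Wb hWb
    ⟨x, hxb (Submodule.subset_span (by simp)), hx0, hxb (Submodule.subset_span (by simp))⟩
  -- a moved subspace with maximal intersection with `Wb`
  have hb : ∃ n, ∃ W, MaxTS Q W ∧ (∃ w ∈ W, g w ∉ W) ∧ finrank F V - finrank F ↥(W ⊓ Wb) = n :=
    ⟨_, Wa, hWa, ⟨wa, hwa, hwa'⟩, rfl⟩
  obtain ⟨W₁, hW₁, ⟨w₁, hw₁, hw₁'⟩, hn⟩ := Nat.find_spec hb
  have hdim := hW₁.finrank_eq hWb
  have hb3 := h3 Wb hWb
  by_cases hc : finrank F Wb ≤ finrank F ↥(W₁ ⊓ Wb) + 1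
  · exact hw₁' (hcon' W₁ hW₁ (exists_of_neighbour hWbi hb3 hc) w₁ hw₁)
  · push Not at hc
    obtain ⟨u, hub, hu1⟩ : ∃ u ∈ Wb, u ∉ W₁ := by
      by_contra h
      push Not at h
      have h4 : Wb ≤ W₁ ⊓ Wb := fun y hy => ⟨h y hy, hy⟩
      have := Submodule.finrank_mono h4
      omega
    set U := Submodule.span F {u} ⊔ (W₁ ⊓ perp Q (Submodule.span F {u})) with hU
    have hUm : MaxTS Q U := hW₁.neighbour (hWb.ts u hub) hu1
    have hUi : ∀ w ∈ U, g w ∈ U := by
      by_contra hmv
      push Not at hmv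
      have h5 : (W₁ ⊓ Wb) ⊔ Submodule.span F {u} ≤ U ⊓ Wb := by
        refine sup_le (le_inf ?_ inf_le_right) (le_inf le_sup_left
          ((Submodule.span_singleton_le_iff_mem _ _).2 hub))
        refine le_trans ?_ le_sup_right
        rintro k ⟨hk1, hk2⟩
        refine ⟨hk1, fun w hw => ?_⟩
        obtain ⟨c, rfl⟩ := Submodule.mem_span_singleton.1 hw
        rw [polar_smul_left, hWb.ts.pz hub hk2, smul_zero]
      have h6 : W₁ ⊓ Wb < (W₁ ⊓ Wb) ⊔ Submodule.span F {u} := by
        refine lt_of_le_of_ne le_sup_left (fun h7 => hu1 ?_)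
        have h8 : u ∈ W₁ ⊓ Wb := by
          rw [h7]; exact Submodule.mem_sup_right (Submodule.mem_span_singleton_self u)
        exact h8.1
      have h7 := Submodule.finrank_lt_finrank_of_lt h6
      have h8 := Submodule.finrank_mono h5
      have h9 := Submodule.finrank_le (U ⊓ Wb)
      exact Nat.find_min hb (m := finrank F V - finrank F ↥(U ⊓ Wb)) (by omega) ⟨U, hUm, hmv, rfl⟩
    have hcod : finrank F U ≤ finrank F ↥(W₁ ⊓ U) + 1 := by
      have h5 : W₁ ⊓ perp Q (Submodule.span F {u}) ≤ W₁ ⊓ U := le_inf inf_le_left le_sup_right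
      have h6 := Submodule.finrank_mono h5
      have h7 := Submodule.finrank_add_le_finrank_add_finrank (Submodule.span F {u})
        (W₁ ⊓ perp Q (Submodule.span F {u}))
      have h8 : finrank F (Submodule.span F {u}) ≤ 1 := by
        have := finrank_span_le_card (R := F) ({u} : Set V)
        simpa using this
      rw [← hU] at h7
      omega
    exact hw₁' (hcon' W₁ hW₁ (exists_of_neighbour hUi (h3 U hUm) hcod) w₁ hw₁)

end Cfsg.Agent.H434.Corn
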