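import Cfsg.Agent.H434.CornDatum
import Cfsg.Agent.H884.OmegaGL

/-!
# Corners of isometries IV: parity (helper434)

For `g` in the commutator subgroup of `O Q`, `dim W₁ + rank (g₀ - 1)` is even.
-/

set_option autoImplicit false

namespace Cfsg.Agent.H434.Corn

open Module QuadraticMap Cfsg.Agent.LieClassical.OrthCore Cfsg.Agent.LieClassical.OrthTrans

variable {F V : Type*} [Field F] [AddCommGroup V] [Module F V] {Q : QuadraticForm F V}

/-- The doubled form on `V × M`. -/
def dbl (Q : QuadraticForm F V) (M : Submodule F V) : QuadraticForm F (V × M) :=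
  Q.comp (LinearMap.fst F V M) - Q.comp (M.subtype ∘ₗ LinearMap.snd F V M)

theorem dbl_apply (M : Submodule F V) (x : V × M) : dbl Q M x = Q x.1 - Q (x.2 : V) := rfl

theorem polar_dbl (M : Submodule F V) (x y : V × M) :
    polar (dbl Q M) x y = polar Q x.1 y.1 - polar Q (x.2 : V) (y.2 : V) := by
  simp only [polar, dbl_apply, Prod.fst_add, Prod.snd_add, Submodule.coe_add]
  ring

theorem DP.mids_nondeg [FiniteDimensional F V] (hQ : Nondeg Q) {W W' : Submodule F V} (h : DP Q W W')
    {m : V} (hm : m ∈ mids Q W W') (hp : ∀ n ∈ mids Q W W', polar Q m n = 0) : m = 0 := by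
  apply hQ
  intro y
  rw [h.decomp y, polar_add_right, polar_add_right, hp _ (h.mid_mem y), polar_comm Q m, hm.1 _ (h.pr y).2,
    polar_comm Q m, hm.2 _ (h.symm.pr y).2]
  simp

theorem nondeg_dbl [FiniteDimensional F V] (hQ : Nondeg Q) {W W' : Submodule F V} (h : DP Q W W') :
    Nondeg (dbl Q (mids Q W W')) := by
  rintro ⟨v, m⟩ hp
  have h1 : v = 0 := by
    apply hQ
    intro y
    have := hp (y, 0)
    rw [polar_dbl] at this
    simpa [polar_zero_right] using this
  have h2 : (m : V) = 0 := by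
    refine h.mids_nondeg hQ m.2 (fun n hn => ?_)
    have := hp (0, ⟨n, hn⟩)
    rw [polar_dbl] at this
    simpa [polar_zero_right] using this
  exact Prod.ext h1 (Subtype.ext h2)

/-- The extension by the identity. -/
def ext1 (M : Submodule F V) : (V ≃ₗ[F] V) →* ((V × M) ≃ₗ[F] (V × M)) where
  toFun g := g.prodCongr (LinearEquiv.refl F M)
  map_one' := by
    apply LinearEquiv.ext
    intro x
    rfl
  map_mul' a b := by
    apply LinearEquiv.ext
    intro x
    rfl

theorem ext1_apply (M : Submodule F V) (g : V ≃ₗ[F] V) (x : V × M) : ext1 M g x = (g x.1, x.2) := rfl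

theorem ext1_mem (M : Submodule F V) {g : V ≃ₗ[F] V} (hg : g ∈ ⁅O Q, O Q⁆) :
    ext1 M g ∈ ⁅O (dbl Q M), O (dbl Q M)⁆ := by
  have h1 : (O Q).map (ext1 M) ≤ O (dbl Q M) := by
    rintro _ ⟨x, hx, rfl⟩
    rw [mem_O]
    intro v
    rw [dbl_apply, dbl_apply, ext1_apply]
    simp only
    rw [mem_O.1 hx]
  have h2 : ext1 M g ∈ (⁅O Q, O Q⁆).map (ext1 M) := ⟨g, hg, rfl⟩
  rw [Subgroup.map_commutator] at h2
  exact Subgroup.commutator_mono h1 h1 h2

theorem mem_E_O {g : V ≃ₗ[F] V} (hg : g ∈ ⁅O Q, O Q⁆) : g ∈ O Q := by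
  have h : ⁅O Q, O Q⁆ ≤ O Q := by
    rw [Subgroup.commutator_le]
    intro a ha b hb
    exact (O Q).mul_mem ((O Q).mul_mem ((O Q).mul_mem ha hb) ((O Q).inv_mem ha)) ((O Q).inv_mem hb)
  exact h hg

theorem DP.finrank_V [FiniteDimensional F V] {W W' : Submodule F V} (h : DP Q W W') :
    finrank F V = 2 * finrank F W + finrank F (mids Q W W') := by
  let Ψ : (W × W') × mids Q W W' →ₗ[F] V :=
    LinearMap.coprod (LinearMap.coprod W.subtype W'.subtype) (mids Q W W').subtype
  have hΨ : ∀ x, Ψ x = (x.1.1 : V) + x.1.2 + x.2 := fun x => rfl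
  have hΨb : Function.Bijective Ψ := by
    constructor
    · rw [← LinearMap.ker_eq_bot, LinearMap.ker_eq_bot']
      rintro ⟨⟨w, x⟩, m⟩ h0
      rw [hΨ] at h0
      simp only at h0
      have hw : (w : V) = 0 := by
        refine h.nd _ w.2 (fun y hy => ?_)
        have : polar Q ((w : V) + x + m) y = 0 := by rw [h0]; exact polar_zero_left _ _
        rw [polar_add_left, polar_add_left, h.ts'.pz x.2 hy, polar_comm Q (m : V), m.2.2 y hy] at this
        simpa using this
      have hx : (x : V) = 0 := by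
        refine h.nd' _ x.2 (fun y hy => ?_)
        have : polar Q y ((w : V) + x + m) = 0 := by rw [h0]; exact polar_zero_right _ _
        rw [polar_add_right, polar_add_right, h.ts.pz hy w.2, m.2.1 y hy] at this
        simpa using this
      have hm : (m : V) = 0 := by
        rw [hw, hx] at h0
        simpa using h0
      exact Prod.ext (Prod.ext (Subtype.ext hw) (Subtype.ext hx)) (Subtype.ext hm)
    · intro v
      refine ⟨((h.pr v, h.symm.pr v), ⟨h.mid v, h.mid_mem v⟩), ?_⟩
      rw [hΨ]
      simp only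
      nth_rewrite 4 [h.decomp v]
      abel
  have h1 := (LinearEquiv.ofBijective Ψ hΨb).finrank_eq
  rw [finrank_prod, finrank_prod, ← h.finrank_eq] at h1
  omega

/-- **Parity.** -/
theorem Adapted.even_finrank [FiniteDimensional F V] (hQ : Nondeg Q) {g : V ≃ₗ[F] V}
    {W W' H W₁ : Submodule F V} (h : Adapted Q g W W' H W₁) (hHW : H ⊓ W₁ = ⊥)
    (hg : g ∈ ⁅O Q, O Q⁆) : Even (finrank F W₁ + finrank F (LinearMap.range h.dlt)) := by
  classical
  set M := mids Q W W' with hM
  -- `W + Δ`
  let Δ : (W × M) →ₗ[F] (V × M) :=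
    (LinearMap.coprod W.subtype M.subtype).prod (LinearMap.snd F W M)
  have hΔ : ∀ x : W × M, Δ x = ((x.1 : V) + x.2, x.2) := fun x => rfl
  have hΔi : Function.Injective Δ := by
    rw [← LinearMap.ker_eq_bot, LinearMap.ker_eq_bot']
    rintro ⟨w, m⟩ h0
    rw [hΔ] at h0
    have h1 : m = 0 := congrArg Prod.snd h0
    have h2 : (w : V) + m = 0 := congrArg Prod.fst h0
    rw [h1] at h2
    have h3 : (w : V) = 0 := by simpa using h2
    exact Prod.ext (Subtype.ext h3) h1
  set X := LinearMap.range Δ with hX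
  have hXf : finrank F X = finrank F W + finrank F M := by
    rw [hX, LinearMap.finrank_range_of_inj hΔi, finrank_prod]
  have hXs : ∀ x ∈ X, dbl Q M x = 0 := by
    rintro _ ⟨⟨w, m⟩, rfl⟩
    rw [hΔ, dbl_apply, Q_add, h.dp.ts _ w.2, m.2.1 _ w.2]
    ring
  have hmemX : ∀ (v : V) (m : M), (v, m) ∈ X ↔ v - m ∈ W := by
    intro v m
    constructor
    · rintro ⟨⟨w, m'⟩, hw⟩
      rw [hΔ] at hw
      have h1 : m' = m := congrArg Prod.snd hw
      have h2 : (w : V) + m' = v := congrArg Prod.fst hw
      rw [← h2, h1, add_sub_cancel_right]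
      exact w.2
    · intro hv
      refine ⟨(⟨v - m, hv⟩, m), ?_⟩
      rw [hΔ]
      simp
  -- dimensions
  have hVf : finrank F V = 2 * finrank F W + finrank F M := h.dp.finrank_V
  have hdim : finrank F (V × M) = 2 * finrank F X := by
    rw [finrank_prod, hXf, hVf]
    ring
  have key := Cfsg.Agent.H884.OmegaGL.even_finrank_inf_map (nondeg_dbl hQ h.dp) hXs hdim (ext1_mem M hg)
  -- the intersection
  set Y := X ⊓ X.map (ext1 M g).toLinearMap with hY
  have hYmem : ∀ (v : V) (m : M), (v, m) ∈ Y ↔ v - m ∈ W ∧ v - g m ∈ W.map g.toLinearMap := by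
    intro v m
    rw [hY, Submodule.mem_inf, hmemX]
    refine and_congr_right (fun _ => ?_)
    constructor
    · rintro ⟨⟨v', m'⟩, hx, hx'⟩
      rw [SetLike.mem_coe, hmemX] at hx
      have h1 : ext1 M g (v', m') = (v, m) := hx'
      rw [ext1_apply] at h1
      have h2 : m' = m := congrArg Prod.snd h1
      have h3 : g v' = v := congrArg Prod.fst h1
      refine ⟨v' - m', hx, ?_⟩
      show g (v' - m') = _
      rw [map_sub, h3, h2]
    · rintro ⟨w, hw, hw'⟩
      have h1 : g w = v - g m := hw'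
      refine ⟨(w + m, m), ?_, ?_⟩
      · rw [SetLike.mem_coe, hmemX, add_sub_cancel_right]; exact hw
      · show ext1 M g (w + m, m) = _
        rw [ext1_apply]
        simp only
        rw [map_add, h1, sub_add_cancel]
  let π : Y →ₗ[F] M := LinearMap.snd F V M ∘ₗ Y.subtype
  have hπ : ∀ y : Y, π y = (y : V × M).2 := fun y => rfl
  -- characterisation of the range
  have hrange : LinearMap.range π = LinearMap.ker h.dlt := by
    ext m
    rw [LinearMap.mem_range, LinearMap.mem_ker]
    constructor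
    · rintro ⟨⟨⟨v, m'⟩, hy⟩, hm⟩
      have hm' : m' = m := hm
      subst hm'
      rw [hYmem] at hy
      obtain ⟨h1, h2⟩ := hy
      -- `g m - m ∈ W + g W`
      have h3 := h.sub_mid_mem m'.2
      have h4 : h.dlt m' = (v - m') - ((v - g m') + (g m' - h.dp.mid (g m'))) := by
        rw [h.dlt_apply]; abel
      refine Subtype.ext_iff.1 (?_ : (⟨h.dlt m', h.dlt_mem m'⟩ : M) = 0)
      apply Subtype.ext
      refine h.dp.mids_nondeg hQ (h.dlt_mem m') (fun n hn => ?_)
      show polar Q (h.dlt m') n = 0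
      rw [h4, polar_sub_left]
      have h5 : polar Q (v - (m' : V)) n = 0 := hn.1 _ h1
      obtain ⟨w, hw, hw'⟩ := Submodule.add_mem _ h2 h3
      have h6 : polar Q ((v - g m') + (g m' - h.dp.mid (g m'))) n = 0 := by
        rw [← hw']
        exact h.mid_perp hn hw
      rw [h5, h6, sub_zero]
    · intro hm
      refine ⟨⟨((m : V), m), ?_⟩, rfl⟩
      rw [hYmem, sub_self]
      refine ⟨W.zero_mem, ?_⟩
      have h3 := h.sub_mid_mem m.2
      rw [h.dlt_apply, sub_eq_zero] at hm
      rw [hm] at h3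
      have := Submodule.neg_mem _ h3
      rwa [neg_sub] at this
  -- the kernel
  let κ : H →ₗ[F] Y := LinearMap.codRestrict Y (LinearMap.inl F V M ∘ₗ g.toLinearMap ∘ₗ H.subtype) (by
    intro x
    show (g (x : V), (0 : M)) ∈ Y
    rw [hYmem]
    simp only [Submodule.coe_zero, map_zero, sub_zero]
    exact ⟨h.gH _ x.2, ⟨x, h.HW x.2, rfl⟩⟩)
  have hκ : ∀ x : H, (κ x : V × M) = (g (x : V), 0) := fun x => rfl
  have hκi : Function.Injective κ := by
    intro a b hab
    have h1 : (κ a : V × M) = κ b := congrArg Subtype.val hab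
    rw [hκ, hκ] at h1
    exact Subtype.ext (g.injective (congrArg Prod.fst h1))
  have hker : LinearMap.ker π = LinearMap.range κ := by
    ext y
    rw [LinearMap.mem_ker, LinearMap.mem_range]
    constructor
    · intro hy
      obtain ⟨⟨v, m⟩, hvm⟩ := y
      have hm : m = 0 := hy
      subst hm
      have h1 := (hYmem v 0).1 hvm
      simp only [Submodule.coe_zero, map_zero, sub_zero] at h1
      obtain ⟨h2, w, hw, hw'⟩ := h1
      have hw'' : g w = v := hw'
      refine ⟨⟨w, h.mem_H hw (by rw [hw'']; exact h2)⟩, ?_⟩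
      apply Subtype.ext
      rw [hκ]
      exact Prod.ext hw'' rfl
    · rintro ⟨x, rfl⟩
      rfl
  have hrn := LinearMap.finrank_range_add_finrank_ker π
  rw [hrange, hker, LinearMap.finrank_range_of_inj hκi] at hrn
  have hrn2 : finrank F (LinearMap.range h.dlt) + finrank F (LinearMap.ker h.dlt) = finrank F M :=
    LinearMap.finrank_range_add_finrank_ker h.dlt
  have hW : finrank F W = finrank F H + finrank F W₁ := by
    have h1 := Submodule.finrank_sup_add_finrank_inf_eq H W₁
    rw [h.sup, hHW, finrank_bot, add_zero] at h1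
    exact h1
  have e1 : finrank F Y = finrank F (LinearMap.ker h.dlt) + finrank F H := hrn.symm
  have e2 : finrank F X = finrank F H + finrank F W₁ + (finrank F (LinearMap.range h.dlt) +
      finrank F (LinearMap.ker h.dlt)) := by
    rw [hXf, hW]
    exact congrArg _ hrn2.symm
  have key' : Even (finrank F Y + finrank F X) := key
  rw [e1, e2] at key'
  rw [Nat.even_iff] at key' ⊢
  omega

end Cfsg.Agent.H434.Corn
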