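import Cfsg.Agent.H434.CornScale
import Cfsg.Agent.H434.CornMove
import Cfsg.Agent.H434.CornParity
import Cfsg.Agent.H141.SpinOdd

/-!
# Corners of isometries VI: the base corner theorem (helper434)

`baseCorner` : a non-scalar `g ∈ [O Q, O Q]` has, if the maximal totally singular subspaces have dimension `m ≥ 3`,
a frame of length `m` with Schur complement `1` and corner `A`, `det A = 1`, `A = 1` or (`A` not scalar and
`rank (A - 1) ≥ 2`).
-/

set_option autoImplicit false

namespace Cfsg.Agent.H434.Corn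

open Module QuadraticMap Cfsg.Agent.LieClassical.OrthCore Cfsg.Agent.LieClassical.OrthTrans
open Cfsg.Agent.H140.OreO (Frame SchurOne BaseCorner)

variable {F V : Type*} [Field F] [AddCommGroup V] [Module F V] {Q : QuadraticForm F V}

theorem sum_repr_coe {W : Submodule F V} {n : ℕ} (b : Basis (Fin n) F W) {w : V} (hw : w ∈ W) :
    ∑ i, b.repr ⟨w, hw⟩ i • (b i : V) = w := by
  have h := congrArg W.subtype (b.sum_repr ⟨w, hw⟩)
  rw [map_sum] at h
  simpa only [map_smul, Submodule.subtype_apply] using h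

/-- The frame of a partner. -/
theorem Partner.exists_frame [FiniteDimensional F V] {g : V ≃ₗ[F] V} {W W' : Submodule F V} {A : W →ₗ[F] W}
    (P : Partner Q g W W' A) {m : ℕ} (hm : finrank F W = m) :
    ∃ (w w' : Fin m → V) (b : Basis (Fin m) F W), Frame Q w w' ∧ SchurOne Q g w w' ∧
      H140.OreO.corner Q g w w' = LinearMap.toMatrix b b A := by
  classical
  subst hm
  let b := Module.finBasis F W
  let b' : Basis (Fin (finrank F W)) F W' := b.dualBasis.map P.dp.symm.equiv.symm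
  have hb' : ∀ (i : Fin (finrank F W)) (w : W), polar Q (b' i : V) (w : V) = b.coord i w := by
    intro i w
    have h1 : b' i = P.dp.symm.equiv.symm (b.dualBasis i) := Basis.map_apply _ _ _
    rw [h1, P.dp.symm.equiv_symm, Basis.coe_dualBasis]
  have hbb : ∀ i (w : W), polar Q (w : V) (b' i : V) = b.coord i w := by
    intro i w
    rw [polar_comm, hb']
  refine ⟨fun i => b i, fun i => b' i, b, ?_, ?_, ?_⟩
  · refine ⟨fun i => P.dp.ts _ (b i).2, fun i => P.dp.ts' _ (b' i).2, fun i j => P.dp.ts.pz (b i).2 (b j).2,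
      fun i j => P.dp.ts'.pz (b' i).2 (b' j).2, fun i j => ?_⟩
    rw [hbb, Basis.coord_apply, Basis.repr_self, Finsupp.single_apply]
  · intro v hv
    have hvW : v ∈ perp Q W := by
      intro w hw
      have h2 : w = ∑ i, b.repr ⟨w, hw⟩ i • (b i : V) := (sum_repr_coe b hw).symm
      rw [h2, ← polarBilin_apply_apply, map_sum, LinearMap.sum_apply]
      refine Finset.sum_eq_zero (fun i _ => ?_)
      rw [map_smul, LinearMap.smul_apply, polarBilin_apply_apply, (hv i).1, smul_zero]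
    have hvW' : v ∈ perp Q W' := by
      intro w hw
      have h2 : w = ∑ i, b'.repr ⟨w, hw⟩ i • (b' i : V) := (sum_repr_coe b' hw).symm
      rw [h2, ← polarBilin_apply_apply, map_sum, LinearMap.sum_apply]
      refine Finset.sum_eq_zero (fun i _ => ?_)
      rw [map_smul, LinearMap.smul_apply, polarBilin_apply_apply, (hv i).2, smul_zero]
    obtain ⟨w, hw, hgw⟩ := P.mid v ⟨hvW, hvW'⟩
    refine ⟨b.repr ⟨w, hw⟩, b'.repr ⟨g (v + w) - v, hgw⟩, ?_⟩
    rw [sum_repr_coe b hw, sum_repr_coe b' hgw]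
    abel
  · ext i j
    rw [H140.OreO.corner_apply, P.corner (b j) _ (b' i).2, hbb, LinearMap.toMatrix_apply]
    rfl

theorem GoodC.toCorner {W : Submodule F V} [FiniteDimensional F V] {A : W →ₗ[F] W} (h : GoodC A) {m : ℕ}
    (b : Basis (Fin m) F W) :
    LinearMap.toMatrix b b A = 1 ∨ ((∀ c : F, LinearMap.toMatrix b b A ≠ c • (1 : Matrix (Fin m) (Fin m) F)) ∧
      2 ≤ (LinearMap.toMatrix b b A - 1).rank) := by
  rcases h with h | ⟨h1, h2⟩
  · left
    rw [h, LinearMap.toMatrix_id]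
  · right
    refine ⟨fun c hc => h1 c ?_, ?_⟩
    · apply (LinearMap.toMatrix b b).injective
      rw [hc, map_smul, LinearMap.toMatrix_id]
    · have e : LinearMap.toMatrix b b A - 1 = LinearMap.toMatrix b b (A - LinearMap.id) := by
        rw [map_sub, LinearMap.toMatrix_id]
      rw [e, Matrix.rank_eq_finrank_range_toLin _ b b, Matrix.toLin_toMatrix]
      exact h2

theorem isSquare_corner [Finite F] [FiniteDimensional F V] (hQ : Nondeg Q) {n : ℕ}
    {w w' : Fin n → V} (hf : Frame Q w w') {g : V ≃ₗ[F] V} (hg : g ∈ ⁅O Q, O Q⁆)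
    (hs : SchurOne Q g w w') : IsSquare (H140.OreO.corner Q g w w').det := by
  by_cases h2 : (2 : F) = 0
  · have : CharP F 2 := CharTwo.of_one_ne_zero_of_two_eq_zero one_ne_zero h2
    exact FiniteField.isSquare_of_char_two (ringChar.eq F 2) _
  · exact H141.SpinFacts.isSquare_det_corner h2 hQ hf hg hs

/-- **The base corner theorem.** -/
theorem baseCorner [Finite F] [FiniteDimensional F V] (hQ : Nondeg Q) {g : V ≃ₗ[F] V}
    (hg : g ∈ ⁅O Q, O Q⁆) (hs : ∀ c : F, ∃ v, g v ≠ c • v) {m : ℕ} (hm : 3 ≤ m)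
    (hWm : ∀ W, MaxTS Q W → finrank F W = m) : BaseCorner m Q g := by
  classical
  have hgO : g ∈ O Q := mem_E_O hg
  obtain ⟨W, hW, ⟨w₀, hw₀, hw₀'⟩, w₁, hw₁, hw₁0, hw₁'⟩ := exists_moved hQ hgO hs
    (fun W hW => by rw [hWm W hW]; exact hm)
  obtain ⟨W', H, W₁, h, hHW, hmem⟩ := exists_adapted hQ hgO hW
  have heven := h.even_finrank hQ hHW hg
  -- `W₁ ≠ 0`
  have hW₁ne : ∃ w ∈ W₁, w ≠ 0 := by
    obtain ⟨a, ha, b, hb, hab⟩ := h.split hw₀
    refine ⟨b, hb, ?_⟩
    rintro rfl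
    rw [add_zero] at hab
    rw [hab] at hw₀'
    exact hw₀' (h.gH a ha)
  have hd : 1 ≤ finrank F W₁ := by
    obtain ⟨w, hw, hw0⟩ := hW₁ne
    rw [Nat.one_le_iff_ne_zero, Ne, Submodule.finrank_eq_zero]
    intro h0
    rw [h0, Submodule.mem_bot] at hw
    exact hw0 hw
  -- the middle space has dimension at most `2`
  have hM2 : finrank F (mids Q W W') ≤ 2 := by
    by_contra hcon
    push Not at hcon
    obtain ⟨x, hx, hx0, hxs⟩ := Cfsg.Agent.LieClassical.OrthFinite.exists_sing_mem (Q := Q) (mids Q W W') (by omega)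
    exact hx0 (h.dp.anis hW hx hxs)
  have he : finrank F (LinearMap.range h.dlt) ≤ 2 := (LinearMap.finrank_range_le _).trans hM2
  obtain ⟨l, hl⟩ : ∃ l, finrank F W₁ = finrank F (LinearMap.range h.dlt) + (l + l) := by
    rw [Nat.even_iff] at heven
    refine ⟨(finrank F W₁ - finrank F (LinearMap.range h.dlt)) / 2, ?_⟩
    omega
  obtain ⟨A, t, D, hA⟩ := h.exists_datum hl
  obtain ⟨W'', P⟩ := exists_partner_of_datum h D
  obtain ⟨w, w', b, hf, hS, hc⟩ := P.exists_frame (hWm W hW)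
  have hsq := isSquare_corner hQ hf hg hS
  rw [hc, LinearMap.det_toMatrix] at hsq
  obtain ⟨s, hs'⟩ := hsq
  have hdetA : LinearMap.det A ≠ 0 := by
    have h1 : IsUnit (LinearMap.det A) := by
      rw [← LinearMap.isUnit_iff_isUnit_det, Module.End.isUnit_iff]
      exact ⟨hA, LinearMap.injective_iff_surjective.1 hA⟩
    exact h1.ne_zero
  have hs0 : s ≠ 0 := by
    rintro rfl
    rw [mul_zero] at hs'
    exact hdetA hs'
  obtain ⟨A', t', D', hA'⟩ := h.exists_scale hW₁ne D (inv_ne_zero hs0)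
  have hdet' : LinearMap.det A' = 1 := by
    rw [hA', hs']
    field_simp
  -- adjust the rank
  have hH0 : H.comap W.subtype ≠ ⊥ := by
    intro h0
    have h1 : (⟨w₁, hw₁⟩ : W) ∈ H.comap W.subtype := h.mem_H hw₁ hw₁'
    rw [h0, Submodule.mem_bot] at h1
    exact hw₁0 (congrArg Subtype.val h1)
  have hH1 : H.comap W.subtype ≠ ⊤ := by
    intro h0
    have h1 : (⟨w₀, hw₀⟩ : W) ∈ H.comap W.subtype := by rw [h0]; trivial
    exact hw₀' (h.gH w₀ h1)
  obtain ⟨φ, hφ1, hφ2, hφ3, hφ4⟩ := rank_adjust hH0 hH1 hdet'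
  have D'' := D'.add h.dp.ts hgO (φ := φ) (fun w hw => hφ1 w (h.mem_H w.2 hw)) (fun w => by
    obtain ⟨x, hx, hxe⟩ := hφ2 w
    rw [← hxe, D'.fixA x (h.gH _ hx)]
    exact ⟨x, x.2, rfl⟩)
  obtain ⟨W''', P'⟩ := exists_partner_of_datum h D''
  obtain ⟨w, w', b, hf, hS, hc⟩ := P'.exists_frame (hWm W hW)
  refine ⟨w, w', hf, hS, ?_, ?_⟩
  · rw [hc, LinearMap.det_toMatrix, hφ3]
  · rw [hc]
    exact hφ4.toCorner b

/-- The dimension of the maximal totally singular subspaces. -/
theorem MaxTS.bounds [Finite F] [FiniteDimensional F V] (hQ : Nondeg Q) {W : Submodule F V}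
    (hW : MaxTS Q W) : 2 * finrank F W ≤ finrank F V ∧ finrank F V ≤ 2 * finrank F W + 2 := by
  obtain ⟨W', -, hdp⟩ := exists_partner hQ hW.ts (X := ⊥) (fun x hx => by
    rw [(Submodule.mem_bot F).1 hx, QuadraticMap.map_zero]) (fun x hx _ => (Submodule.mem_bot F).1 hx)
  have h1 := hdp.finrank_V
  have hM2 : finrank F (mids Q W W') ≤ 2 := by
    by_contra hcon
    push Not at hcon
    obtain ⟨x, hx, hx0, hxs⟩ := Cfsg.Agent.LieClassical.OrthFinite.exists_sing_mem (Q := Q) (mids Q W W')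
      (by omega)
    exact hx0 (hdp.anis hW hx hxs)
  omega

/-- **The base corner theorem**, without knowledge of the Witt index. -/
theorem exists_baseCorner [Finite F] [FiniteDimensional F V] (hQ : Nondeg Q) (hN : 7 ≤ finrank F V)
    {g : V ≃ₗ[F] V} (hg : g ∈ ⁅O Q, O Q⁆) (hs : ∀ c : F, ∃ v, g v ≠ c • v) :
    ∃ m, 3 ≤ m ∧ 2 * m ≤ finrank F V ∧ finrank F V ≤ 2 * m + 2 ∧ BaseCorner m Q g := by
  obtain ⟨W, -, hW⟩ := exists_maxTS (Q := Q) (T := (⊥ : Submodule F V)) (fun x hx => by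
    rw [(Submodule.mem_bot F).1 hx, QuadraticMap.map_zero])
  have h1 := hW.bounds hQ
  refine ⟨finrank F W, by omega, h1.1, h1.2, baseCorner hQ hg hs (by omega) (fun U hU => ?_)⟩
  exact hW.finrank_eq hU

end Cfsg.Agent.H434.Corn
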