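import Mathlib
import Cfsg.Agent.H140.OreO.RecC
import Cfsg.Agent.H141.SpinOdd

/-!
# `-1 ∈ Ω(V)`, `dim V = 8`, `q` odd: `V` has a frame of length four (helper434)
-/

set_option autoImplicit false

namespace Cfsg.Agent.H434.FrameFour

open Module QuadraticMap Matrix Cfsg.Agent.LieClassical.OrthCore Cfsg.Agent.LieClassical.OrthTrans
  Cfsg.Agent.LieClassical.OrthFinite Cfsg.Agent.H140.OreO Cfsg.Agent.H141.SpinFacts Cfsg.Agent.H160.QSpin

variable {F V : Type*} [Field F] [AddCommGroup V] [Module F V] {Q : QuadraticForm F V}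

theorem neg_mem_O : (LinearEquiv.neg F : V ≃ₗ[F] V) ∈ O Q := fun v => QuadraticMap.map_neg Q v

/-- `-1` in the model. -/
theorem neg_model (n : ℕ) (W : Type*) [AddCommGroup W] [Module F W] :
    (LinearEquiv.neg F : M F W n ≃ₗ[F] M F W n) =
      1 * lev (-1 : GL (Fin n) F) (LinearEquiv.neg F : W ≃ₗ[F] W) * 1 := by
  rw [one_mul, mul_one]
  apply LinearEquiv.ext
  intro x
  rw [lev_apply]
  have h1 : (ti (-1 : GL (Fin n) F) : Matrix (Fin n) (Fin n) F) = -1 := by
    rw [ti_coe, inv_neg, inv_one, Units.val_neg, Units.val_one, transpose_neg, transpose_one]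
  rw [h1]
  show -x = _
  refine Prod.ext ?_ (Prod.ext ?_ ?_)
  · show -x.1 = ((-1 : GL (Fin n) F) : Matrix (Fin n) (Fin n) F) *ᵥ x.1
    rw [Units.val_neg, Units.val_one, neg_mulVec, one_mulVec]
  · rfl
  · show -x.2.2 = (-1 : Matrix (Fin n) (Fin n) F) *ᵥ x.2.2
    rw [neg_mulVec, one_mulVec]

/-- A nonsingular vector. -/
theorem exists_ns [FiniteDimensional F V] (hQ : Nondeg Q) (hd : 0 < finrank F V) : ∃ v : V, Q v ≠ 0 := by
  by_contra hcon
  push Not at hcon
  have : Nontrivial V := Module.finrank_pos_iff.1 hd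
  obtain ⟨x, hx⟩ := exists_ne (0 : V)
  apply hx
  apply hQ
  intro y
  have h1 := Q_add (Q := Q) x y
  rw [hcon, hcon, hcon] at h1
  linear_combination -h1

/-- A plane on which `-1` has spinor norm `-1` times a square is hyperbolic. -/
theorem exists_sing_of_spin [Finite F] [FiniteDimensional F V] [Finite V] (h2 : (2 : F) ≠ 0) (hQ : Nondeg Q)
    (hd : finrank F V = 2) (hs : spin Q ⟨LinearEquiv.neg F, neg_mem_O⟩ = chi (-1 : F)) :
    ∃ x : V, x ≠ 0 ∧ Q x = 0 := by
  obtain ⟨a, ha⟩ := exists_ns hQ (by omega)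
  -- the orthogonal vector
  obtain ⟨b, hb0, hab⟩ : ∃ b : V, b ≠ 0 ∧ polar Q a b = 0 := by
    let f : V →ₗ[F] F := polarBilin Q a
    have h1 := LinearMap.finrank_range_add_finrank_ker f
    have h3 : finrank F (LinearMap.range f) ≤ 1 := by
      refine (Submodule.finrank_le _).trans ?_
      rw [finrank_self]
    have h4 : LinearMap.ker f ≠ ⊥ := by
      intro h0
      rw [h0, finrank_bot] at h1
      omega
    obtain ⟨b, hb, hb0⟩ := Submodule.exists_mem_ne_zero_of_ne_bot h4
    exact ⟨b, hb0, hb⟩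
  have haa : polar Q a a = 2 * Q a := by rw [polar_self']
  by_cases hb : Q b = 0
  · exact ⟨b, hb0, hb⟩
  have hbb : polar Q b b = 2 * Q b := by rw [polar_self']
  -- `a, b` span
  have hspan : ∀ v : V, ∃ s t : F, v = s • a + t • b := by
    have hli : LinearIndependent F ![a, b] := by
      rw [LinearIndependent.pair_iff]
      intro s t hst
      have h1 : polar Q a (s • a + t • b) = 0 := by rw [hst]; exact polar_zero_right _ _
      have h3 : polar Q b (s • a + t • b) = 0 := by rw [hst]; exact polar_zero_right _ _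
      rw [polar_add_right, polar_smul_right, polar_smul_right, haa, hab] at h1
      rw [polar_add_right, polar_smul_right, polar_smul_right, hbb, polar_comm Q b a, hab] at h3
      simp only [smul_eq_mul, mul_zero, add_zero, zero_add] at h1 h3
      refine ⟨(mul_eq_zero.1 h1).resolve_right (mul_ne_zero h2 ha), (mul_eq_zero.1 h3).resolve_right
        (mul_ne_zero h2 hb)⟩
    have htop : Submodule.span F (Set.range ![a, b]) = ⊤ :=
      hli.span_eq_top_of_card_eq_finrank (by simp [hd])
    intro v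
    have hv : v ∈ Submodule.span F (Set.range ![a, b]) := by rw [htop]; trivial
    rw [Matrix.range_cons, Matrix.range_cons, Matrix.range_empty, Set.union_empty,
      Set.singleton_union, Submodule.mem_span_pair] at hv
    obtain ⟨s, t, h⟩ := hv
    exact ⟨s, t, h.symm⟩
  have e : (⟨LinearEquiv.neg F, neg_mem_O⟩ : O Q) = ⟨refl Q a ha, refl_mem_O ha⟩ * ⟨refl Q b hb, refl_mem_O hb⟩ := by
    apply Subtype.ext
    apply LinearEquiv.ext
    intro v
    obtain ⟨s, t, rfl⟩ := hspan v
    show -(s • a + t • b) = refl Q a ha (refl Q b hb (s • a + t • b))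
    rw [refl_apply hb, polar_add_right, polar_smul_right, polar_smul_right, polar_comm Q b a, hab, hbb,
      refl_apply ha]
    simp only [polar_sub_right, polar_add_right, polar_smul_right, haa, hab, smul_eq_mul]
    have e1 : (Q b)⁻¹ * (s * 0 + t * (2 * Q b)) = 2 * t := by field_simp; ring
    rw [e1]
    have e2 : (Q a)⁻¹ * (s * (2 * Q a) + t * 0 - 2 * t * 0) = 2 * s := by field_simp; ring
    rw [e2]
    module
  rw [e, map_mul, spin_refl' h2 ha, spin_refl' h2 hb, neg_mul_neg, ← chi_mul ha hb] at hs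
  -- `- Q a Q b` is a square
  have h3 : IsSquare (-(Q a * Q b)) := by
    rw [← chi_eq_one_iff]
    have h4 : -(Q a * Q b) = (-1) * (Q a * Q b) := by ring
    rw [h4, chi_mul (neg_ne_zero.2 one_ne_zero) (mul_ne_zero ha hb), hs, ← chi_mul (neg_ne_zero.2 one_ne_zero)
      (neg_ne_zero.2 one_ne_zero), chi_eq_one_iff]
    exact ⟨1, by ring⟩
  obtain ⟨r, hr⟩ := h3
  refine ⟨r • a + Q a • b, ?_, ?_⟩
  · intro h0
    have h5 : polar Q b (r • a + Q a • b) = 0 := by rw [h0]; exact polar_zero_right _ _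
    rw [polar_add_right, polar_smul_right, polar_smul_right, hbb, polar_comm Q b a, hab] at h5
    simp only [smul_eq_mul, mul_zero, zero_add] at h5
    exact mul_ne_zero ha (mul_ne_zero h2 hb) h5
  · rw [Q_add, QuadraticMap.map_smul, QuadraticMap.map_smul, polar_smul_left, polar_smul_right, hab]
    simp only [smul_eq_mul]
    linear_combination -(Q a) * hr

/-- **FRAME4.** -/
theorem exists_frame_four [Finite F] [FiniteDimensional F V] (h2 : (2 : F) ≠ 0) (hQ : Nondeg Q)
    (hd : finrank F V = 8) (h : (LinearEquiv.neg F : V ≃ₗ[F] V) ∈ ⁅O Q, O Q⁆) :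
    ∃ w w' : Fin 4 → V, Frame Q w w' := by
  have : Finite V := Module.finite_of_finite F
  obtain ⟨w, w', hf⟩ := exists_frame hQ 3 (by omega)
  have hd2 : finrank F (perp Q w w') = 2 := by
    have := hf.finrank_perp
    omega
  have e : hf.toModel.symm.trans ((LinearEquiv.neg F : V ≃ₗ[F] V).trans hf.toModel) =
      1 * lev (-1 : GL (Fin 3) F) (LinearEquiv.neg F : perp Q w w' ≃ₗ[F] perp Q w w') * 1 := by
    rw [← neg_model]
    apply LinearEquiv.ext
    intro x
    show hf.toModel (-(hf.toModel.symm x)) = -x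
    rw [map_neg, LinearEquiv.apply_symm_apply]
  have h3 := (frame_odd h2 hQ hf h (Subgroup.one_mem _) (Subgroup.one_mem _) neg_mem_O e).2
  have h4 : ((-1 : GL (Fin 3) F) : Matrix (Fin 3) (Fin 3) F).det = -1 := by
    rw [Units.val_neg, Units.val_one, det_neg, det_one]
    simp
    norm_num
  rw [h4] at h3
  obtain ⟨x, hx0, hx⟩ := exists_sing_of_spin h2 (hf.nondeg_res hQ) hd2 h3
  obtain ⟨y, hy⟩ := exists_hyp (hf.nondeg_res hQ) hx hx0
  exact ⟨_, _, hf.cons x.2 y.2 ⟨hy.left, hy.right, hy.pair⟩⟩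

end Cfsg.Agent.H434.FrameFour
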