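import Mathlib
import Cfsg.Agent.LieClassical.OrthFinite

/-!
# Corners of isometries I: totally singular subspaces, dual pairs (helper434)

* `TS Q W`, `MaxTS Q W`: (maximal) totally singular subspaces;
* `DP Q W W'`: dual pairs of totally singular subspaces;
* existence of a dual partner containing a prescribed totally singular subspace.
-/

set_option autoImplicit false

namespace Cfsg.Agent.H434.Corn

open Module QuadraticMap Cfsg.Agent.LieClassical.OrthCore Cfsg.Agent.LieClassical.OrthTrans

variable {F V : Type*} [Field F] [AddCommGroup V] [Module F V] {Q : QuadraticForm F V}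

/-- Totally singular subspaces. -/
def TS (Q : QuadraticForm F V) (W : Submodule F V) : Prop := ∀ x ∈ W, Q x = 0

theorem TS.pz {W : Submodule F V} (h : TS Q W) {x y : V} (hx : x ∈ W) (hy : y ∈ W) :
    polar Q x y = 0 := by
  have h1 := Q_add (Q := Q) x y
  rw [h _ (W.add_mem hx hy), h x hx, h y hy] at h1
  linear_combination -h1

theorem TS.mono {W W' : Submodule F V} (h : TS Q W) (hle : W' ≤ W) : TS Q W' := fun x hx => h x (hle hx)

/-- Maximal totally singular subspaces. -/
structure MaxTS (Q : QuadraticForm F V) (W : Submodule F V) : Prop where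
  ts : TS Q W
  max : ∀ x, Q x = 0 → (∀ w ∈ W, polar Q w x = 0) → x ∈ W

theorem TS.sup_span {W : Submodule F V} (h : TS Q W) {x : V} (hx : Q x = 0)
    (hp : ∀ w ∈ W, polar Q w x = 0) : TS Q (W ⊔ Submodule.span F {x}) := by
  intro y hy
  obtain ⟨w, hw, z, hz, rfl⟩ := Submodule.mem_sup.1 hy
  obtain ⟨c, rfl⟩ := Submodule.mem_span_singleton.1 hz
  rw [Q_add, h w hw, QuadraticMap.map_smul, hx, polar_smul_right, hp w hw]
  simp

theorem exists_maxTS [FiniteDimensional F V] {T : Submodule F V} (hT : TS Q T) :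
    ∃ W, T ≤ W ∧ MaxTS Q W := by
  classical
  have hb : ∃ n, ∃ W : Submodule F V, T ≤ W ∧ TS Q W ∧ finrank F V - finrank F W = n := ⟨_, T, le_rfl, hT, rfl⟩
  obtain ⟨W, hTW, hW, hn⟩ := Nat.find_spec hb
  refine ⟨W, hTW, hW, fun x hx hp => ?_⟩
  by_contra hxW
  have hlt : W < W ⊔ Submodule.span F {x} := by
    refine lt_of_le_of_ne le_sup_left (fun h => hxW ?_)
    rw [h]
    exact Submodule.mem_sup_right (Submodule.mem_span_singleton_self x)
  have h1 := Submodule.finrank_lt_finrank_of_lt hlt
  have h2 := Submodule.finrank_le (W ⊔ Submodule.span F {x})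
  exact Nat.find_min hb (m := finrank F V - finrank F ↥(W ⊔ Submodule.span F {x})) (by omega)
    ⟨_, hTW.trans le_sup_left, hW.sup_span hx hp, rfl⟩

theorem MaxTS.map {W : Submodule F V} (h : MaxTS Q W) {g : V ≃ₗ[F] V} (hg : g ∈ O Q) :
    MaxTS Q (W.map g.toLinearMap) where
  ts := by
    rintro _ ⟨x, hx, rfl⟩
    show Q (g x) = 0
    rw [mem_O.1 hg]
    exact h.ts x hx
  max := by
    intro y hy hp
    obtain ⟨x, rfl⟩ := g.surjective y
    refine ⟨x, h.max x ?_ (fun w hw => ?_), rfl⟩
    · rw [← mem_O.1 hg]; exact hy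
    · rw [← polar_map hg]; exact hp _ ⟨w, hw, rfl⟩

/-- The orthogonal space. -/
def perp (Q : QuadraticForm F V) (W : Submodule F V) : Submodule F V where
  carrier := {v | ∀ w ∈ W, polar Q w v = 0}
  add_mem' {a b} ha hb := fun w hw => by rw [polar_add_right, ha w hw, hb w hw, add_zero]
  zero_mem' := fun w _ => by rw [polar_zero_right]
  smul_mem' c {a} ha := fun w hw => by rw [polar_smul_right, ha w hw, smul_zero]

theorem mem_perp {W : Submodule F V} {v : V} : v ∈ perp Q W ↔ ∀ w ∈ W, polar Q w v = 0 := Iff.rfl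

/-- Dual pairs of totally singular subspaces. -/
structure DP (Q : QuadraticForm F V) (W W' : Submodule F V) : Prop where
  ts : TS Q W
  ts' : TS Q W'
  nd : ∀ w ∈ W, (∀ x ∈ W', polar Q w x = 0) → w = 0
  nd' : ∀ x ∈ W', (∀ w ∈ W, polar Q w x = 0) → x = 0

theorem DP.symm {W W' : Submodule F V} (h : DP Q W W') : DP Q W' W where
  ts := h.ts'
  ts' := h.ts
  nd := fun w hw hp => h.nd' w hw (fun x hx => by rw [polar_comm]; exact hp x hx)
  nd' := fun w hw hp => h.nd w hw (fun x hx => by rw [polar_comm]; exact hp x hx)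

/-- The pairing. -/
noncomputable def pairing (Q : QuadraticForm F V) (W W' : Submodule F V) : W →ₗ[F] Dual F W' :=
  (polarBilin Q).domRestrict₁₂ W W'

theorem pairing_apply {W W' : Submodule F V} (w : W) (x : W') :
    pairing Q W W' w x = polar Q (w : V) (x : V) := rfl

theorem DP.pairing_injective {W W' : Submodule F V} (h : DP Q W W') :
    Function.Injective (pairing Q W W') := by
  rw [← LinearMap.ker_eq_bot, LinearMap.ker_eq_bot']
  intro w hw
  apply Subtype.ext
  refine h.nd w w.2 (fun x hx => ?_)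
  have := LinearMap.congr_fun hw ⟨x, hx⟩
  exact this

variable [FiniteDimensional F V]

theorem DP.finrank_eq {W W' : Submodule F V} (h : DP Q W W') : finrank F W = finrank F W' := by
  apply le_antisymm
  · have := LinearMap.finrank_le_finrank_of_injective h.pairing_injective
    rwa [Subspace.dual_finrank_eq] at this
  · have := LinearMap.finrank_le_finrank_of_injective h.symm.pairing_injective
    rwa [Subspace.dual_finrank_eq] at this

/-- The pairing as an equivalence. -/
noncomputable def DP.equiv {W W' : Submodule F V} (h : DP Q W W') : W ≃ₗ[F] Dual F W' :=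
  LinearEquiv.ofInjectiveOfFinrankEq (pairing Q W W') h.pairing_injective
    (by rw [Subspace.dual_finrank_eq, h.finrank_eq])

theorem DP.equiv_apply {W W' : Submodule F V} (h : DP Q W W') (w : W) (x : W') :
    h.equiv w x = polar Q (w : V) (x : V) := by
  rw [DP.equiv]
  rfl

theorem DP.equiv_symm {W W' : Submodule F V} (h : DP Q W W') (f : Dual F W') (x : W') :
    polar Q (h.equiv.symm f : V) (x : V) = f x := by
  rw [← h.equiv_apply, LinearEquiv.apply_symm_apply]

theorem DP.exists_eq {W W' : Submodule F V} (h : DP Q W W') (f : Dual F W') :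
    ∃ w ∈ W, ∀ x : W', polar Q w (x : V) = f x :=
  ⟨_, (h.equiv.symm f).2, h.equiv_symm f⟩

/-- Projection to `W` along `W'^⊥`. -/
noncomputable def DP.pr {W W' : Submodule F V} (h : DP Q W W') : V →ₗ[F] W :=
  h.equiv.symm.toLinearMap ∘ₗ (LinearMap.domRestrict₂ (polarBilin Q) W')

theorem DP.polar_pr {W W' : Submodule F V} (h : DP Q W W') (v : V) {x : V} (hx : x ∈ W') :
    polar Q (h.pr v : V) x = polar Q v x := by
  have := h.equiv_symm (LinearMap.domRestrict₂ (polarBilin Q) W' v) ⟨x, hx⟩
  exact this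

theorem DP.pr_of_mem {W W' : Submodule F V} (h : DP Q W W') {w : V} (hw : w ∈ W) :
    (h.pr w : V) = w := by
  have h1 : (h.pr w : V) - w = 0 := by
    refine h.nd _ (W.sub_mem (h.pr w).2 hw) (fun x hx => ?_)
    rw [polar_sub_left, h.polar_pr w hx, sub_self]
  exact sub_eq_zero.1 h1

/-- The middle part. -/
noncomputable def DP.mid {W W' : Submodule F V} (h : DP Q W W') : V →ₗ[F] V :=
  LinearMap.id - W.subtype ∘ₗ h.pr - W'.subtype ∘ₗ h.symm.pr

theorem DP.mid_apply {W W' : Submodule F V} (h : DP Q W W') (v : V) :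
    h.mid v = v - h.pr v - h.symm.pr v := rfl

theorem DP.mid_mem_perp {W W' : Submodule F V} (h : DP Q W W') (v : V) : h.mid v ∈ perp Q W := by
  intro w hw
  rw [h.mid_apply, polar_sub_right, polar_sub_right, h.ts.pz hw (h.pr v).2, polar_comm Q w
    (h.symm.pr v : V), h.symm.polar_pr v hw, polar_comm Q v w]
  ring

theorem DP.mid_mem_perp' {W W' : Submodule F V} (h : DP Q W W') (v : V) : h.mid v ∈ perp Q W' := by
  intro w hw
  rw [h.mid_apply, polar_sub_right, polar_sub_right, h.ts'.pz hw (h.symm.pr v).2, polar_comm Q w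
    (h.pr v : V), h.polar_pr v hw, polar_comm Q v w]
  ring

theorem DP.decomp {W W' : Submodule F V} (h : DP Q W W') (v : V) :
    v = h.mid v + h.pr v + h.symm.pr v := by
  rw [h.mid_apply]; abel

/-- The middle space. -/
def mids (Q : QuadraticForm F V) (W W' : Submodule F V) : Submodule F V := perp Q W ⊓ perp Q W'

theorem DP.mid_mem {W W' : Submodule F V} (h : DP Q W W') (v : V) : h.mid v ∈ mids Q W W' :=
  ⟨h.mid_mem_perp v, h.mid_mem_perp' v⟩

theorem DP.pr_of_perp {W W' : Submodule F V} (h : DP Q W W') {v : V} (hv : v ∈ perp Q W') :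
    (h.pr v : V) = 0 := by
  refine h.nd _ (h.pr v).2 (fun x hx => ?_)
  rw [h.polar_pr v hx, polar_comm]
  exact hv x hx

theorem DP.mid_of_mem {W W' : Submodule F V} (h : DP Q W W') {v : V} (hv : v ∈ mids Q W W') :
    h.mid v = v := by
  rw [h.mid_apply, h.pr_of_perp hv.2, h.symm.pr_of_perp hv.1, sub_zero, sub_zero]

theorem DP.mid_of_left {W W' : Submodule F V} (h : DP Q W W') {v : V} (hv : v ∈ W) : h.mid v = 0 := by
  have h1 : v ∈ perp Q W := fun w hw => h.ts.pz hw hv
  rw [h.mid_apply, h.pr_of_mem hv, h.symm.pr_of_perp h1, sub_self, sub_zero]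

theorem DP.mid_of_right {W W' : Submodule F V} (h : DP Q W W') {v : V} (hv : v ∈ W') : h.mid v = 0 := by
  have h1 : v ∈ perp Q W' := fun w hw => h.ts'.pz hw hv
  rw [h.mid_apply, h.symm.pr_of_mem hv, h.pr_of_perp h1, sub_zero, sub_self]

/-- A vector orthogonal to `W` is a middle vector plus a vector of `W`. -/
theorem DP.decomp_perp {W W' : Submodule F V} (h : DP Q W W') {v : V} (hv : v ∈ perp Q W) :
    v = h.mid v + h.pr v := by
  have h1 := h.decomp v
  rw [h.symm.pr_of_perp hv, add_zero] at h1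
  exact h1

omit [FiniteDimensional F V] in
/-- The middle space is anisotropic if `W` is maximal. -/
theorem DP.anis {W W' : Submodule F V} (h : DP Q W W') (hW : MaxTS Q W) {v : V}
    (hv : v ∈ mids Q W W') (hs : Q v = 0) : v = 0 :=
  h.nd v (hW.max v hs hv.1) (fun x hx => by rw [polar_comm]; exact hv.2 x hx)

/-- Existence of a dual partner containing a given totally singular subspace. -/
theorem exists_partner (hQ : Nondeg Q) {W X : Submodule F V} (hW : TS Q W) (hX : TS Q X)
    (hd : ∀ x ∈ X, (∀ w ∈ W, polar Q w x = 0) → x = 0) :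
    ∃ W' : Submodule F V, X ≤ W' ∧ DP Q W W' := by
  classical
  have hb : ∃ n, ∃ Y : Submodule F V, (X ≤ Y ∧ TS Q Y ∧ (∀ x ∈ Y, (∀ w ∈ W, polar Q w x = 0) → x = 0)) ∧
      finrank F V - finrank F Y = n := ⟨_, X, ⟨le_rfl, hX, hd⟩, rfl⟩
  obtain ⟨Y, ⟨hXY, hY, hdY⟩, hn⟩ := Nat.find_spec hb
  refine ⟨Y, hXY, hW, hY, fun r hr hrp => ?_, hdY⟩
  by_contra hr0
  -- a vector orthogonal to `Y` but not to `r`
  have hrY : r ∉ Y := by
    intro h
    exact hr0 (hdY r h (fun w hw => hW.pz hw hr))
  obtain ⟨y, hyY, hyr⟩ : ∃ y ∈ perp Q Y, polar Q r y = 1 := by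
    by_contra hcon
    push Not at hcon
    have hcon' : ∀ y ∈ perp Q Y, polar Q r y = 0 := by
      intro y hy
      by_contra hne
      apply hcon ((polar Q r y)⁻¹ • y) ((perp Q Y).smul_mem _ hy)
      rw [polar_smul_right, smul_eq_mul, inv_mul_cancel₀ hne]
    -- `r` is in the double orthogonal of `Y`
    let B : LinearMap.BilinForm F V := polarBilin Q
    have hBn : B.Nondegenerate := by
      refine ⟨fun x hx => hQ x hx, fun x hx => hQ x (fun y => ?_)⟩
      rw [polar_comm]; exact hx y
    have hBr : B.IsRefl := fun x y h => by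
      show polar Q y x = 0
      rw [polar_comm]; exact h
    have h1 : r ∈ B.orthogonal (B.orthogonal Y) := by
      rw [LinearMap.BilinForm.mem_orthogonal_iff]
      intro y hy
      show polar Q y r = 0
      rw [polar_comm]
      exact hcon' y (fun w hw => (LinearMap.BilinForm.mem_orthogonal_iff.1 hy) w hw)
    rw [LinearMap.BilinForm.orthogonal_orthogonal hBn hBr] at h1
    exact hrY h1
  have hry : polar Q y r = 1 := by rw [polar_comm]; exact hyr
  have hrp' : ∀ x ∈ Y, polar Q x r = 0 := fun x hx => by rw [polar_comm]; exact hrp x hx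
  set z := y - Q y • r with hz
  have hzs : Q z = 0 := by
    have e : z = y + (-(Q y)) • r := by rw [hz]; module
    rw [e, Q_add, QuadraticMap.map_smul, hW r hr, polar_smul_right, hry]
    simp
  have hzY : ∀ x ∈ Y, polar Q x z = 0 := by
    intro x hx
    rw [hz, polar_sub_right, polar_smul_right, hyY x hx, hrp' x hx]
    simp
  have hrz : polar Q r z = 1 := by
    rw [hz, polar_sub_right, polar_smul_right, hyr, hW.pz hr hr]
    simp
  have hzY' : z ∉ Y := by
    intro h
    rw [hrp z h] at hrz
    exact zero_ne_one hrz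
  have hlt : Y < Y ⊔ Submodule.span F {z} := by
    refine lt_of_le_of_ne le_sup_left (fun h => hzY' ?_)
    rw [h]
    exact Submodule.mem_sup_right (Submodule.mem_span_singleton_self z)
  have h1 := Submodule.finrank_lt_finrank_of_lt hlt
  have h2 := Submodule.finrank_le (Y ⊔ Submodule.span F {z})
  refine Nat.find_min hb (m := finrank F V - finrank F ↥(Y ⊔ Submodule.span F {z})) (by omega)
    ⟨_, ⟨hXY.trans le_sup_left, hY.sup_span hzs hzY, ?_⟩, rfl⟩
  intro x hx hxp
  obtain ⟨a, ha, b, hb', rfl⟩ := Submodule.mem_sup.1 hx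
  obtain ⟨c, rfl⟩ := Submodule.mem_span_singleton.1 hb'
  have h3 := hxp r hr
  rw [polar_add_right, polar_smul_right, hrp a ha, hrz, zero_add, smul_eq_mul, mul_one] at h3
  rw [h3, zero_smul, add_zero] at hxp ⊢
  exact hdY a ha hxp

end Cfsg.Agent.H434.Corn
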