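import Cfsg.Agent.H434.CornTwist

/-!
# Corners of isometries III: existence of corner data (helper434)

If `dim W₁ = rank (g₀ - 1) + 2 l`, where `g₀` is the isometry of the middle space induced by `g`, then there are
corner data with `A` injective.
-/

set_option autoImplicit false

namespace Cfsg.Agent.H434.Corn

open Module QuadraticMap Cfsg.Agent.LieClassical.OrthCore Cfsg.Agent.LieClassical.OrthTrans

variable {F V : Type*} [Field F] [AddCommGroup V] [Module F V] {Q : QuadraticForm F V}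

/-- Existence of an adapted situation. -/
theorem exists_adapted [FiniteDimensional F V] (hQ : Nondeg Q) {g : V ≃ₗ[F] V} (hg : g ∈ O Q) {W : Submodule F V}
    (hW : MaxTS Q W) : ∃ W' H W₁, Adapted Q g W W' H W₁ ∧ H ⊓ W₁ = ⊥ ∧
      ∀ w ∈ W, g w ∈ W → w ∈ H := by
  classical
  let H : Submodule F V := W ⊓ W.comap g.toLinearMap
  have hH : H ≤ W := inf_le_left
  obtain ⟨C, hC⟩ := Submodule.exists_isCompl (H.comap W.subtype)
  let W₁ : Submodule F V := C.map W.subtype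
  have hW₁ : W₁ ≤ W := by
    rintro _ ⟨x, _, rfl⟩
    exact x.2
  have hsup : H ⊔ W₁ = W := by
    apply le_antisymm (sup_le hH hW₁)
    intro w hw
    have h1 : (⟨w, hw⟩ : W) ∈ H.comap W.subtype ⊔ C := by rw [hC.sup_eq_top]; trivial
    obtain ⟨a, ha, b, hb, hab⟩ := Submodule.mem_sup.1 h1
    have h2 : w = (a : V) + b := (congrArg Subtype.val hab).symm
    rw [h2]
    exact Submodule.add_mem_sup ha ⟨b, hb, rfl⟩
  have hinf : H ⊓ W₁ = ⊥ := by
    rw [eq_bot_iff]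
    rintro w ⟨h1, ⟨b, hb, rfl⟩⟩
    have h2 : b ∈ H.comap W.subtype ⊓ C := ⟨h1, hb⟩
    rw [hC.inf_eq_bot] at h2
    rw [Submodule.mem_bot] at h2 ⊢
    rw [h2]; rfl
  have hX : TS Q (W₁.map g.toLinearMap) := by
    rintro _ ⟨w, hw, rfl⟩
    show Q (g w) = 0
    rw [mem_O.1 hg]
    exact hW.ts w (hW₁ hw)
  have hXd : ∀ x ∈ W₁.map g.toLinearMap, (∀ w ∈ W, polar Q w x = 0) → x = 0 := by
    rintro _ ⟨w, hw, rfl⟩ hp
    have h1 : g w ∈ W := hW.max _ (hX _ ⟨w, hw, rfl⟩) hp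
    have h2 : w ∈ H ⊓ W₁ := ⟨⟨hW₁ hw, h1⟩, hw⟩
    rw [hinf, Submodule.mem_bot] at h2
    rw [h2, map_zero]
  obtain ⟨W', hXW', hdp⟩ := exists_partner hQ hW.ts hX hXd
  exact ⟨W', H, W₁, ⟨hdp, hW, hg, hH, hW₁, hsup, fun h hh => hh.2, fun w hw => hXW' ⟨w, hw, rfl⟩⟩, hinf,
    fun w h1 h2 => ⟨h1, h2⟩⟩

namespace Adapted

variable {g : V ≃ₗ[F] V} {W W' H W₁ : Submodule F V}

theorem mem_H (h : Adapted Q g W W' H W₁) {w : V} (hw : w ∈ W) (hg : g w ∈ W) : w ∈ H := by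
  obtain ⟨a, ha, b, hb, rfl⟩ := h.split hw
  have h1 : g b ∈ W := by
    have h2 := W.sub_mem hg (h.gH a ha)
    rwa [map_add, add_sub_cancel_left] at h2
  rw [h.disj hb h1, add_zero]
  exact ha

/-- The middle space is orthogonal to `g W`. -/
theorem mid_perp (h : Adapted Q g W W' H W₁) {m : V} (hm : m ∈ mids Q W W') {w : V} (hw : w ∈ W) :
    polar Q (g w) m = 0 := by
  obtain ⟨a, ha, b, hb, rfl⟩ := h.split hw
  rw [map_add, polar_add_left, hm.1 _ (h.gH a ha), hm.2 _ (h.gW₁ b hb), add_zero]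

variable [FiniteDimensional F V]

theorem sub_mid_mem (h : Adapted Q g W W' H W₁) {m : V} (hm : m ∈ mids Q W W') :
    g m - h.dp.mid (g m) ∈ W.map g.toLinearMap := by
  have e : g m - h.dp.mid (g m) = h.dp.pr (g m) + h.dp.symm.pr (g m) := by
    rw [h.dp.mid_apply]; abel
  rw [e]
  have hmax := h.mW.map h.gO
  refine Submodule.add_mem _ (hmax.max _ (h.dp.ts _ (h.dp.pr _).2) ?_)
    (hmax.max _ (h.dp.ts' _ (h.dp.symm.pr _).2) ?_)
  · rintro _ ⟨w, hw, rfl⟩
    show polar Q (g w) _ = 0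
    obtain ⟨a, ha, b, hb, rfl⟩ := h.split hw
    rw [map_add, polar_add_left, h.dp.ts.pz (h.gH a ha) (h.dp.pr _).2, zero_add, polar_comm,
      h.dp.polar_pr _ (h.gW₁ b hb), polar_map h.gO, polar_comm]
    exact hm.1 _ (h.W₁W hb)
  · rintro _ ⟨w, hw, rfl⟩
    show polar Q (g w) _ = 0
    obtain ⟨a, ha, b, hb, rfl⟩ := h.split hw
    rw [map_add, polar_add_left, h.dp.ts'.pz (h.gW₁ b hb) (h.dp.symm.pr _).2, add_zero, polar_comm,
      h.dp.symm.polar_pr _ (h.gH a ha), polar_map h.gO, polar_comm]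
    exact hm.1 _ (h.HW ha)

theorem Q_mid (h : Adapted Q g W W' H W₁) {m : V} (hm : m ∈ mids Q W W') :
    Q (h.dp.mid (g m)) = Q m := by
  obtain ⟨w, hw, hwe⟩ := h.sub_mid_mem hm
  have hwe' : g w = g m - h.dp.mid (g m) := hwe
  have e : g m = g w + h.dp.mid (g m) := by rw [hwe']; abel
  have h1 : Q (g m) = Q m := mem_O.1 h.gO m
  rw [← h1]
  nth_rewrite 2 [e]
  rw [Q_add, mem_O.1 h.gO, h.dp.ts w hw, h.mid_perp (h.dp.mid_mem _) hw]
  ring

theorem polar_mid (h : Adapted Q g W W' H W₁) {m m' : V} (hm : m ∈ mids Q W W')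
    (hm' : m' ∈ mids Q W W') : polar Q (h.dp.mid (g m)) (h.dp.mid (g m')) = polar Q m m' := by
  have h1 := h.Q_mid ((mids Q W W').add_mem hm hm')
  rw [map_add, map_add, Q_add, Q_add, h.Q_mid hm, h.Q_mid hm'] at h1
  linear_combination h1

/-- `g₀ - 1` on the middle space. -/
noncomputable def dlt (h : Adapted Q g W W' H W₁) : mids Q W W' →ₗ[F] V :=
  (h.dp.mid ∘ₗ g.toLinearMap - LinearMap.id) ∘ₗ (mids Q W W').subtype

theorem dlt_apply (h : Adapted Q g W W' H W₁) (m : mids Q W W') :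
    h.dlt m = h.dp.mid (g m) - m := rfl

theorem dlt_mem (h : Adapted Q g W W' H W₁) (m : mids Q W W') : h.dlt m ∈ mids Q W W' :=
  Submodule.sub_mem _ (h.dp.mid_mem _) m.2

theorem polar_dlt (h : Adapted Q g W W' H W₁) (m : mids Q W W') :
    polar Q (m : V) (h.dlt m) = - Q (h.dlt m) := by
  have h1 : h.dp.mid (g m) = m + h.dlt m := by rw [h.dlt_apply]; abel
  have h2 := h.Q_mid m.2
  rw [h1, Q_add] at h2
  linear_combination h2

theorem polar_ker (h : Adapted Q g W W' H W₁) {k : mids Q W W'} (hk : h.dlt k = 0)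
    (m : mids Q W W') : polar Q (k : V) (h.dlt m) = 0 := by
  rw [h.dlt_apply, sub_eq_zero] at hk
  rw [h.dlt_apply, polar_sub_right]
  nth_rewrite 1 [← hk]
  rw [h.polar_mid k.2 m.2, sub_self]

theorem exists_datum (h : Adapted Q g W W' H W₁) {l : ℕ}
    (hl : finrank F W₁ = finrank F (LinearMap.range h.dlt) + (l + l)) :
    ∃ (A : W →ₗ[F] W) (t : W →ₗ[F] V), Datum Q g W (mids Q W W') A t ∧ Function.Injective A := by
  classical
  obtain ⟨p, hp1, hp2⟩ := h.exists_p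
  let R0 := LinearMap.range h.dlt
  -- projection of `W` to `W₁`
  let f : W →ₗ[F] W' := h.dp.symm.pr ∘ₗ g.toLinearMap ∘ₗ W.subtype
  let π : W →ₗ[F] W₁ := LinearMap.codRestrict W₁ (W.subtype ∘ₗ p ∘ₗ f) (fun w => hp1 _)
  have hf1 : ∀ w : W, (w : V) ∈ H → f w = 0 := by
    intro w hw
    apply Subtype.ext
    show (h.dp.symm.pr (g w) : V) = 0
    exact h.dp.symm.pr_of_perp (fun a ha => h.dp.ts.pz ha (h.gH _ hw))
  have hπ1 : ∀ w : W, (w : V) ∈ H → π w = 0 := by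
    intro w hw
    apply Subtype.ext
    show ((p (f w) : W) : V) = 0
    rw [hf1 w hw, map_zero]; rfl
  have hπ2 : ∀ (w : V) (hw : w ∈ W₁), π ⟨w, h.W₁W hw⟩ = ⟨w, hw⟩ := by
    intro w hw
    apply Subtype.ext
    show ((p (f ⟨w, h.W₁W hw⟩) : W) : V) = w
    have h1 : f ⟨w, h.W₁W hw⟩ = ⟨g w, h.gW₁ w hw⟩ := Subtype.ext (h.dp.symm.pr_of_mem (h.gW₁ w hw))
    rw [h1, hp2 ⟨w, h.W₁W hw⟩ hw]
  have hπH : ∀ w : W, (w : V) - (π w : V) ∈ H := by
    intro w
    obtain ⟨a, ha, b, hb, hab⟩ := h.split w.2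
    have hw : w = ⟨a, h.HW ha⟩ + ⟨b, h.W₁W hb⟩ := Subtype.ext hab
    have h1 : (π w : V) = b := by
      rw [hw, map_add, hπ1 _ ha, hπ2 b hb, zero_add]
    rw [h1, hab, add_sub_cancel_right]
    exact ha
  -- coordinates on `W₁`
  have hdim : finrank F W₁ = finrank F (R0 × (Fin l → F) × (Fin l → F)) := by
    rw [hl, finrank_prod, finrank_prod, finrank_fin_fun]
  let θ : W₁ ≃ₗ[F] (R0 × (Fin l → F) × (Fin l → F)) := LinearEquiv.ofFinrankEq _ _ hdim
  let Θ : W →ₗ[F] (R0 × (Fin l → F) × (Fin l → F)) := θ.toLinearMap ∘ₗ π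
  have hΘH : ∀ w : W, (w : V) ∈ H → Θ w = 0 := by
    intro w hw
    show θ (π w) = 0
    rw [hπ1 w hw, map_zero]
  have hΘsurj : ∀ z, ∃ w : W, Θ w = z := by
    intro z
    refine ⟨⟨θ.symm z, h.W₁W (θ.symm z).2⟩, ?_⟩
    show θ (π _) = z
    rw [hπ2 _ (θ.symm z).2]
    exact θ.apply_symm_apply z
  have hΘ0 : ∀ w : W, Θ w = 0 → (w : V) ∈ H := by
    intro w hw
    have h1 : π w = 0 := by
      have h2 : θ (π w) = 0 := hw
      exact (LinearEquiv.map_eq_zero_iff θ).1 h2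
    have h2 := hπH w
    rw [h1] at h2
    simpa using h2
  -- a section of `dlt`
  obtain ⟨u, hu⟩ := LinearMap.exists_rightInverse_of_surjective h.dlt.rangeRestrict
    (LinearMap.range_rangeRestrict _)
  have hu' : ∀ a : R0, h.dlt (u a) = a := by
    intro a
    have h1 := LinearMap.congr_fun hu a
    exact congrArg Subtype.val h1
  have hu2 : ∀ (v : mids Q W W') (a : R0), polar Q (u ⟨h.dlt v, ⟨v, rfl⟩⟩ : V) (a : V) =
      polar Q (v : V) (a : V) := by
    intro v a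
    obtain ⟨b, hb⟩ := a.2
    have h1 : h.dlt (u ⟨h.dlt v, ⟨v, rfl⟩⟩ - v) = 0 := by
      rw [map_sub, hu']; exact sub_self _
    have h2 := h.polar_ker h1 b
    rw [hb] at h2
    rw [Submodule.coe_sub, polar_sub_left] at h2
    linear_combination h2
  have hua : ∀ a : R0, polar Q (u a : V) (a : V) = - Q (a : V) := by
    intro a
    have h1 := h.polar_dlt (u a)
    rwa [hu'] at h1
  -- the form
  let σ : W →ₗ[F] W →ₗ[F] F := LinearMap.mk₂ F
    (fun w w' => polar Q (u (Θ w').1 : V) ((Θ w).1 : V) + ((Θ w).2.1 ⬝ᵥ (Θ w').2.2 -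
      (Θ w).2.2 ⬝ᵥ (Θ w').2.1))
    (by
      intro a b c
      simp only [map_add, Submodule.coe_add, polar_add_right, Prod.fst_add, Prod.snd_add,
        add_dotProduct]
      ring)
    (by
      intro a b c
      simp only [map_smul, Submodule.coe_smul, polar_smul_right, Prod.smul_fst,
        Prod.smul_snd, smul_eq_mul, smul_dotProduct]
      ring)
    (by
      intro a b c
      simp only [map_add, Submodule.coe_add, polar_add_left, Prod.fst_add, Prod.snd_add,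
        dotProduct_add]
      ring)
    (by
      intro a b c
      simp only [map_smul, Submodule.coe_smul, polar_smul_left, Prod.smul_fst,
        Prod.smul_snd, smul_eq_mul, dotProduct_smul]
      ring)
  have hσ : ∀ w w' : W, σ w w' = polar Q (u (Θ w').1 : V) ((Θ w).1 : V) +
      ((Θ w).2.1 ⬝ᵥ (Θ w').2.2 - (Θ w).2.2 ⬝ᵥ (Θ w').2.1) := fun w w' => rfl
  have hσH : ∀ w w' : W, (w : V) ∈ H → σ w w' = 0 := by
    intro w w' hw
    rw [hσ, hΘH w hw]
    simp [polar_zero_right]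
  have hσH' : ∀ w w' : W, (w' : V) ∈ H → σ w w' = 0 := by
    intro w w' hw
    rw [hσ, hΘH w' hw]
    simp [polar_zero_left]
  -- the endomorphism
  let A₁ : W →ₗ[F] W := LinearMap.codRestrict W (g.toLinearMap ∘ₗ (W.subtype - W₁.subtype ∘ₗ π))
    (fun w => h.gH _ (hπH w))
  let A₂ : W →ₗ[F] W := h.dp.equiv.symm.toLinearMap ∘ₗ ((LinearMap.lcomp F F p).comp σ)
  have hA₁ : ∀ w : W, (A₁ w : V) = g ((w : V) - π w) := fun w => rfl
  have hA₂ : ∀ (w : W) (x : W'), polar Q (A₂ w : V) (x : V) = σ w (p x) := by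
    intro w x
    exact h.dp.equiv_symm _ x
  let A : W →ₗ[F] W := A₁ + A₂
  have hA : ∀ w : W, (A w : V) = g ((w : V) - π w) + A₂ w := fun w => rfl
  let t : W →ₗ[F] V := R0.subtype ∘ₗ LinearMap.fst F R0 _ ∘ₗ Θ
  have ht : ∀ w : W, t w = ((Θ w).1 : V) := fun w => rfl
  -- the pairing
  have hpair : ∀ w w' : W, polar Q (A w : V) (g w') = σ w w' := by
    intro w w'
    obtain ⟨a, ha, b, hb, hab⟩ := h.split w'.2
    have hw : w' = ⟨a, h.HW ha⟩ + ⟨b, h.W₁W hb⟩ := Subtype.ext hab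
    rw [hw, map_add, hσH' _ _ ha, zero_add, Submodule.coe_add, map_add, polar_add_right,
      h.dp.ts.pz (A w).2 (h.gH a ha), zero_add, hA, polar_add_left, polar_map h.gO,
      h.dp.ts.pz (h.HW (hπH w)) (h.W₁W hb), zero_add]
    have h1 := hA₂ w ⟨g b, h.gW₁ b hb⟩
    rw [hp2 ⟨b, h.W₁W hb⟩ hb] at h1
    exact h1
  have hfix : ∀ w : W, (w : V) ∈ H → (A w : V) = g w := by
    intro w hw
    have h1 : A₂ w = 0 := by
      have h2 : σ w = 0 := by
        ext w'
        rw [hσH w w' hw]; rfl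
      show h.dp.equiv.symm ((σ w).comp p) = 0
      rw [h2, LinearMap.zero_comp, map_zero]
    rw [hA, h1, hπ1 w hw]
    simp
  refine ⟨A, t, ⟨?_, ?_, ?_, ?_, ?_⟩, ?_⟩
  · intro w
    rw [ht]
    obtain ⟨b, hb⟩ := (Θ w).1.2
    rw [← hb]
    exact h.dlt_mem b
  · intro w hw
    exact hfix w (h.mem_H w.2 hw)
  · intro w hw
    rw [ht, hΘH w (h.mem_H w.2 hw)]
    rfl
  · intro w
    rw [hpair, hσ, ht, hua, dotProduct_comm (Θ w).2.1]
    ring
  · intro v hv
    obtain ⟨w₁, hw₁⟩ := hΘsurj (⟨h.dlt ⟨v, hv⟩, ⟨_, rfl⟩⟩, 0, 0)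
    refine ⟨w₁, ?_, fun w => ?_⟩
    · rw [ht, hw₁]
      show g v - v - (h.dp.mid (g v) - v) ∈ _
      have e : g v - v - (h.dp.mid (g v) - v) = g v - h.dp.mid (g v) := by abel
      rw [e]
      exact h.sub_mid_mem hv
    · rw [hpair, hσ, hw₁, ht]
      simp only [dotProduct_zero, sub_zero, add_zero]
      exact hu2 ⟨v, hv⟩ (Θ w).1
  · -- injectivity
    rw [← LinearMap.ker_eq_bot, LinearMap.ker_eq_bot']
    intro w hw
    have h0 : ∀ w' : W, σ w w' = 0 := by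
      intro w'
      rw [← hpair, hw]
      exact polar_zero_left _ _
    have h1 : (Θ w).1 = 0 := by
      obtain ⟨w', hw'⟩ := hΘsurj ((Θ w).1, 0, 0)
      have h2 := h0 w'
      rw [hσ, hw'] at h2
      simp only [dotProduct_zero, sub_zero, add_zero] at h2
      rw [hua, neg_eq_zero] at h2
      apply Subtype.ext
      obtain ⟨b, hb⟩ := (Θ w).1.2
      refine h.dp.anis h.mW ?_ h2
      rw [← hb]
      exact h.dlt_mem b
    have h2 : (Θ w).2.1 = 0 := by
      rw [← dotProduct_eq_zero_iff]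
      intro y
      obtain ⟨w', hw'⟩ := hΘsurj (0, 0, y)
      have h2 := h0 w'
      rw [hσ, hw'] at h2
      simpa [polar_zero_left] using h2
    have h3 : (Θ w).2.2 = 0 := by
      rw [← dotProduct_eq_zero_iff]
      intro y
      obtain ⟨w', hw'⟩ := hΘsurj (0, y, 0)
      have h2 := h0 w'
      rw [hσ, hw'] at h2
      simpa [polar_zero_left] using h2
    have h4 : Θ w = 0 := Prod.ext h1 (Prod.ext h2 h3)
    have h5 := hfix w (hΘ0 w h4)
    rw [hw] at h5
    apply Subtype.ext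
    exact (g.map_eq_zero_iff.1 h5.symm)

end Adapted

end Cfsg.Agent.H434.Corn
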