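import Cfsg.Agent.H434.CornDatum

/-!
# Corners of isometries IV: changing the corner (helper434)

* `Datum.conj`, `exists_scale`: the determinant of the corner can be multiplied by any square;
* `Datum.add`: addition of endomorphisms vanishing on `H` with values in `g H`;
* `rank_adjust`: the corner can be made `1`, or non-scalar with `rank (A - 1) ≥ 2`.
-/

set_option autoImplicit false

namespace Cfsg.Agent.H434.Corn

open Module QuadraticMap Cfsg.Agent.LieClassical.OrthCore Cfsg.Agent.LieClassical.OrthTrans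

variable {F V : Type*} [Field F] [AddCommGroup V] [Module F V] {Q : QuadraticForm F V}

theorem Datum.conj {g : V ≃ₗ[F] V} {W M : Submodule F V} {A : W →ₗ[F] W} {t : W →ₗ[F] V}
    (D : Datum Q g W M A t) {D₁ D₂ : W →ₗ[F] W} (hs : Function.Surjective D₁)
    (h1 : ∀ w : W, g w ∈ W → D₁ w = w) (h2 : ∀ (w : W) (hw : g w ∈ W), D₂ ⟨g w, hw⟩ = ⟨g w, hw⟩)
    (h3 : ∀ w w' : W, polar Q (D₂ w : V) (g w') = polar Q (w : V) (g (D₁ w' : V))) :
    Datum Q g W M (D₂ ∘ₗ A ∘ₗ D₁) (t ∘ₗ D₁) where
  tM w := D.tM _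
  fixA w hw := by
    show (D₂ (A (D₁ w)) : V) = g w
    rw [h1 w hw]
    have h4 : A w = ⟨g w, hw⟩ := Subtype.ext (D.fixA w hw)
    rw [h4, h2 w hw]
  fixt w hw := by
    show t (D₁ w) = 0
    rw [h1 w hw]
    exact D.fixt w hw
  quad w := by
    show polar Q (D₂ (A (D₁ w)) : V) (g w) = - Q (t (D₁ w))
    rw [h3, D.quad]
  mid v hv := by
    obtain ⟨w₁, hw1, hw2⟩ := D.mid v hv
    obtain ⟨w₁, rfl⟩ := hs w₁
    refine ⟨w₁, hw1, fun w => ?_⟩
    show polar Q (D₂ (A (D₁ w)) : V) (g w₁) = polar Q v (t (D₁ w))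
    rw [h3, hw2]

theorem Datum.add {g : V ≃ₗ[F] V} {W M : Submodule F V} {A : W →ₗ[F] W} {t : W →ₗ[F] V}
    (hW : TS Q W) (hg : g ∈ O Q)
    (D : Datum Q g W M A t) {φ : W →ₗ[F] W} (h1 : ∀ w : W, g w ∈ W → φ w = 0)
    (h2 : ∀ w : W, (φ w : V) ∈ W.map g.toLinearMap) : Datum Q g W M (A + φ) t := by
  have h3 : ∀ w w' : W, polar Q (φ w : V) (g w') = 0 := by
    intro w w'
    obtain ⟨a, ha, hae⟩ := h2 w
    rw [← hae]
    show polar Q (g a) (g w') = 0
    rw [polar_map hg, hW.pz ha w'.2]
  refine ⟨D.tM, ?_, D.fixt, ?_, ?_⟩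
  · intro w hw
    rw [LinearMap.add_apply, h1 w hw, add_zero]
    exact D.fixA w hw
  · intro w
    rw [LinearMap.add_apply, Submodule.coe_add, polar_add_left, h3, add_zero]
    exact D.quad w
  · intro v hv
    obtain ⟨w₁, hw1, hw2⟩ := D.mid v hv
    refine ⟨w₁, hw1, fun w => ?_⟩
    rw [LinearMap.add_apply, Submodule.coe_add, polar_add_left, h3, add_zero]
    exact hw2 w

theorem exists_functional {U : Type*} [AddCommGroup U] [Module F U] [FiniteDimensional F U] {H : Submodule F U} {u : U} (hu : u ∉ H) :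
    ∃ ψ : U →ₗ[F] F, (∀ h ∈ H, ψ h = 0) ∧ ψ u = 1 := by
  obtain ⟨ψ, h1, h2⟩ := Submodule.exists_dual_map_eq_bot_of_notMem hu inferInstance
  refine ⟨(ψ u)⁻¹ • ψ, fun h hh => ?_, ?_⟩
  · have h3 : ψ h ∈ H.map ψ := ⟨h, hh, rfl⟩
    rw [h2, Submodule.mem_bot] at h3
    rw [LinearMap.smul_apply, h3, smul_zero]
  · rw [LinearMap.smul_apply, smul_eq_mul, inv_mul_cancel₀ h1]

theorem Adapted.exists_scale [FiniteDimensional F V] {g : V ≃ₗ[F] V} {W W' H W₁ : Submodule F V}
    (h : Adapted Q g W W' H W₁) (hW₁ : ∃ w ∈ W₁, w ≠ 0) {A : W →ₗ[F] W} {t : W →ₗ[F] V}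
    (D : Datum Q g W (mids Q W W') A t) {c : F} (hc : c ≠ 0) :
    ∃ (A' : W →ₗ[F] W) (t' : W →ₗ[F] V), Datum Q g W (mids Q W W') A' t' ∧
      LinearMap.det A' = c * c * LinearMap.det A := by
  classical
  obtain ⟨p, hp1, hp2⟩ := h.exists_p
  obtain ⟨w₀, hw₀, hw₀0⟩ := hW₁
  -- the projection to `W₁`
  let f : W →ₗ[F] W' := h.dp.symm.pr ∘ₗ g.toLinearMap ∘ₗ W.subtype
  have hf1 : ∀ w : W, g w ∈ W → f w = 0 := by
    intro w hw
    apply Subtype.ext
    show (h.dp.symm.pr (g w) : V) = 0
    exact h.dp.symm.pr_of_perp (fun a ha => h.dp.ts.pz ha hw)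
  have hf2 : ∀ (w : V) (hw : w ∈ W₁), f ⟨w, h.W₁W hw⟩ = ⟨g w, h.gW₁ w hw⟩ := by
    intro w hw
    exact Subtype.ext (h.dp.symm.pr_of_mem (h.gW₁ w hw))
  set e : W := ⟨w₀, h.W₁W hw₀⟩ with he
  have he0 : e ≠ 0 := fun h0 => hw₀0 (congrArg Subtype.val h0)
  -- a functional
  obtain ⟨χ, -, hχ⟩ := exists_functional (H := (⊥ : Submodule F W)) (u := e) (by simpa using he0)
  let φ : W →ₗ[F] F := χ ∘ₗ p ∘ₗ f
  have hφe : φ e = 1 := by
    show χ (p (f e)) = 1
    rw [he, hf2 w₀ hw₀, hp2 ⟨w₀, h.W₁W hw₀⟩ hw₀]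
    exact hχ
  have hφH : ∀ w : W, g w ∈ W → φ w = 0 := by
    intro w hw
    show χ (p (f w)) = 0
    rw [hf1 w hw, map_zero, map_zero]
  let r : W := h.dp.equiv.symm (χ ∘ₗ p)
  have hr : ∀ w : W, polar Q (r : V) (g w) = φ w := by
    intro w
    obtain ⟨a, ha, b, hb, hab⟩ := h.split w.2
    have hw : w = ⟨a, h.HW ha⟩ + ⟨b, h.W₁W hb⟩ := Subtype.ext hab
    rw [hw, map_add, hφH ⟨a, h.HW ha⟩ (h.gH a ha), Submodule.coe_add, map_add, polar_add_right,
      h.dp.ts.pz r.2 (h.gH a ha)]
    have h1 := h.dp.equiv_symm (χ ∘ₗ p) ⟨g b, h.gW₁ b hb⟩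
    have h2 : φ ⟨b, h.W₁W hb⟩ = (χ ∘ₗ p) ⟨g b, h.gW₁ b hb⟩ := by
      show χ (p (f ⟨b, h.W₁W hb⟩)) = _
      rw [hf2 b hb]; rfl
    rw [h2, ← h1]
  let ρ : W →ₗ[F] F := ((polarBilin Q).flip (g e)) ∘ₗ W.subtype
  have hρ : ∀ w : W, ρ w = polar Q (w : V) (g e) := fun w => rfl
  let D₁ : W →ₗ[F] W := LinearMap.transvection φ ((c - 1) • e)
  let D₂ : W →ₗ[F] W := LinearMap.transvection ρ ((c - 1) • r)
  have hD₁ : ∀ w, D₁ w = w + φ w • ((c - 1) • e) := fun w => rfl
  have hD₂ : ∀ w, D₂ w = w + ρ w • ((c - 1) • r) := fun w => rfl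
  have hdet1 : LinearMap.det D₁ = c := by
    rw [LinearMap.transvection.det, map_smul, hφe, smul_eq_mul]; ring
  have hdet2 : LinearMap.det D₂ = c := by
    rw [LinearMap.transvection.det, map_smul, hρ, hr, hφe, smul_eq_mul]; ring
  refine ⟨D₂ ∘ₗ A ∘ₗ D₁, t ∘ₗ D₁, D.conj ?_ ?_ ?_ ?_, ?_⟩
  · have h1 : IsUnit (LinearMap.det D₁) := by rw [hdet1]; exact isUnit_iff_ne_zero.2 hc
    exact ((Module.End.isUnit_iff _).1 ((LinearMap.isUnit_iff_isUnit_det D₁).2 h1)).2
  · intro w hw
    rw [hD₁, hφH w hw, zero_smul, add_zero]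
  · intro w hw
    rw [hD₂, hρ]
    have h1 : polar Q (g w) (g e) = 0 := by
      rw [polar_map h.gO, h.dp.ts.pz w.2 e.2]
    have h2 : polar Q ((⟨g w, hw⟩ : W) : V) (g e) = 0 := h1
    rw [h2, zero_smul, add_zero]
  · intro w w'
    rw [hD₂, hD₁, Submodule.coe_add, Submodule.coe_add, map_add, polar_add_left, polar_add_right, hρ]
    simp only [Submodule.coe_smul, map_smul, polar_smul_left, polar_smul_right, smul_eq_mul, hr]
    ring
  · rw [LinearMap.det_comp, LinearMap.det_comp, hdet1, hdet2]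
    ring

section Rank

variable {U : Type*} [AddCommGroup U] [Module F U] [FiniteDimensional F U]

theorem two_le_rank {N : U →ₗ[F] U} {a b : U} (h : ∀ c : F, N b ≠ c • N a) (ha : N a ≠ 0) :
    2 ≤ finrank F (LinearMap.range N) := by
  have hli : LinearIndependent F ![(⟨N a, ⟨a, rfl⟩⟩ : LinearMap.range N), ⟨N b, ⟨b, rfl⟩⟩] := by
    rw [LinearIndependent.pair_iff' (by
      intro h0; exact ha (congrArg Subtype.val h0))]
    intro c hc
    exact h c (congrArg Subtype.val hc).symm
  have := hli.fintype_card_le_finrank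
  simpa using this

theorem exists_rank_one {N : U →ₗ[F] U} (h : ¬ 2 ≤ finrank F (LinearMap.range N)) {a : U} (ha : N a ≠ 0) :
    ∃ f : U →ₗ[F] F, ∀ u, N u = f u • N a := by
  have h1 : ∀ u, ∃ c : F, N u = c • N a := by
    intro u
    by_contra hcon
    push Not at hcon
    exact h (two_le_rank hcon ha)
  obtain ⟨ψ, -, hψ⟩ := exists_functional (H := (⊥ : Submodule F U)) (u := N a) (by simpa using ha)
  refine ⟨ψ ∘ₗ N, fun u => ?_⟩
  obtain ⟨c, hc⟩ := h1 u
  rw [LinearMap.comp_apply, hc, map_smul, hψ, smul_eq_mul, mul_one]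

/-- The good corners. -/
def GoodC (A : U →ₗ[F] U) : Prop :=
  A = LinearMap.id ∨ ((∀ c : F, A ≠ c • LinearMap.id) ∧ 2 ≤ finrank F (LinearMap.range (A - LinearMap.id)))

theorem rank_adjust {A : U →ₗ[F] U} {H : Submodule F U} (hH0 : H ≠ ⊥) (hH1 : H ≠ ⊤)
    (hdet : LinearMap.det A = 1) :
    ∃ φ : U →ₗ[F] U, (∀ h ∈ H, φ h = 0) ∧ (∀ u, φ u ∈ H.map A) ∧ LinearMap.det (A + φ) = 1 ∧
      GoodC (A + φ) := by
  classical
  obtain ⟨r₀, hr₀H, hr₀⟩ := Submodule.exists_mem_ne_zero_of_ne_bot hH0
  obtain ⟨u₀, -, hu₀⟩ := SetLike.exists_of_lt (lt_of_le_of_ne (le_top : H ≤ ⊤) hH1)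
  have hinj : Function.Injective A := by
    rw [← LinearMap.ker_eq_bot]
    exact LinearMap.ker_eq_bot.2 (LinearMap.injective_iff_surjective.2
      (((Module.End.isUnit_iff A).1 ((LinearMap.isUnit_iff_isUnit_det A).2 (by rw [hdet]; exact isUnit_one))).2))
  -- adding a rank one map
  have hadd : ∀ (B : U →ₗ[F] U) (ψ : U →ₗ[F] F) (s : U), LinearMap.det B = 1 → (∀ h ∈ H, ψ h = 0) → s ∈ H →
      LinearMap.det (B + ψ.smulRight (B s)) = 1 := by
    intro B ψ s hB hψ hs
    have e : B + ψ.smulRight (B s) = B ∘ₗ LinearMap.transvection ψ s := by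
      ext u
      simp [LinearMap.transvection.apply]
    rw [e, LinearMap.det_comp, LinearMap.transvection.det, hB, hψ s hs]
    ring
  by_cases hc1 : ∀ h ∈ H, A h = h
  · have hHA : H.map A = H := by
      ext x
      constructor
      · rintro ⟨y, hy, rfl⟩
        rw [hc1 y hy]; exact hy
      · intro hx
        exact ⟨x, hx, hc1 x hx⟩
    have hns : ∀ B : U →ₗ[F] U, B r₀ = r₀ → 2 ≤ finrank F (LinearMap.range (B - LinearMap.id)) →
        ∀ c : F, B ≠ c • LinearMap.id := by
      intro B hB hrk c hc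
      have h1 : c • r₀ = r₀ := by
        have h0 := LinearMap.congr_fun hc r₀
        rw [hB] at h0
        exact h0.symm
      have h2 : c = 1 := by
        have h3 : (c - 1) • r₀ = 0 := by rw [sub_smul, one_smul, h1, sub_self]
        rcases smul_eq_zero.1 h3 with h4 | h4
        · exact sub_eq_zero.1 h4
        · exact absurd h4 hr₀
      rw [hc, h2, one_smul, sub_self, LinearMap.range_zero, finrank_bot] at hrk
      omega
    by_cases hc2 : ∀ u, A u - u ∈ H
    · refine ⟨LinearMap.id - A, fun h hh => ?_, fun u => ?_, ?_, Or.inl ?_⟩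
      · rw [LinearMap.sub_apply, hc1 h hh]; simp
      · rw [hHA]
        have := H.neg_mem (hc2 u)
        rw [neg_sub] at this
        exact this
      · rw [add_sub_cancel, LinearMap.det_id]
      · rw [add_sub_cancel]
    · push Not at hc2
      obtain ⟨u₁, hu₁⟩ := hc2
      by_cases hrk : 2 ≤ finrank F (LinearMap.range (A - LinearMap.id))
      · exact ⟨0, fun _ _ => rfl, fun u => Submodule.zero_mem _, by rw [add_zero, hdet],
          Or.inr (by rw [add_zero]; exact ⟨hns A (hc1 _ hr₀H) hrk, hrk⟩)⟩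
      · set z := (A - LinearMap.id : U →ₗ[F] U) u₁ with hz
        have hzH : z ∉ H := hu₁
        have hz0 : z ≠ 0 := fun h0 => hzH (by rw [h0]; exact H.zero_mem)
        obtain ⟨f, hf⟩ := exists_rank_one hrk hz0
        have hf1 : f u₁ = 1 := by
          have h1 := hf u₁
          rw [← hz] at h1
          have h2 : (f u₁ - 1) • z = 0 := by rw [sub_smul, one_smul, ← h1, sub_self]
          rcases smul_eq_zero.1 h2 with h3 | h3
          · exact sub_eq_zero.1 h3
          · exact absurd h3 hz0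
        have hfH : ∀ h ∈ H, f h = 0 := by
          intro h hh
          have h1 := hf h
          rw [LinearMap.sub_apply, hc1 h hh, LinearMap.id_apply, sub_self] at h1
          rcases smul_eq_zero.1 h1.symm with h3 | h3
          · exact h3
          · exact absurd h3 hz0
        have hfz : f z = 0 := by
          have e : A = LinearMap.transvection f z := by
            ext u
            have h1 := hf u
            rw [LinearMap.transvection.apply, ← h1]
            simp
          rw [e, LinearMap.transvection.det] at hdet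
          linear_combination hdet
        have hne : H ⊔ Submodule.span F {u₁} ≠ ⊤ := by
          intro htop
          have h1 : z ∈ H ⊔ Submodule.span F {u₁} := by rw [htop]; trivial
          obtain ⟨a, ha, b, hb, hab⟩ := Submodule.mem_sup.1 h1
          obtain ⟨c, rfl⟩ := Submodule.mem_span_singleton.1 hb
          have h2 : f z = c := by
            rw [← hab, map_add, hfH a ha, map_smul, hf1]; simp
          rw [hfz] at h2
          rw [← h2, zero_smul, add_zero] at hab
          exact hzH (hab ▸ ha)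
        obtain ⟨u₂, -, hu₂⟩ := SetLike.exists_of_lt (lt_of_le_of_ne (le_top : H ⊔ Submodule.span F {u₁} ≤ ⊤) hne)
        obtain ⟨ψ, hψ1, hψ2⟩ := exists_functional hu₂
        have hψH : ∀ h ∈ H, ψ h = 0 := fun h hh => hψ1 h (Submodule.mem_sup_left hh)
        have hψu : ψ u₁ = 0 := hψ1 u₁ (Submodule.mem_sup_right (Submodule.mem_span_singleton_self _))
        have hAr : A r₀ = r₀ := hc1 r₀ hr₀H
        have hd := hadd A ψ r₀ hdet hψH hr₀H
        rw [hAr] at hd
        have hrk2 : 2 ≤ finrank F (LinearMap.range (A + ψ.smulRight r₀ - LinearMap.id)) := by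
          refine two_le_rank (a := u₁) (b := u₂) ?_ ?_
          · intro c hc
            have h1 : (A + ψ.smulRight r₀ - LinearMap.id : U →ₗ[F] U) u₁ = z := by
              rw [hz]; simp [hψu]
            have h2 : (A + ψ.smulRight r₀ - LinearMap.id : U →ₗ[F] U) u₂ = f u₂ • z + r₀ := by
              rw [← hf u₂]; simp [hψ2]; abel
            rw [h1, h2] at hc
            have h3 : (c - f u₂) • z = r₀ := by rw [sub_smul, ← hc]; abel
            by_cases h4 : c - f u₂ = 0
            · rw [h4, zero_smul] at h3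
              exact hr₀ h3.symm
            · apply hzH
              have h5 : z = (c - f u₂)⁻¹ • r₀ := by rw [← h3, smul_smul, inv_mul_cancel₀ h4, one_smul]
              rw [h5]
              exact H.smul_mem _ hr₀H
          · have h1 : (A + ψ.smulRight r₀ - LinearMap.id : U →ₗ[F] U) u₁ = z := by
              rw [hz]; simp [hψu]
            rw [h1]; exact hz0
        refine ⟨ψ.smulRight r₀, fun h hh => ?_, fun u => ?_, hd, Or.inr ⟨hns _ ?_ hrk2, hrk2⟩⟩
        · rw [LinearMap.smulRight_apply, hψH h hh, zero_smul]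
        · rw [hHA, LinearMap.smulRight_apply]
          exact H.smul_mem _ hr₀H
        · rw [LinearMap.add_apply, LinearMap.smulRight_apply, hAr, hψH r₀ hr₀H, zero_smul, add_zero]
  · push Not at hc1
    obtain ⟨h₀, hh₀, hNh₀⟩ := hc1
    obtain ⟨ψ, hψ1, hψ2⟩ := exists_functional hu₀
    -- first get the rank
    have step1 : ∃ φ : U →ₗ[F] U, (∀ h ∈ H, φ h = 0) ∧ (∀ u, φ u ∈ H.map A) ∧ LinearMap.det (A + φ) = 1 ∧
        2 ≤ finrank F (LinearMap.range (A + φ - LinearMap.id)) := by
      by_cases hrk : 2 ≤ finrank F (LinearMap.range (A - LinearMap.id))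
      · exact ⟨0, fun _ _ => rfl, fun u => Submodule.zero_mem _, by rw [add_zero, hdet], by rw [add_zero]; exact hrk⟩
      · set z := (A - LinearMap.id : U →ₗ[F] U) h₀ with hz
        have hz0 : z ≠ 0 := by
          intro h0
          apply hNh₀
          rw [hz, LinearMap.sub_apply, LinearMap.id_apply, sub_eq_zero] at h0
          exact h0
        obtain ⟨f, hf⟩ := exists_rank_one hrk hz0
        by_cases hR : ∃ s ∈ H, ∀ c : F, A s ≠ c • z
        · obtain ⟨s, hs, hsz⟩ := hR
          refine ⟨ψ.smulRight (A s), fun h hh => ?_, fun u => ?_, hadd A ψ s hdet hψ1 hs,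
            two_le_rank (a := h₀) (b := u₀) ?_ ?_⟩
          · rw [LinearMap.smulRight_apply, hψ1 h hh, zero_smul]
          · rw [LinearMap.smulRight_apply]
            exact Submodule.smul_mem _ _ ⟨s, hs, rfl⟩
          · intro c hc
            have h1 : (A + ψ.smulRight (A s) - LinearMap.id : U →ₗ[F] U) h₀ = z := by
              rw [hz]; simp [hψ1 h₀ hh₀]
            have h2 : (A + ψ.smulRight (A s) - LinearMap.id : U →ₗ[F] U) u₀ = f u₀ • z + A s := by
              rw [← hf u₀]; simp [hψ2]; abel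
            rw [h1, h2] at hc
            apply hsz (c - f u₀)
            rw [sub_smul, ← hc]; abel
          · have h1 : (A + ψ.smulRight (A s) - LinearMap.id : U →ₗ[F] U) h₀ = z := by
              rw [hz]; simp [hψ1 h₀ hh₀]
            rw [h1]; exact hz0
        · exfalso
          push Not at hR
          obtain ⟨a, ha⟩ := hR h₀ hh₀
          have h1 : h₀ = (a - 1) • z := by
            have h2 : A h₀ = h₀ + z := by rw [hz]; simp
            rw [sub_smul, one_smul, ← ha, h2]; abel
          have h3 : f h₀ = 1 := by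
            have h4 := hf h₀
            rw [← hz] at h4
            have h5 : (f h₀ - 1) • z = 0 := by rw [sub_smul, one_smul, ← h4, sub_self]
            rcases smul_eq_zero.1 h5 with h6 | h6
            · exact sub_eq_zero.1 h6
            · exact absurd h6 hz0
          have hfz : f z = 0 := by
            have e : A = LinearMap.transvection f z := by
              ext u
              have h1 := hf u
              rw [LinearMap.transvection.apply, ← h1]
              simp
            rw [e, LinearMap.transvection.det] at hdet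
            linear_combination hdet
          rw [h1, map_smul, hfz, smul_zero] at h3
          exact zero_ne_one h3
    obtain ⟨φ, hφ1, hφ2, hφ3, hφ4⟩ := step1
    by_cases hns : ∀ c : F, A + φ ≠ c • LinearMap.id
    · exact ⟨φ, hφ1, hφ2, hφ3, Or.inr ⟨hns, hφ4⟩⟩
    · push Not at hns
      obtain ⟨c, hc⟩ := hns
      have hc1 : c ≠ 1 := by
        intro h1
        rw [hc, h1, one_smul, sub_self, LinearMap.range_zero, finrank_bot] at hφ4
        omega
      have hAH : ∀ h ∈ H, A h = c • h := by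
        intro h hh
        have h1 := LinearMap.congr_fun hc h
        rw [LinearMap.add_apply, hφ1 h hh, add_zero] at h1
        simpa using h1
      have hc0 : c ≠ 0 := by
        intro h0
        have h1 := hAH r₀ hr₀H
        rw [h0, zero_smul] at h1
        exact hr₀ (hinj (by rw [h1, map_zero]))
      have hBr : (A + φ) r₀ = A r₀ := by rw [LinearMap.add_apply, hφ1 r₀ hr₀H, add_zero]
      have hd := hadd (A + φ) ψ r₀ hφ3 hψ1 hr₀H
      rw [hBr] at hd
      have hAr : A r₀ = c • r₀ := hAH r₀ hr₀H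
      have hAr0 : A r₀ ≠ 0 := by
        rw [hAr]; exact smul_ne_zero hc0 hr₀
      refine ⟨φ + ψ.smulRight (A r₀), fun h hh => ?_, fun u => ?_, ?_, Or.inr ⟨?_, ?_⟩⟩
      · rw [LinearMap.add_apply, hφ1 h hh, LinearMap.smulRight_apply, hψ1 h hh, zero_smul, add_zero]
      · rw [LinearMap.add_apply, LinearMap.smulRight_apply]
        exact Submodule.add_mem _ (hφ2 u) (Submodule.smul_mem _ _ ⟨r₀, hr₀H, rfl⟩)
      · rw [← add_assoc]; exact hd
      · intro c' hc'
        rw [← add_assoc, hc] at hc'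
        have h1 := LinearMap.congr_fun hc' r₀
        rw [LinearMap.add_apply, LinearMap.smulRight_apply, hψ1 r₀ hr₀H, zero_smul, add_zero] at h1
        have h2 : (c - c') • r₀ = 0 := by
          rw [sub_smul]
          exact sub_eq_zero.2 h1
        have h3 : c = c' := by
          rcases smul_eq_zero.1 h2 with h4 | h4
          · exact sub_eq_zero.1 h4
          · exact absurd h4 hr₀
        have h4 := LinearMap.congr_fun hc' u₀
        rw [LinearMap.add_apply, LinearMap.smulRight_apply, hψ2, one_smul, h3] at h4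
        exact hAr0 (by simpa using h4)
      · rw [← add_assoc, hc]
        have hinj2 : Function.Injective (c • LinearMap.id + ψ.smulRight (A r₀) - LinearMap.id : U →ₗ[F] U) := by
          rw [← LinearMap.ker_eq_bot, LinearMap.ker_eq_bot']
          intro u hu
          have h1 : (c - 1) • u = (-(ψ u)) • A r₀ := by
            have h2 : c • u + ψ u • A r₀ - u = 0 := hu
            rw [← sub_eq_zero, ← h2]
            module
          have h3 : ψ u = 0 := by
            have h4 := congrArg ψ h1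
            rw [map_smul, map_smul, hAr, map_smul, hψ1 r₀ hr₀H, smul_zero, smul_zero, smul_eq_mul] at h4
            rcases mul_eq_zero.1 h4 with h5 | h5
            · exact absurd (sub_eq_zero.1 h5) hc1
            · exact h5
          rw [h3, neg_zero, zero_smul] at h1
          rcases smul_eq_zero.1 h1 with h5 | h5
          · exact absurd (sub_eq_zero.1 h5) hc1
          · exact h5
        have h6 := LinearMap.finrank_range_of_inj hinj2
        rw [h6]
        refine le_trans ?_ (le_of_eq rfl)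
        have h7 := Submodule.finrank_le (LinearMap.range (A + φ - LinearMap.id))
        omega

end Rank

end Cfsg.Agent.H434.Corn
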