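import Cfsg.Agent.H434.CornBase

/-!
# Corners of isometries II: every admissible corner is realised (helper434)

`W` a maximal totally singular subspace, `g` an isometry, `W = H + W₁` with `g H ≤ W`, `g W₁ ≤ W'`,
`(W, W')` a dual pair. An endomorphism `A` of `W` and `t : W → M` (`M` the middle space) with
* `A h = g h`, `t h = 0` on `H`, `(A w, g w) = - Q (t w)`,
* for `v` in `M` there is `w₁` with `g v - v - t w₁ ∈ g W` and `(A w, g w₁) = (v, t w)`
come from a new partner `W''` of `W`: the corner of `g` is `A` and the middle part of `g` is `1`.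
-/

set_option autoImplicit false

namespace Cfsg.Agent.H434.Corn

open Module QuadraticMap Cfsg.Agent.LieClassical.OrthCore Cfsg.Agent.LieClassical.OrthTrans

variable {F V : Type*} [Field F] [AddCommGroup V] [Module F V] {Q : QuadraticForm F V}

/-- Corner data. -/
structure Datum (Q : QuadraticForm F V) (g : V ≃ₗ[F] V) (W M : Submodule F V)
    (A : W →ₗ[F] W) (t : W →ₗ[F] V) : Prop where
  tM : ∀ w, t w ∈ M
  fixA : ∀ w : W, g w ∈ W → (A w : V) = g w
  fixt : ∀ w : W, g w ∈ W → t w = 0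
  quad : ∀ w : W, polar Q (A w : V) (g w) = - Q (t w)
  mid : ∀ v ∈ M, ∃ w₁ : W, g v - v - t w₁ ∈ W.map g.toLinearMap ∧
    ∀ w : W, polar Q (A w : V) (g w₁) = polar Q v (t w)

/-- The first properties of a middle-one partner. -/
structure Partner (Q : QuadraticForm F V) (g : V ≃ₗ[F] V) (W W' : Submodule F V)
    (A : W →ₗ[F] W) : Prop where
  dp : DP Q W W'
  corner : ∀ w : W, ∀ x ∈ W', polar Q (g w) x = polar Q (A w : V) x
  mid : ∀ v ∈ mids Q W W', ∃ w ∈ W, g (v + w) - v ∈ W'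

/-- The situation. -/
structure Adapted (Q : QuadraticForm F V) (g : V ≃ₗ[F] V) (W W' H W₁ : Submodule F V) : Prop where
  dp : DP Q W W'
  mW : MaxTS Q W
  gO : g ∈ O Q
  HW : H ≤ W
  W₁W : W₁ ≤ W
  sup : H ⊔ W₁ = W
  gH : ∀ h ∈ H, g h ∈ W
  gW₁ : ∀ w ∈ W₁, g w ∈ W'

theorem Adapted.split {g : V ≃ₗ[F] V} {W W' H W₁ : Submodule F V} (h : Adapted Q g W W' H W₁) {w : V}
    (hw : w ∈ W) : ∃ a ∈ H, ∃ b ∈ W₁, w = a + b := by
  rw [← h.sup] at hw
  obtain ⟨a, ha, b, hb, rfl⟩ := Submodule.mem_sup.1 hw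
  exact ⟨a, ha, b, hb, rfl⟩

theorem Adapted.disj {g : V ≃ₗ[F] V} {W W' H W₁ : Submodule F V} (h : Adapted Q g W W' H W₁) {w : V}
    (hw : w ∈ W₁) (hg : g w ∈ W) : w = 0 := by
  have h1 := h.dp.nd (g w) hg (fun x hx => h.dp.ts'.pz (h.gW₁ w hw) hx)
  exact g.map_eq_zero_iff.1 h1

theorem Adapted.exists_p {g : V ≃ₗ[F] V} {W W' H W₁ : Submodule F V} (h : Adapted Q g W W' H W₁) :
    ∃ p : W' →ₗ[F] W, (∀ x, (p x : V) ∈ W₁) ∧ ∀ (w : W) (hw : (w : V) ∈ W₁), p ⟨g w, h.gW₁ w hw⟩ = w := by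
  let f : W₁ →ₗ[F] W' := LinearMap.codRestrict W' (g.toLinearMap ∘ₗ W₁.subtype) (fun w => h.gW₁ w w.2)
  have hf : Function.Injective f := by
    intro a b hab
    apply Subtype.ext
    apply g.injective
    exact congrArg Subtype.val hab
  obtain ⟨l, hl⟩ := LinearMap.exists_leftInverse_of_injective f (LinearMap.ker_eq_bot.2 hf)
  refine ⟨Submodule.inclusion h.W₁W ∘ₗ l, fun x => (l x).2, fun w hw => ?_⟩
  have h1 := LinearMap.congr_fun hl ⟨w, hw⟩
  apply Subtype.ext
  show ((l (f ⟨w, hw⟩) : W₁) : V) = w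
  rw [show l (f ⟨w, hw⟩) = (⟨w, hw⟩ : W₁) from h1]

variable [FiniteDimensional F V]

/-- **Every datum is realised by a partner of `W`.** -/
theorem exists_partner_of_datum {g : V ≃ₗ[F] V} {W W' H W₁ : Submodule F V}
    (h : Adapted Q g W W' H W₁) {A : W →ₗ[F] W} {t : W →ₗ[F] V}
    (D : Datum Q g W (mids Q W W') A t) : ∃ W'' : Submodule F V, Partner Q g W W'' A := by
  classical
  obtain ⟨p, hp1, hp2⟩ := h.exists_p
  have hts := h.dp.ts
  have hts' := h.dp.ts'
  -- the form `σ'(y, x)`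
  let σ : W' →ₗ[F] W' →ₗ[F] F := LinearMap.mk₂ F
    (fun x y => polar Q (A (p y) : V) (x : V) - polar Q (A (p x) : V) (y : V) +
      polar Q (A (p x) : V) (g (p y : V)))
    (by intro a b c; simp only [map_add, Submodule.coe_add, polar_add_left, polar_add_right]; ring)
    (by intro a b c; simp only [map_smul, Submodule.coe_smul, polar_smul_left, polar_smul_right,
          smul_eq_mul]; ring)
    (by intro a b c; simp only [map_add, Submodule.coe_add, polar_add_left, polar_add_right]; ring)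
    (by intro a b c; simp only [map_smul, Submodule.coe_smul, polar_smul_left, polar_smul_right,
          smul_eq_mul]; ring)
  have hσ : ∀ x y : W', σ x y = polar Q (A (p y) : V) (x : V) - polar Q (A (p x) : V) (y : V) +
      polar Q (A (p x) : V) (g (p y : V)) := fun x y => rfl
  let S : W' →ₗ[F] W := h.dp.equiv.symm.toLinearMap ∘ₗ σ
  have hS : ∀ x y : W', polar Q (y : V) (S x : V) = σ x y := by
    intro x y
    rw [polar_comm]
    exact h.dp.equiv_symm (σ x) y
  let j : W' →ₗ[F] V := W'.subtype + t ∘ₗ p + W.subtype ∘ₗ S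
  have hj : ∀ x : W', j x = (x : V) + t (p x) + (S x : V) := fun x => rfl
  have htperp : ∀ w : W, ∀ a ∈ W, polar Q a (t w) = 0 := fun w a ha => (D.tM w).1 a ha
  have htperp' : ∀ w : W, ∀ a ∈ W', polar Q a (t w) = 0 := fun w a ha => (D.tM w).2 a ha
  -- pairings
  have hjW : ∀ a ∈ W, ∀ x : W', polar Q a (j x) = polar Q a (x : V) := by
    intro a ha x
    rw [hj, polar_add_right, polar_add_right, htperp _ _ ha, hts.pz ha (S x).2]
    ring
  have hjW' : ∀ a ∈ W', ∀ x : W', polar Q a (j x) = polar Q a (S x : V) := by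
    intro a ha x
    rw [hj, polar_add_right, polar_add_right, htperp' _ _ ha, hts'.pz ha x.2]
    ring
  have hQj : ∀ x : W', Q (j x) = 0 := by
    intro x
    have h1 : polar Q ((x : V) + t (p x)) (S x : V) = polar Q (x : V) (S x : V) := by
      rw [polar_add_left, polar_comm Q (t (p x)), htperp _ _ (S x).2, add_zero]
    rw [hj, Q_add, h1, Q_add, hts' _ x.2, hts _ (S x).2, htperp' _ _ x.2, hS, hσ, D.quad (p x)]
    ring
  refine ⟨LinearMap.range j, ⟨hts, ?_, ?_, ?_⟩, ?_, ?_⟩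
  · rintro _ ⟨x, rfl⟩
    exact hQj x
  · intro a ha hp
    refine h.dp.nd a ha (fun x hx => ?_)
    have := hp (j ⟨x, hx⟩) ⟨_, rfl⟩
    rwa [hjW a ha] at this
  · rintro _ ⟨x, rfl⟩ hp
    have hx : x = 0 := by
      apply Subtype.ext
      refine h.dp.nd' x x.2 (fun w hw => ?_)
      have := hp w hw
      rwa [hjW w hw] at this
    rw [hx, map_zero]
  · -- the corner
    rintro w _ ⟨x, rfl⟩
    obtain ⟨a, ha, b, hb, hab⟩ := h.split w.2
    have hw : w = ⟨a, h.HW ha⟩ + ⟨b, h.W₁W hb⟩ := Subtype.ext hab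
    have ha' : polar Q (g a) (j x) = polar Q (A ⟨a, h.HW ha⟩ : V) (j x) := by
      rw [D.fixA ⟨a, h.HW ha⟩ (h.gH a ha)]
    have hb' : polar Q (g b) (j x) = polar Q (A ⟨b, h.W₁W hb⟩ : V) (j x) := by
      rw [hjW' _ (h.gW₁ b hb), hjW _ (A ⟨b, h.W₁W hb⟩).2]
      have h1 := hS x ⟨g b, h.gW₁ b hb⟩
      rw [hσ] at h1
      have h2 : p ⟨g b, h.gW₁ b hb⟩ = ⟨b, h.W₁W hb⟩ := hp2 ⟨b, h.W₁W hb⟩ hb
      rw [h2] at h1
      simp only at h1
      rw [h1]
      ring
    rw [hw, map_add, Submodule.coe_add, Submodule.coe_add, map_add, polar_add_left, polar_add_left, ha', hb']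
  · -- the middle part
    intro v hv
    have hvW : v ∈ perp Q W := hv.1
    have hvj : ∀ x : W', polar Q (j x) v = 0 := fun x => hv.2 _ ⟨x, rfl⟩
    set m := h.dp.mid v with hm
    set n := (h.dp.pr v : V) with hn
    have hnW : n ∈ W := (h.dp.pr v).2
    have hvmn : v = m + n := h.dp.decomp_perp hvW
    have hmM : m ∈ mids Q W W' := h.dp.mid_mem v
    obtain ⟨w₀, hw₀1, hw₀2⟩ := D.mid m hmM
    -- replace `w₀` by its component in `W₁`
    obtain ⟨a, ha, b, hb, hab⟩ := h.split w₀.2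
    have hw : w₀ = ⟨a, h.HW ha⟩ + ⟨b, h.W₁W hb⟩ := Subtype.ext hab
    set w₁ : W := ⟨b, h.W₁W hb⟩ with hw₁
    have ht1 : t w₀ = t w₁ := by
      rw [hw, map_add, D.fixt ⟨a, h.HW ha⟩ (h.gH a ha), zero_add]
    rw [ht1] at hw₀1
    have hw₁2 : ∀ w : W, polar Q (A w : V) (g w₁) = polar Q m (t w) := by
      intro w
      rw [← hw₀2 w, hw, Submodule.coe_add, map_add, polar_add_right]
      rw [hts.pz (A w).2 (h.gH a ha), zero_add]
    obtain ⟨w', hw'W, hw'⟩ := hw₀1
    have hgm : g m = m + t w₁ + g w' := by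
      have : g w' = g m - m - t w₁ := hw'
      rw [this]; abel
    set x : W' := ⟨g w₁, h.gW₁ _ hb⟩ with hx
    have hpx : p x = w₁ := hp2 w₁ hb
    -- `n + S x` is in `g W`
    have hkey : n + S x ∈ W.map g.toLinearMap := by
      refine (h.mW.map h.gO).max _ (hts _ (W.add_mem hnW (S x).2)) ?_
      rintro _ ⟨w, hwW, rfl⟩
      show polar Q (g w) (n + S x) = 0
      obtain ⟨a', ha', b', hb', hab'⟩ := h.split hwW
      rw [hab', map_add, polar_add_left, hts.pz (h.gH a' ha') (W.add_mem hnW (S x).2), zero_add]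
      set y : W' := ⟨g b', h.gW₁ _ hb'⟩ with hy
      have hpy : p y = ⟨b', h.W₁W hb'⟩ := hp2 ⟨b', h.W₁W hb'⟩ hb'
      have h1 : polar Q (g b') n = - polar Q m (t ⟨b', h.W₁W hb'⟩) := by
        have h2 := hvj y
        rw [polar_comm, hj, polar_add_right, polar_add_right, hpy] at h2
        rw [polar_comm Q v (S y : V), hvW _ (S y).2, add_zero] at h2
        have h3 : polar Q v (t ⟨b', h.W₁W hb'⟩) = polar Q m (t ⟨b', h.W₁W hb'⟩) := by
          rw [hvmn, polar_add_left, htperp _ _ hnW, add_zero]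
        have h4 : polar Q v (y : V) = polar Q (g b') n := by
          rw [hvmn, polar_add_left, polar_comm Q m, hmM.2 _ y.2, zero_add, polar_comm]
        rw [h3, h4] at h2
        linear_combination h2
      have h5 : polar Q (g b') (S x : V) = polar Q m (t ⟨b', h.W₁W hb'⟩) := by
        have h6 := hS x y
        rw [hσ, hpx, hpy] at h6
        have h7 := hw₁2 ⟨b', h.W₁W hb'⟩
        have h8 : ((y : W') : V) = g b' := rfl
        have h9 : ((x : W') : V) = g w₁ := rfl
        simp only [h8, h9] at h6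
        rw [h6, h7]
        ring
      rw [polar_add_right, h1, h5]
      ring
    obtain ⟨u, huW, hu⟩ := hkey
    have hu' : g u = n + S x := hu
    refine ⟨u + w₁ - w' - n, W.sub_mem (W.sub_mem (W.add_mem huW w₁.2) hw'W) hnW, x, ?_⟩
    rw [hj, hpx]
    have h9 : ((x : W') : V) = g w₁ := rfl
    rw [h9, show v + (u + (w₁ : V) - w' - n) = m + u + w₁ - w' by rw [hvmn]; abel]
    rw [map_sub, map_add, map_add, hgm, hu']
    rw [hvmn]
    abel

end Cfsg.Agent.H434.Corn
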