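import Cfsg.Agent.Phan.Tri

/-!
# The orthogonality graph on unit vectors of a Hermitian space
-/

set_option autoImplicit false

namespace Cfsg.Agent.H434

open Matrix Cfsg Cfsg.Agent.Phan
open Cfsg.Agent.LieClassical.HermBasic

variable {F : Type*} [Field F] {q : ℕ}

/-- the tail of a vector -/
def tl {n : ℕ} (v : Fin (n + 1) → F) : Fin n → F := fun j => v j.succ

theorem cons_tl {n : ℕ} (v : Fin (n + 1) → F) : (Fin.cons (v 0) (tl v) : Fin (n + 1) → F) = v := by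
  funext i
  refine Fin.cases ?_ (fun i => ?_) i
  · rw [Fin.cons_zero]
  · rw [Fin.cons_succ, tl]

omit [Field F] in
theorem tl_cons {n : ℕ} (a : F) (v : Fin n → F) :
    tl (Fin.cons a v : Fin (n + 1) → F) = v := by
  funext j
  rw [tl, Fin.cons_succ]

/-- orthogonality -/
def orth {n : ℕ} (u v : Pt n F q) : Prop := hermForm n F q u.val v.val = 0

variable [Fintype F]

theorem orth_symm (hF : Fintype.card F = q ^ 2) {n : ℕ} {u v : Pt n F q} (h : orth u v) :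
    orth v u := herm_eq_zero_swap hF h

omit [Fintype F] in
theorem orth_smul {n : ℕ} (g : SU n F q) {u v : Pt n F q} (h : orth u v) :
    orth (g • u) (g • v) := by
  rw [orth, smul_val, smul_val, mat_isom]
  exact h

omit [Fintype F] in
theorem adj_of_orth {n : ℕ} {u v : Pt n F q} (h : orth u v) : adj u v := by
  rw [adj, show hermForm n F q u.val v.val = 0 from h, zero_mul]
  exact zero_ne_one

/-- the vector `g (0, x)` -/
def lift0 (hF : Fintype.card F = q ^ 2) {n : ℕ} (g : SU (n + 1) F q) (x : Pt n F q) :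
    Pt (n + 1) F q :=
  ⟨mat g *ᵥ Fin.cons 0 x.val, by
    rw [mat_isom, herm_cons, x.norm, zero_pow_q hF, mul_zero, zero_add]⟩

theorem herm_lift0 (hF : Fintype.card F = q ^ 2) {n : ℕ} (g : SU (n + 1) F q) (x : Pt n F q)
    (w : Fin (n + 1) → F) : hermForm (n + 1) F q (lift0 hF g x).val w =
      hermForm n F q x.val (tl (mat g⁻¹ *ᵥ w)) := by
  have h1 : w = mat g *ᵥ (mat g⁻¹ *ᵥ w) := by
    rw [Matrix.mulVec_mulVec, mat_mul_inv, Matrix.one_mulVec]
  conv_lhs => rw [h1, lift0]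
  change hermForm (n + 1) F q (mat g *ᵥ Fin.cons 0 x.val) (mat g *ᵥ (mat g⁻¹ *ᵥ w)) = _
  rw [mat_isom]
  conv_lhs => rw [← cons_tl (mat g⁻¹ *ᵥ w)]
  rw [herm_cons, zero_mul, zero_add]

theorem herm_lift0_base (hF : Fintype.card F = q ^ 2) {n : ℕ} (g : SU (n + 1) F q)
    (x : Pt n F q) : orth (lift0 hF g x) (g • e0 n F q) := by
  rw [orth, herm_lift0, smul_val, Matrix.mulVec_mulVec, mat_inv_mul, Matrix.one_mulVec, e0_val',
    tl_cons, herm_zero_right hF]

/-- a unit vector orthogonal to `g e0` is of the form `g (0, x)` -/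
theorem exists_lift0 (hF : Fintype.card F = q ^ 2) {n : ℕ} (g : SU (n + 1) F q)
    (w : Pt (n + 1) F q) (h : orth w (g • e0 n F q)) : ∃ x : Pt n F q, lift0 hF g x = w := by
  have h0 : (mat g⁻¹ *ᵥ w.val) 0 = 0 := by
    have h2 : hermForm (n + 1) F q (mat g *ᵥ (mat g⁻¹ *ᵥ w.val)) (mat g *ᵥ (e0 n F q).val) = 0 := by
      rw [Matrix.mulVec_mulVec, mat_mul_inv, Matrix.one_mulVec]
      exact h
    rw [mat_isom, herm_e0_right hF] at h2
    exact h2
  have h1 : (Fin.cons 0 (tl (mat g⁻¹ *ᵥ w.val)) : Fin (n + 1) → F) = mat g⁻¹ *ᵥ w.val := by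
    rw [← h0, cons_tl]
  have hn : hermForm n F q (tl (mat g⁻¹ *ᵥ w.val)) (tl (mat g⁻¹ *ᵥ w.val)) = 1 := by
    have h2 := w.norm
    rw [← mat_isom g⁻¹, ← h1, herm_cons, zero_mul, zero_add] at h2
    exact h2
  refine ⟨⟨tl (mat g⁻¹ *ᵥ w.val), hn⟩, ?_⟩
  apply Pt.ext'
  change mat g *ᵥ Fin.cons 0 (tl (mat g⁻¹ *ᵥ w.val)) = w.val
  rw [h1, Matrix.mulVec_mulVec, mat_mul_inv, Matrix.one_mulVec]

/-- the form on tails -/
theorem herm_tl (hF : Fintype.card F = q ^ 2) {n : ℕ} (g : SU (n + 1) F q) (v w : Fin (n + 1) → F) :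
    hermForm n F q (tl (mat g⁻¹ *ᵥ v)) (tl (mat g⁻¹ *ᵥ w)) = hermForm (n + 1) F q v w -
      hermForm (n + 1) F q v (g • e0 n F q).val * hermForm (n + 1) F q (g • e0 n F q).val w := by
  have h1 : ∀ v : Fin (n + 1) → F, hermForm (n + 1) F q v (g • e0 n F q).val =
      (mat g⁻¹ *ᵥ v) 0 := by
    intro v
    rw [← herm_e0_right hF (mat g⁻¹ *ᵥ v), ← mat_isom g⁻¹ v, smul_val, Matrix.mulVec_mulVec,
      mat_inv_mul, Matrix.one_mulVec]
  have h2 : hermForm (n + 1) F q (g • e0 n F q).val w = (mat g⁻¹ *ᵥ w) 0 ^ q := by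
    rw [herm_swap hF w, h1]
  have h3 : hermForm (n + 1) F q v w = (mat g⁻¹ *ᵥ v) 0 * (mat g⁻¹ *ᵥ w) 0 ^ q +
      hermForm n F q (tl (mat g⁻¹ *ᵥ v)) (tl (mat g⁻¹ *ᵥ w)) := by
    rw [← mat_isom g⁻¹ v w, ← herm_cons, cons_tl, cons_tl]
  rw [h1, h2, h3]
  ring

/-- a nonisotropic vector and `k` others -/
theorem exists_perp_of_ne (hF : Fintype.card F = q ^ 2) {n k : ℕ}
    (ih : ∀ L : Fin k → Fin (n + 1) → F, ∃ x : Pt (n + 1) F q, ∀ i,
      hermForm (n + 1) F q x.val (L i) = 0) {r : Fin (n + 2) → F}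
    (hr : hermForm (n + 2) F q r r ≠ 0) (L : Fin k → Fin (n + 2) → F) :
    ∃ x : Pt (n + 2) F q, hermForm (n + 2) F q x.val r = 0 ∧
      ∀ i, hermForm (n + 2) F q x.val (L i) = 0 := by
  obtain ⟨μ, hμ0, hμ⟩ := exists_norm_eq_ne hF (herm_self_pow hF r) hr
  obtain ⟨g, hg⟩ := exists_su_map hF (n := n) (u := Pi.single 0 μ) (v := r) (by
    rw [herm_single_left, Pi.single_eq_same, hμ]) (by
    rw [herm_single_left, Pi.single_eq_same, hμ]; exact hr)
  obtain ⟨x, hx⟩ := ih (fun i => tl (mat g⁻¹ *ᵥ L i))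
  refine ⟨lift0 hF g x, ?_, ?_⟩
  · rw [herm_lift0, ← hg, Matrix.mulVec_mulVec, mat_inv_mul, Matrix.one_mulVec,
      single_zero_eq_cons, tl_cons, herm_zero_right hF]
  · intro i
    rw [herm_lift0]
    exact hx i

/-- **Unit vectors orthogonal to `k` vectors** in dimension at least `2 k + 1`. -/
theorem exists_perp (hF : Fintype.card F = q ^ 2) (k : ℕ) : ∀ (n : ℕ) (L : Fin k → Fin n → F),
    2 * k + 1 ≤ n → ∃ x : Pt n F q, ∀ i, hermForm n F q x.val (L i) = 0 := by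
  induction k with
  | zero =>
    intro n L hn
    obtain ⟨m, rfl⟩ : ∃ m, n = m + 1 := ⟨n - 1, by omega⟩
    exact ⟨e0 m F q, fun i => i.elim0⟩
  | succ k ih =>
    intro n L hn
    obtain ⟨m, rfl⟩ : ∃ m, n = m + 3 := ⟨n - 3, by omega⟩
    have hsplit : ∀ x : Pt (m + 3) F q, hermForm (m + 3) F q x.val (L 0) = 0 →
        (∀ i : Fin k, hermForm (m + 3) F q x.val (L i.succ) = 0) →
        ∀ i, hermForm (m + 3) F q x.val (L i) = 0 := by
      intro x h0 h1 i
      refine Fin.cases h0 (fun i => h1 i) i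
    by_cases h0 : L 0 = 0
    · obtain ⟨x, hx⟩ := ih (m + 3) (fun i => L i.succ) (by omega)
      exact ⟨x, hsplit x (by rw [h0, herm_zero_right hF]) hx⟩
    by_cases hr : hermForm (m + 3) F q (L 0) (L 0) = 0
    · obtain ⟨y, hy⟩ := exists_unit_of_isotropic hF hr h0 (one_ne_zero (α := F))
      obtain ⟨g, hg⟩ := exists_su_smul hF (e0 (m + 2) F q) y
      have h1 : hermForm (m + 2) F q (tl (mat g⁻¹ *ᵥ L 0)) (tl (mat g⁻¹ *ᵥ L 0)) ≠ 0 := by
        rw [herm_tl hF, hr, hg, hy, herm_swap hF y.val, hy, one_pow, mul_one, zero_sub]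
        exact neg_ne_zero.2 one_ne_zero
      obtain ⟨x, hx1, hx2⟩ := exists_perp_of_ne hF (fun L => ih (m + 1) L (by omega)) h1
        (fun i : Fin k => tl (mat g⁻¹ *ᵥ L i.succ))
      exact ⟨lift0 hF g x, hsplit _ (by rw [herm_lift0]; exact hx1)
        (fun i => by rw [herm_lift0]; exact hx2 i)⟩
    · obtain ⟨x, hx1, hx2⟩ := exists_perp_of_ne hF (fun L => ih (m + 2) L (by omega)) hr
        (fun i : Fin k => L i.succ)
      exact ⟨x, hsplit x hx1 hx2⟩

/-- frames for an orthonormal pair -/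
theorem exists_frame_two (hF : Fintype.card F = q ^ 2) {n : ℕ} (p u : Pt (n + 3) F q)
    (h : orth u p) : ∃ (g : SU (n + 3) F q) (g' : SU (n + 2) F q), g • e0 (n + 2) F q = p ∧
      lift0 hF g (g' • e0 (n + 1) F q) = u := by
  obtain ⟨g, hg⟩ := exists_su_smul hF (e0 (n + 2) F q) p
  obtain ⟨x, hx⟩ := exists_lift0 hF g u (by rw [hg]; exact h)
  obtain ⟨g', hg'⟩ := exists_su_smul hF (e0 (n + 1) F q) x
  exact ⟨g, g', hg, by rw [hg', hx]⟩

/-- a unit vector orthogonal to an orthonormal pair and `k` others -/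
theorem exists_perp_pair (hF : Fintype.card F = q ^ 2) {n k : ℕ} (p u : Pt (n + 3) F q)
    (h : orth u p) (L : Fin k → Fin (n + 3) → F) (hk : 2 * k + 1 ≤ n + 1) :
    ∃ x : Pt (n + 3) F q, orth x p ∧ orth x u ∧ ∀ i, hermForm (n + 3) F q x.val (L i) = 0 := by
  obtain ⟨g, g', hg, hg'⟩ := exists_frame_two hF p u h
  obtain ⟨x, hx⟩ := exists_perp hF k (n + 1) (fun i => tl (mat g'⁻¹ *ᵥ tl (mat g⁻¹ *ᵥ L i))) hk
  refine ⟨lift0 hF g (lift0 hF g' x), ?_, ?_, ?_⟩
  · rw [← hg]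
    exact herm_lift0_base hF _ _
  · rw [orth, ← hg', herm_lift0]
    change hermForm (n + 2) F q (lift0 hF g' x).val
      (tl (mat g⁻¹ *ᵥ (mat g *ᵥ Fin.cons 0 (g' • e0 (n + 1) F q).val))) = 0
    rw [Matrix.mulVec_mulVec, mat_inv_mul, Matrix.one_mulVec, tl_cons]
    exact herm_lift0_base hF _ _
  · intro i
    rw [herm_lift0, herm_lift0]
    exact hx i

theorem exists_nbr (hF : Fintype.card F = q ^ 2) {n : ℕ} (p w : Pt (n + 4) F q) :
    ∃ u : Pt (n + 4) F q, orth p u ∧ orth u w := by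
  obtain ⟨x, hx1, hx2⟩ := exists_perp_of_ne hF (fun L => exists_perp hF 1 (n + 3) L (by omega))
    (r := p.val) (by rw [p.norm]; exact one_ne_zero) (fun _ => w.val)
  exact ⟨x, orth_symm hF hx1, hx2 0⟩

theorem exists_nbr_edge (hF : Fintype.card F = q ^ 2) {n : ℕ} (p w w' : Pt (n + 5) F q)
    (h : orth w w') : ∃ u : Pt (n + 5) F q, orth p u ∧ orth u w ∧ orth u w' := by
  obtain ⟨x, hx1, hx2, hx3⟩ := exists_perp_pair hF (n := n + 2) w' w h (fun _ : Fin 1 => p.val)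
    (by omega)
  exact ⟨x, orth_symm hF (hx3 0), hx2, hx1⟩

theorem exists_nbr_four (hF : Fintype.card F = q ^ 2) {n : ℕ} (p w u u' : Pt (n + 7) F q)
    (h : orth p u) : ∃ v : Pt (n + 7) F q, orth p v ∧ orth v w ∧ orth u v ∧ orth v u' := by
  obtain ⟨x, hx1, hx2, hx3⟩ := exists_perp_pair hF (n := n + 4) p u (orth_symm hF h)
    (![w.val, u'.val] : Fin 2 → _) (by omega)
  exact ⟨x, orth_symm hF hx1, hx3 0, orth_symm hF hx2, hx3 1⟩

/-- common neighbours in dimension six -/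
theorem exists_nbr_adj (hF : Fintype.card F = q ^ 2) {n : ℕ} (p w u u' : Pt (n + 6) F q)
    (hpu : orth p u) (hpu' : orth p u') (ha : adj u u') :
    ∃ v : Pt (n + 6) F q, orth p v ∧ orth v w ∧ orth u v ∧ orth v u' := by
  obtain ⟨g, g', hg, hg'⟩ := exists_frame_two hF (n := n + 3) p u (orth_symm hF hpu)
  have huv : (tl (mat g⁻¹ *ᵥ u.val)) = (g' • e0 (n + 4) F q).val := by
    rw [← hg']
    change tl (mat g⁻¹ *ᵥ (mat g *ᵥ Fin.cons 0 (g' • e0 (n + 4) F q).val)) = _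
    rw [Matrix.mulVec_mulVec, mat_inv_mul, Matrix.one_mulVec, tl_cons]
  have h1 : hermForm (n + 4) F q (tl (mat g'⁻¹ *ᵥ tl (mat g⁻¹ *ᵥ u'.val)))
      (tl (mat g'⁻¹ *ᵥ tl (mat g⁻¹ *ᵥ u'.val))) ≠ 0 := by
    rw [herm_tl hF, ← huv, herm_tl hF, herm_tl hF, herm_tl hF, hg]
    have e1 : hermForm (n + 6) F q p.val u'.val = 0 := hpu'
    have e2 : hermForm (n + 6) F q p.val u.val = 0 := hpu
    rw [e1, e2, mul_zero, mul_zero, sub_zero, sub_zero, sub_zero, u'.norm]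
    intro h0
    apply ha
    linear_combination -h0
  obtain ⟨x, hx1, hx2⟩ := exists_perp_of_ne hF (n := n + 2)
    (fun L => exists_perp hF 1 (n + 3) L (by omega)) h1
    (fun _ => tl (mat g'⁻¹ *ᵥ tl (mat g⁻¹ *ᵥ w.val)))
  refine ⟨lift0 hF g (lift0 hF g' x), ?_, ?_, ?_, ?_⟩
  · rw [← hg]
    exact orth_symm hF (herm_lift0_base hF _ _)
  · rw [orth, herm_lift0, herm_lift0]
    exact hx2 0
  · apply orth_symm hF
    rw [orth, herm_lift0, huv]
    exact herm_lift0_base hF _ _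
  · rw [orth, herm_lift0, herm_lift0]
    exact hx1

/-- a unit vector whose product with `s` does not have norm one (`q ≥ 3`) -/
theorem exists_unit_ne (hF : Fintype.card F = q ^ 2) (hq : 3 ≤ q) {n : ℕ} (s : Fin (n + 2) → F) :
    ∃ y : Pt (n + 2) F q, hermForm (n + 2) F q y.val s * hermForm (n + 2) F q y.val s ^ q ≠ 1 := by
  classical
  by_cases h0 : s = 0
  · refine ⟨e0 (n + 1) F q, ?_⟩
    rw [h0, herm_zero_right hF, zero_mul]
    exact zero_ne_one
  by_cases hs : hermForm (n + 2) F q s s = 0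
  · -- an element of norm different from `0` and `1`
    obtain ⟨γ, hγ0, hγ1⟩ : ∃ γ : F, γ ≠ 0 ∧ γ * γ ^ q ≠ 1 := by
      by_contra hcon
      push Not at hcon
      have h1 : (Finset.univ : Finset F) ⊆ insert 0 (Finset.univ.filter fun y : F => y * y ^ q = 1) := by
        intro y _
        rw [Finset.mem_insert]
        by_cases hy : y = 0
        · exact Or.inl hy
        · exact Or.inr (Finset.mem_filter.2 ⟨Finset.mem_univ _, hcon y hy⟩)
      have h2 := Finset.card_le_card h1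
      have h3 := Finset.card_insert_le (0 : F) (Finset.univ.filter fun y : F => y * y ^ q = 1)
      have h5 : (Finset.univ.filter fun y : F => y * y ^ q = 1).card = q + 1 := by
        rw [← card_norm_eq_one hF, Nat.card_eq_fintype_card, Fintype.card_subtype]
      rw [Finset.card_univ, hF] at h2
      rw [h5] at h3
      nlinarith
    obtain ⟨y, hy⟩ := exists_unit_of_isotropic hF hs h0 hγ0
    exact ⟨y, by rw [hy]; exact hγ1⟩
  · obtain ⟨y, hy, -⟩ := exists_perp_of_ne hF (k := 0)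
      (fun L => exists_perp hF 0 (n + 1) L (by omega)) hs (fun i => i.elim0)
    refine ⟨y, ?_⟩
    rw [hy, zero_mul]
    exact zero_ne_one

/-- a unit vector orthogonal to `r` whose product with `s` does not have norm one (`q ≥ 3`) -/
theorem exists_unit_ne_perp (hF : Fintype.card F = q ^ 2) (hq : 3 ≤ q) {n : ℕ}
    (r s : Fin (n + 4) → F) :
    ∃ y : Pt (n + 4) F q, hermForm (n + 4) F q y.val r = 0 ∧
      hermForm (n + 4) F q y.val s * hermForm (n + 4) F q y.val s ^ q ≠ 1 := by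
  by_cases h0 : r = 0
  · obtain ⟨y, hy⟩ := exists_unit_ne hF hq (n := n + 2) s
    exact ⟨y, by rw [h0, herm_zero_right hF], hy⟩
  -- the nonisotropic case
  have key : ∀ (m : ℕ) (r s : Fin (m + 3) → F), hermForm (m + 3) F q r r ≠ 0 →
      ∃ y : Pt (m + 3) F q, hermForm (m + 3) F q y.val r = 0 ∧
      hermForm (m + 3) F q y.val s * hermForm (m + 3) F q y.val s ^ q ≠ 1 := by
    intro m r s hr
    obtain ⟨μ, hμ0, hμ⟩ := exists_norm_eq_ne hF (herm_self_pow hF r) hr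
    obtain ⟨g, hg⟩ := exists_su_map hF (n := m + 1) (u := Pi.single 0 μ) (v := r) (by
      rw [herm_single_left, Pi.single_eq_same, hμ]) (by
      rw [herm_single_left, Pi.single_eq_same, hμ]; exact hr)
    obtain ⟨x, hx⟩ := exists_unit_ne hF hq (n := m) (tl (mat g⁻¹ *ᵥ s))
    refine ⟨lift0 hF g x, ?_, ?_⟩
    · rw [herm_lift0, ← hg, Matrix.mulVec_mulVec, mat_inv_mul, Matrix.one_mulVec,
        single_zero_eq_cons, tl_cons, herm_zero_right hF]
    · rw [herm_lift0]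
      exact hx
  by_cases hr : hermForm (n + 4) F q r r = 0
  · obtain ⟨y, hy⟩ := exists_unit_of_isotropic hF hr h0 (one_ne_zero (α := F))
    obtain ⟨g, hg⟩ := exists_su_smul hF (e0 (n + 3) F q) y
    have h1 : hermForm (n + 3) F q (tl (mat g⁻¹ *ᵥ r)) (tl (mat g⁻¹ *ᵥ r)) ≠ 0 := by
      rw [herm_tl hF, hr, hg, hy, herm_swap hF y.val, hy, one_pow, mul_one, zero_sub]
      exact neg_ne_zero.2 one_ne_zero
    obtain ⟨x, hx1, hx2⟩ := key n _ (tl (mat g⁻¹ *ᵥ s)) h1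
    exact ⟨lift0 hF g x, by rw [herm_lift0]; exact hx1, by rw [herm_lift0]; exact hx2⟩
  · exact key (n + 1) r s hr

/-- an intermediate vector (`q ≥ 3`, dimension at least six) -/
theorem exists_step (hF : Fintype.card F = q ^ 2) (hq : 3 ≤ q) {n : ℕ} (p w u u' : Pt (n + 6) F q)
    (hpu : orth p u) : ∃ v : Pt (n + 6) F q, orth p v ∧ orth v w ∧ orth u v ∧ adj v u' := by
  obtain ⟨g, g', hg, hg'⟩ := exists_frame_two hF (n := n + 3) p u (orth_symm hF hpu)
  have huv : (tl (mat g⁻¹ *ᵥ u.val)) = (g' • e0 (n + 4) F q).val := by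
    rw [← hg']
    change tl (mat g⁻¹ *ᵥ (mat g *ᵥ Fin.cons 0 (g' • e0 (n + 4) F q).val)) = _
    rw [Matrix.mulVec_mulVec, mat_inv_mul, Matrix.one_mulVec, tl_cons]
  obtain ⟨x, hx1, hx2⟩ := exists_unit_ne_perp hF hq (n := n)
    (tl (mat g'⁻¹ *ᵥ tl (mat g⁻¹ *ᵥ w.val))) (tl (mat g'⁻¹ *ᵥ tl (mat g⁻¹ *ᵥ u'.val)))
  refine ⟨lift0 hF g (lift0 hF g' x), ?_, ?_, ?_, ?_⟩
  · rw [← hg]
    exact orth_symm hF (herm_lift0_base hF _ _)
  · rw [orth, herm_lift0, herm_lift0]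
    exact hx1
  · apply orth_symm hF
    rw [orth, herm_lift0, huv]
    exact herm_lift0_base hF _ _
  · rw [adj, herm_swap hF (lift0 hF g (lift0 hF g' x)).val u'.val, herm_lift0, herm_lift0]
    exact hx2

end Cfsg.Agent.H434
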