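import Cfsg.Agent.Phan.Recog
import Cfsg.Prelude.Def_PhanSystems

/-!
# Weak Phan systems

`exists_weak_system` : from subgroups `U i`, `V i j` such that consecutive `U`'s form a standard pair in `V` and
distant `U`'s commute elementwise, to a `System` of homomorphisms (every `q ≥ 2`).
-/

set_option autoImplicit false

namespace Cfsg.Agent.H434

open Matrix Cfsg Cfsg.Agent.Phan
open Cfsg.Agent.LieClassical.HermBasic

variable {F : Type*} [Field F] {q : ℕ} [Fintype F]

/-- An element which is trivial off the range of `e` is in the image of `ext`. -/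
theorem mem_range_ext (hF : Fintype.card F = q ^ 2) {m n : ℕ} (e : Fin m → Fin n)
    (he : Function.Injective e) (A : SU n F q)
    (hl : ∀ k, (∀ i, k ≠ e i) → ∀ l, mat A k l = (1 : Matrix (Fin n) (Fin n) F) k l)
    (hr : ∀ k, (∀ i, k ≠ e i) → ∀ l, mat A l k = (1 : Matrix (Fin n) (Fin n) F) l k) :
    ∃ x : SU m F q, Phan.ext hF e he x = A := by
  have key : mat A = extM e ((mat A).submatrix e e) := by
    ext a b
    by_cases ha : ∀ i, a ≠ e i
    · rw [extM_apply_left ha, hl a ha]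
    · by_cases hb : ∀ i, b ≠ e i
      · rw [extM_apply_right he hb, hr b hb]
      · push Not at ha hb
        obtain ⟨i, rfl⟩ := ha
        obtain ⟨j, rfl⟩ := hb
        rw [extM_apply he, Matrix.submatrix_apply]
  refine ⟨mk ((mat A).submatrix e e) ?_ ?_, ?_⟩
  · rw [← extM_det he, ← key, mat_det]
  · intro u v
    rw [← herm_inc he, ← herm_inc he u v, ← extM_inc he, ← extM_inc he, ← key, mat_isom]
  · apply mat_inj
    rw [mat_ext, mat_mk]
    exact key.symm

/-- The block subgroup is the image of the embedding. -/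
theorem suBlock_eq (hF : Fintype.card F = q ^ 2) {m n : ℕ} (e : Fin m → Fin n)
    (he : Function.Injective e) (s : Set (Fin n)) (hs : ∀ k, k ∉ s ↔ ∀ i, k ≠ e i) :
    suBlock n F q s = (Phan.ext hF e he).range := by
  apply le_antisymm
  · rw [suBlock, Subgroup.closure_le]
    intro A hA
    obtain ⟨x, hx⟩ := mem_range_ext hF e he A (fun k hk l => by
      have h1 := hA k ((hs k).2 hk)
      by_cases hlk : l = k
      · subst hlk
        rw [Matrix.one_apply_eq]
        exact h1.1
      · rw [Matrix.one_apply_ne (Ne.symm hlk)]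
        exact (h1.2 l hlk).1) (fun k hk l => by
      have h1 := hA k ((hs k).2 hk)
      by_cases hlk : l = k
      · subst hlk
        rw [Matrix.one_apply_eq]
        exact h1.1
      · rw [Matrix.one_apply_ne hlk]
        exact (h1.2 l hlk).2)
    exact ⟨x, hx⟩
  · rintro _ ⟨x, rfl⟩
    apply Subgroup.subset_closure
    intro k hk
    have hk' := (hs k).1 hk
    change mat (Phan.ext hF e he x) k k = 1 ∧ ∀ l, l ≠ k → mat (Phan.ext hF e he x) k l = 0 ∧
      mat (Phan.ext hF e he x) l k = 0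
    rw [mat_ext]
    refine ⟨?_, ?_⟩
    · rw [extM_apply_left hk', Matrix.one_apply_eq]
    · intro l hl
      rw [extM_apply_left hk', extM_apply_right he hk', Matrix.one_apply_ne (Ne.symm hl),
        Matrix.one_apply_ne hl]
      exact ⟨rfl, rfl⟩

theorem suBlock_three_left (hF : Fintype.card F = q ^ 2) :
    suBlock 3 F q {0, 1} = (emb hF 0 (by omega : 0 + 2 ≤ 3)).range := by
  refine suBlock_eq hF _ _ _ ?_
  intro k
  constructor
  · intro hk i hi
    apply hk
    rw [hi]
    fin_cases i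
    · left; rfl
    · right; rfl
  · intro h hk
    rcases hk with hk | hk
    · exact h 0 (by rw [hk]; rfl)
    · rw [Set.mem_singleton_iff] at hk
      exact h 1 (by rw [hk]; rfl)

theorem suBlock_three_right (hF : Fintype.card F = q ^ 2) :
    suBlock 3 F q {1, 2} = (emb hF 1 (by omega : 1 + 2 ≤ 3)).range := by
  refine suBlock_eq hF _ _ _ ?_
  intro k
  constructor
  · intro hk i hi
    apply hk
    rw [hi]
    fin_cases i
    · left; rfl
    · right; rfl
  · intro h hk
    rcases hk with hk | hk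
    · exact h 0 (by rw [hk]; rfl)
    · rw [Set.mem_singleton_iff] at hk
      exact h 1 (by rw [hk]; rfl)

/-- A standard pair comes from a homomorphism of `SU 3` with central kernel. -/
theorem exists_of_standard (hF : Fintype.card F = q ^ 2) {G : Type*} [Group G]
    {V A B : Subgroup G} (h : IsStandardUnitaryPair V A B F q) :
    ∃ ψ : SU 3 F q →* G, ψ.range = V ∧ ψ.ker ≤ Subgroup.center (SU 3 F q) ∧
      (ψ.comp (emb hF 0 (by omega : 0 + 2 ≤ 3))).range = A ∧
      (ψ.comp (emb hF 1 (by omega : 1 + 2 ≤ 3))).range = B := by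
  rw [IsStandardUnitaryPair, suBlock_three_left hF, suBlock_three_right hF] at h
  rcases h with ⟨ψ, hA, hB⟩ | ⟨ψ, hA, hB⟩
  · refine ⟨V.subtype.comp ψ.toMonoidHom, ?_, ?_, ?_, ?_⟩
    · rw [MonoidHom.range_comp, MonoidHom.range_eq_top.2 ψ.surjective, ← MonoidHom.range_eq_map,
        Subgroup.range_subtype]
    · intro x hx
      have h1 : ψ x = 1 := by
        apply Subtype.ext
        exact hx
      rw [EmbeddingLike.map_eq_one_iff] at h1
      rw [h1]
      exact one_mem _
    · rw [MonoidHom.range_comp]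
      exact hA
    · rw [MonoidHom.range_comp]
      exact hB
  · refine ⟨V.subtype.comp (ψ.toMonoidHom.comp
      (QuotientGroup.mk' (Subgroup.center (SU 3 F q)))), ?_, ?_, ?_, ?_⟩
    · rw [MonoidHom.range_comp, MonoidHom.range_eq_top.2, ← MonoidHom.range_eq_map,
        Subgroup.range_subtype]
      exact ψ.surjective.comp (QuotientGroup.mk'_surjective _)
    · intro x hx
      have h1 : ψ (QuotientGroup.mk' (Subgroup.center (SU 3 F q)) x) = 1 := by
        apply Subtype.ext
        exact hx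
      rw [EmbeddingLike.map_eq_one_iff] at h1
      exact (QuotientGroup.eq_one_iff x).1 h1
    · rw [MonoidHom.range_comp]
      exact hA
    · rw [MonoidHom.range_comp]
      exact hB

/-- homomorphisms with central kernel are injective on the blocks -/
theorem inj_of_ker (hF : Fintype.card F = q ^ 2) {H : Type*} [Group H] {ψ : SU 3 F q →* H}
    (h : ψ.ker ≤ Subgroup.center (SU 3 F q)) {a : ℕ} (ha : a + 2 ≤ 3) :
    Function.Injective (ψ.comp (emb hF a ha)) := by
  rw [injective_iff_map_eq_one]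
  intro x hx
  have h1 : emb hF a ha x ∈ Subgroup.center (SU 3 F q) := h hx
  have h2 : emb hF a ha x = 1 := by
    obtain ⟨i, hi⟩ : ∃ i : Fin 3, (i : ℕ) < a ∨ a + 2 ≤ i := by
      by_cases h0 : a = 0
      · exact ⟨2, Or.inr (by rw [h0]; decide)⟩
      · exact ⟨0, Or.inl (by simp; omega)⟩
    exact eq_one_of_center_fix hF (n := 1) (fun g => Subgroup.mem_center_iff.1 h1 g)
      (pe 3 F q i) (emb_smul_pe hF a ha x hi)
  exact emb_injective hF a ha (by rw [h2, map_one])

/-- a torus element -/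
theorem exists_torus_param (hF : Fintype.card F = q ^ 2) :
    ∃ c : F, c * c ^ q = 1 ∧ c * c ≠ 1 := by
  classical
  by_contra hcon
  push Not at hcon
  have h3 : (Finset.univ.filter fun y : F => y * y ^ q = 1) ⊆ {1, -1} := by
    intro y hy
    simp only [Finset.mem_filter, Finset.mem_univ, true_and] at hy
    rw [Finset.mem_insert, Finset.mem_singleton]
    exact mul_self_eq_one_iff.1 (hcon y hy)
  have h4 := Finset.card_le_card h3
  have h5 : (Finset.univ.filter fun y : F => y * y ^ q = 1).card = q + 1 := by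
    rw [← card_norm_eq_one hF, Nat.card_eq_fintype_card, Fintype.card_subtype]
  rw [h5] at h4
  have h6 := Finset.card_le_two (a := (1 : F)) (b := -1)
  have := two_le hF
  omega

/-! ### the action of the tori -/

/-- matrices of the two embeddings -/
theorem mat_emb_zero_three (hF : Fintype.card F = q ^ 2) (x : SU 2 F q) :
    mat (emb hF 0 (by omega : 0 + 2 ≤ 3) x) =
      !![mat x 0 0, mat x 0 1, 0; mat x 1 0, mat x 1 1, 0; 0, 0, 1] := by
  have hi := sh_injective 0 (by omega : 0 + 2 ≤ 3)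
  have h0 : ∀ i j : Fin 2, mat (emb hF 0 (by omega : 0 + 2 ≤ 3) x)
      (sh 0 (by omega : 0 + 2 ≤ 3) i) (sh 0 (by omega : 0 + 2 ≤ 3) j) = mat x i j :=
    fun i j => extM_apply hi _ i j
  have hn : ∀ i : Fin 2, (2 : Fin 3) ≠ sh 0 (by omega : 0 + 2 ≤ 3) i := by
    intro i hi
    have := congrArg Fin.val hi
    rw [sh_val] at this
    simp at this
    omega
  have hr : ∀ a : Fin 3, mat (emb hF 0 (by omega : 0 + 2 ≤ 3) x) a 2 =
      (1 : Matrix (Fin 3) (Fin 3) F) a 2 := fun a => extM_apply_right hi hn _ a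
  have hl : ∀ a : Fin 3, mat (emb hF 0 (by omega : 0 + 2 ≤ 3) x) 2 a =
      (1 : Matrix (Fin 3) (Fin 3) F) 2 a := fun a => extM_apply_left hn _ a
  ext a b
  fin_cases a <;> fin_cases b
  · exact h0 0 0
  · exact h0 0 1
  · exact (hr 0).trans (by simp)
  · exact h0 1 0
  · exact h0 1 1
  · exact (hr 1).trans (by simp)
  · exact (hl 0).trans (by simp)
  · exact (hl 1).trans (by simp)
  · exact (hr 2).trans (by simp)

theorem mat_emb_one_three (hF : Fintype.card F = q ^ 2) (x : SU 2 F q) :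
    mat (emb hF 1 (by omega : 1 + 2 ≤ 3) x) =
      !![1, 0, 0; 0, mat x 0 0, mat x 0 1; 0, mat x 1 0, mat x 1 1] := by
  have hi := sh_injective 1 (by omega : 1 + 2 ≤ 3)
  have h0 : ∀ i j : Fin 2, mat (emb hF 1 (by omega : 1 + 2 ≤ 3) x)
      (sh 1 (by omega : 1 + 2 ≤ 3) i) (sh 1 (by omega : 1 + 2 ≤ 3) j) = mat x i j :=
    fun i j => extM_apply hi _ i j
  have hn : ∀ i : Fin 2, (0 : Fin 3) ≠ sh 1 (by omega : 1 + 2 ≤ 3) i := by
    intro i hi
    have := congrArg Fin.val hi
    rw [sh_val] at this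
    simp at this
    omega
  have hr : ∀ a : Fin 3, mat (emb hF 1 (by omega : 1 + 2 ≤ 3) x) a 0 =
      (1 : Matrix (Fin 3) (Fin 3) F) a 0 := fun a => extM_apply_right hi hn _ a
  have hl : ∀ a : Fin 3, mat (emb hF 1 (by omega : 1 + 2 ≤ 3) x) 0 a =
      (1 : Matrix (Fin 3) (Fin 3) F) 0 a := fun a => extM_apply_left hn _ a
  ext a b
  fin_cases a <;> fin_cases b
  · exact (hr 0).trans (by simp)
  · exact (hl 1).trans (by simp)
  · exact (hl 2).trans (by simp)
  · exact (hr 1).trans (by simp)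
  · exact h0 0 0
  · exact h0 0 1
  · exact (hr 2).trans (by simp)
  · exact h0 1 0
  · exact h0 1 1

/-- conjugation by `diag(d, 1)` on `SU 2` -/
theorem conj_zero (hF : Fintype.card F = q ^ 2) (c : F) (hc : c * c ^ q = 1) (x : SU 2 F q)
    (hd : ∀ i : Fin 2, (![c ^ q, 1] : Fin 2 → F) i * (![c ^ q, 1] : Fin 2 → F) i ^ q = 1) :
    emb hF 0 (by omega : 0 + 2 ≤ 3) (tor hF c hc) * emb hF 1 (by omega : 1 + 2 ≤ 3) x =
      emb hF 1 (by omega : 1 + 2 ≤ 3) (fr hF (RingEquiv.refl F) ![c ^ q, 1] hd x) *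
        emb hF 0 (by omega : 0 + 2 ≤ 3) (tor hF c hc) := by
  have hcq : c ^ q ≠ 0 := by
    intro h
    rw [h, mul_zero] at hc
    exact zero_ne_one hc
  apply mat_inj
  rw [mat_mul, mat_mul, mat_emb_zero_three, mat_emb_one_three, mat_emb_one_three, mat_tor, mat_fr]
  ext a b
  fin_cases a <;> fin_cases b <;>
    simp [Matrix.mul_apply, Fin.sum_univ_three, frM_apply, hcq]

theorem conj_one (hF : Fintype.card F = q ^ 2) (c : F) (hc : c * c ^ q = 1) (x : SU 2 F q)
    (hd : ∀ i : Fin 2, (![1, c] : Fin 2 → F) i * (![1, c] : Fin 2 → F) i ^ q = 1) :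
    emb hF 1 (by omega : 1 + 2 ≤ 3) (tor hF c hc) * emb hF 0 (by omega : 0 + 2 ≤ 3) x =
      emb hF 0 (by omega : 0 + 2 ≤ 3) (fr hF (RingEquiv.refl F) ![1, c] hd x) *
        emb hF 1 (by omega : 1 + 2 ≤ 3) (tor hF c hc) := by
  have hc0 : c ≠ 0 := by
    intro h
    rw [h, zero_mul] at hc
    exact zero_ne_one hc
  apply mat_inj
  rw [mat_mul, mat_mul, mat_emb_zero_three, mat_emb_one_three, mat_emb_zero_three, mat_tor, mat_fr]
  ext a b
  fin_cases a <;> fin_cases b <;>
    simp [Matrix.mul_apply, Fin.sum_univ_three, frM_apply, hc0]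

/-- `x` diagonal iff fixed by a frame automorphism -/
theorem isDiag_of_fr_eq (hF : Fintype.card F = q ^ 2) {a b : F} (hab : a ≠ b)
    (hd : ∀ i : Fin 2, (![a, b] : Fin 2 → F) i * (![a, b] : Fin 2 → F) i ^ q = 1) {x : SU 2 F q}
    (h : fr hF (RingEquiv.refl F) ![a, b] hd x = x) : IsDiag x := by
  have ha : a ≠ 0 := ne_zero_of_norm (hd 0)
  have hb : b ≠ 0 := ne_zero_of_norm (hd 1)
  have h1 := congrArg mat h
  rw [mat_fr] at h1
  constructor
  · have h2 := congrFun (congrFun h1 0) 1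
    rw [frM_apply] at h2
    simp only [Matrix.cons_val_zero, Matrix.cons_val_one, RingEquiv.refl_apply] at h2
    have h3 : (a - b) * mat x 0 1 = 0 := by
      have : a * mat x 0 1 * b⁻¹ * b = mat x 0 1 * b := by rw [h2]
      rw [mul_assoc (a * mat x 0 1), inv_mul_cancel₀ hb, mul_one] at this
      linear_combination this
    exact (mul_eq_zero.1 h3).resolve_left (sub_ne_zero.2 hab)
  · have h2 := congrFun (congrFun h1 1) 0
    rw [frM_apply] at h2
    simp only [Matrix.cons_val_zero, Matrix.cons_val_one, RingEquiv.refl_apply] at h2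
    have h3 : (b - a) * mat x 1 0 = 0 := by
      have : b * mat x 1 0 * a⁻¹ * a = mat x 1 0 * a := by rw [h2]
      rw [mul_assoc (b * mat x 1 0), inv_mul_cancel₀ ha, mul_one] at this
      linear_combination this
    exact (mul_eq_zero.1 h3).resolve_left (sub_ne_zero.2 (Ne.symm hab))

theorem fr_eq_of_isDiag (hF : Fintype.card F = q ^ 2) {a b : F}
    (hd : ∀ i : Fin 2, (![a, b] : Fin 2 → F) i * (![a, b] : Fin 2 → F) i ^ q = 1) {x : SU 2 F q}
    (h : IsDiag x) : fr hF (RingEquiv.refl F) ![a, b] hd x = x := by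
  have ha : a ≠ 0 := ne_zero_of_norm (hd 0)
  have hb : b ≠ 0 := ne_zero_of_norm (hd 1)
  apply mat_inj
  rw [mat_fr]
  ext i j
  rw [frM_apply]
  fin_cases i <;> fin_cases j
  · simp only [Fin.zero_eta, Matrix.cons_val_zero, RingEquiv.refl_apply]
    field_simp
  · change a * (RingEquiv.refl F) (mat x 0 1) * b⁻¹ = mat x 0 1
    rw [h.1, map_zero, mul_zero, zero_mul]
  · change b * (RingEquiv.refl F) (mat x 1 0) * a⁻¹ = mat x 1 0
    rw [h.2, map_zero, mul_zero, zero_mul]
  · change b * (RingEquiv.refl F) (mat x 1 1) * b⁻¹ = mat x 1 1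
    rw [RingEquiv.refl_apply]
    field_simp

/-! ### the two tori agree -/

omit [Fintype F] in
theorem torus_alg {T D : Matrix (Fin 2) (Fin 2) F} {l m x y c c' : F} (hD : D.det ≠ 0)
    (hcc : c * c' = 1) (hc2 : c * c ≠ 1) (hlm : l ≠ m)
    (h00 : T 0 0 * D 0 0 + T 0 1 * D 1 0 = D 0 0 * l)
    (h10 : T 1 0 * D 0 0 + T 1 1 * D 1 0 = D 1 0 * l)
    (h01 : T 0 0 * D 0 1 + T 0 1 * D 1 1 = D 0 1 * m)
    (h11 : T 1 0 * D 0 1 + T 1 1 * D 1 1 = D 1 1 * m)
    (g00 : T 0 0 * D 0 0 + c' * T 0 1 * D 1 0 = D 0 0 * x)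
    (g10 : c * T 1 0 * D 0 0 + T 1 1 * D 1 0 = D 1 0 * x)
    (g01 : T 0 0 * D 0 1 + c' * T 0 1 * D 1 1 = D 0 1 * y)
    (g11 : c * T 1 0 * D 0 1 + T 1 1 * D 1 1 = D 1 1 * y) :
    D 0 0 * D 1 0 = 0 := by
  rw [Matrix.det_fin_two] at hD
  set a := D 0 0
  set b := D 1 0
  set a' := D 0 1
  set b' := D 1 1
  set p := T 0 0
  set r := T 0 1
  set s := T 1 0
  set u := T 1 1
  -- trace and determinant
  have htr : p + u = l + m := by
    have : (p + u) * (a * b' - a' * b) = (l + m) * (a * b' - a' * b) := by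
      linear_combination b' * h00 - a' * h10 - b * h01 + a * h11
    exact mul_right_cancel₀ hD this
  have htr' : p + u = x + y := by
    have : (p + u) * (a * b' - a' * b) = (x + y) * (a * b' - a' * b) := by
      linear_combination b' * g00 - a' * g10 - b * g01 + a * g11
    exact mul_right_cancel₀ hD this
  have hdet : p * u - r * s = l * m := by
    have : (p * u - r * s) * (a * b' - a' * b) = (l * m) * (a * b' - a' * b) := by
      linear_combination (s * a' + u * b') * h00 - (p * a' + r * b') * h10 + b * l * (-h01) +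
        a * l * h11
    exact mul_right_cancel₀ hD this
  have hdet' : p * u - r * s = x * y := by
    have : (p * u - (c * c') * r * s) * (a * b' - a' * b) = (x * y) * (a * b' - a' * b) := by
      linear_combination (c * s * a' + u * b') * g00 - (p * a' + c' * r * b') * g10 +
        b * x * (-g01) + a * x * g11
    rw [hcc, one_mul] at this
    exact mul_right_cancel₀ hD this
  have hxy : (x - l) * (x - m) = 0 := by
    linear_combination x * (htr - htr') - (hdet - hdet')
  have hc1 : c ≠ 1 := by rintro rfl; exact hc2 (one_mul 1)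
  have hc'1 : c' ≠ 1 := by
    rintro rfl
    rw [mul_one] at hcc
    exact hc1 hcc
  by_contra hab
  have ha : a ≠ 0 := fun h => hab (by rw [h, zero_mul])
  have hb : b ≠ 0 := fun h => hab (by rw [h, mul_zero])
  have e1 : (c' - 1) * r * b = (x - l) * a := by linear_combination g00 - h00
  have e2 : (c - 1) * s * a = (x - l) * b := by linear_combination g10 - h10
  rcases mul_eq_zero.1 hxy with h | h
  · rw [h, zero_mul] at e1 e2
    have hr : r = 0 := by
      rcases mul_eq_zero.1 e1 with h1 | h1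
      · exact (mul_eq_zero.1 h1).resolve_left (sub_ne_zero.2 hc'1)
      · exact absurd h1 hb
    have hs : s = 0 := by
      rcases mul_eq_zero.1 e2 with h1 | h1
      · exact (mul_eq_zero.1 h1).resolve_left (sub_ne_zero.2 hc1)
      · exact absurd h1 ha
    rw [hr, zero_mul, add_zero] at h00
    rw [hs, zero_mul, zero_add] at h10
    have hp : p = l := mul_right_cancel₀ ha (by rw [h00, mul_comm])
    have hu : u = l := mul_right_cancel₀ hb (by rw [h10, mul_comm])
    apply hlm
    linear_combination htr - hp - hu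
  · -- `x = m`, `y = l`
    have hx : x = m := sub_eq_zero.1 h
    have hy : y = l := by linear_combination htr - htr' - hx
    rw [hx] at e1 e2
    have e3 : (c' - 1) * r * b' = (l - m) * a' := by rw [hy] at g01; linear_combination g01 - h01
    have e4 : (c - 1) * s * a' = (l - m) * b' := by rw [hy] at g11; linear_combination g11 - h11
    have hlm' : m - l ≠ 0 := sub_ne_zero.2 (Ne.symm hlm)
    -- `a b' + a' b = 0`
    have e5 : a * b' + a' * b = 0 := by
      have : (m - l) * (a * b' + a' * b) = 0 := by linear_combination b * e3 - b' * e1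
      exact (mul_eq_zero.1 this).resolve_left hlm'
    have hb' : b' ≠ 0 := by
      intro h0
      rw [h0, mul_zero, zero_add] at e5
      have ha' := (mul_eq_zero.1 e5).resolve_right hb
      apply hD
      rw [h0, ha']
      ring
    have e6 : 2 * r * b = (l - m) * a := by
      have h7 : a' = -(a * b') / b := by
        field_simp
        linear_combination e5
      have : b' * (2 * r * b) = b' * ((l - m) * a) := by
        rw [h7] at h01
        field_simp at h01
        linear_combination b' * h00 + b' * h01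
      exact mul_left_cancel₀ hb' this
    have e7 : (c' + 1) * (r * b) = 0 := by linear_combination e1 + e6
    rcases mul_eq_zero.1 e7 with h7 | h7
    · apply hc2
      have hc' : c' = -1 := by linear_combination h7
      rw [hc'] at hcc
      have : c = -1 := by linear_combination -hcc
      rw [this]
      ring
    · have : (m - l) * a = 0 := by
        have h8 : (c' - 1) * (r * b) = (m - l) * a := by linear_combination e1
        rw [← h8, h7, mul_zero]
      rcases mul_eq_zero.1 this with h8 | h8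
      · exact hlm' h8
      · exact ha h8

omit [Fintype F] in
theorem diag_of_monomial {D E Y N : Matrix (Fin 2) (Fin 2) F} (hDE : D * E = 1)
    (h0 : D 0 0 * D 1 0 = 0) (h1 : D 0 1 * D 1 1 = 0) (hN : Y = D * N * E)
    (hY : Y 0 1 = 0 ∧ Y 1 0 = 0) : N 0 1 = 0 ∧ N 1 0 = 0 := by
  have hED : E * D = 1 := mul_eq_one_comm.1 hDE
  have hdet : D 0 0 * D 1 1 - D 0 1 * D 1 0 ≠ 0 := by
    rw [← Matrix.det_fin_two]
    intro h
    have := congrArg Matrix.det hDE
    rw [Matrix.det_mul, h, zero_mul, Matrix.det_one] at this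
    exact zero_ne_one this
  have hYD : Y * D = D * N := by rw [hN, Matrix.mul_assoc, hED, Matrix.mul_one]
  have e00 := congrFun (congrFun hYD 0) 0
  have e01 := congrFun (congrFun hYD 0) 1
  have e10 := congrFun (congrFun hYD 1) 0
  have e11 := congrFun (congrFun hYD 1) 1
  simp only [Matrix.mul_apply, Fin.sum_univ_two, hY.1, hY.2, zero_mul, add_zero, zero_add]
    at e00 e01 e10 e11
  rcases mul_eq_zero.1 h0 with h | h
  · have h10 : D 1 0 ≠ 0 := by
      intro h'
      apply hdet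
      rw [h, h']
      ring
    have h01 : D 0 1 ≠ 0 := by
      intro h'
      apply hdet
      rw [h, h']
      ring
    have h11 : D 1 1 = 0 := (mul_eq_zero.1 h1).resolve_left h01
    rw [h, mul_zero, zero_mul, zero_add] at e00
    rw [h11, mul_zero, zero_mul, add_zero] at e11
    exact ⟨(mul_eq_zero.1 e11.symm).resolve_left h10, (mul_eq_zero.1 e00.symm).resolve_left h01⟩
  · have h00 : D 0 0 ≠ 0 := by
      intro h'
      apply hdet
      rw [h, h']
      ring
    have h11 : D 1 1 ≠ 0 := by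
      intro h'
      apply hdet
      rw [h, h']
      ring
    have h01 : D 0 1 = 0 := (mul_eq_zero.1 h1).resolve_right h11
    rw [h, mul_zero, zero_mul, zero_add] at e10
    rw [h01, mul_zero, zero_mul, add_zero] at e01
    exact ⟨(mul_eq_zero.1 e01.symm).resolve_left h00, (mul_eq_zero.1 e10.symm).resolve_left h11⟩

/-- **The two tori agree.** -/
theorem torus_compat (hF : Fintype.card F = q ^ 2) {H : Type*} [Group H] {ψ₁ ψ₂ : SU 3 F q →* H}
    (hk₁ : ψ₁.ker ≤ Subgroup.center (SU 3 F q)) (hk₂ : ψ₂.ker ≤ Subgroup.center (SU 3 F q))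
    (hr : (ψ₁.comp (emb hF 1 (by omega : 1 + 2 ≤ 3))).range =
      (ψ₂.comp (emb hF 0 (by omega : 0 + 2 ≤ 3))).range)
    (hc : ∀ x y : SU 2 F q, Commute (ψ₁ (emb hF 0 (by omega : 0 + 2 ≤ 3) x))
      (ψ₂ (emb hF 1 (by omega : 1 + 2 ≤ 3) y))) (y : SU 2 F q) (hy : IsDiag y) :
    ∃ z : SU 2 F q, IsDiag z ∧ ψ₁ (emb hF 1 (by omega : 1 + 2 ≤ 3) y) =
      ψ₂ (emb hF 0 (by omega : 0 + 2 ≤ 3) z) := by
  classical
  set ρ₁ : SU 2 F q →* H := ψ₁.comp (emb hF 1 (by omega : 1 + 2 ≤ 3)) with hρ₁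
  set ρ₂ : SU 2 F q →* H := ψ₂.comp (emb hF 0 (by omega : 0 + 2 ≤ 3)) with hρ₂
  have i1 : Function.Injective ρ₁ := inj_of_ker hF hk₁ _
  have i2 : Function.Injective ρ₂ := inj_of_ker hF hk₂ _
  set δ : SU 2 F q ≃* SU 2 F q := (MonoidHom.ofInjective i2).trans
    ((MulEquiv.subgroupCongr hr.symm).trans (MonoidHom.ofInjective i1).symm) with hδ
  have hδρ : ∀ x, ρ₁ (δ x) = ρ₂ x := by
    intro x
    have h3 : ∀ y : ρ₁.range, ρ₁ ((MonoidHom.ofInjective i1).symm y) = y := by
      intro y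
      have := (MonoidHom.ofInjective i1).apply_symm_apply y
      exact congrArg Subtype.val this
    change ρ₁ ((MonoidHom.ofInjective i1).symm
      ((MulEquiv.subgroupCongr hr.symm) (MonoidHom.ofInjective i2 x))) = ρ₂ x
    rw [h3]
    rfl
  obtain ⟨c, hcc, hc2⟩ := exists_torus_param hF
  have hcq1 : c ≠ c ^ q := by
    intro h
    rw [← h] at hcc
    exact hc2 hcc
  have hc1 : c ≠ 1 := by rintro rfl; exact hc2 (one_mul 1)
  have hcq : c ^ q ≠ 1 := by
    intro h
    rw [h, mul_one] at hcc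
    exact hc1 hcc
  have hdA : ∀ i : Fin 2, (![c ^ q, 1] : Fin 2 → F) i * (![c ^ q, 1] : Fin 2 → F) i ^ q = 1 := by
    intro i
    fin_cases i
    · simp only [Fin.zero_eta, Matrix.cons_val_zero]
      rw [pow_q_pow_q hF, mul_comm, hcc]
    · simp
  have hdB : ∀ i : Fin 2, (![1, c] : Fin 2 → F) i * (![1, c] : Fin 2 → F) i ^ q = 1 := by
    intro i
    fin_cases i
    · simp
    · exact hcc
  set t := tor hF c hcc with ht
  have htd : IsDiag t := by
    rw [Phan.IsDiag, ht, mat_tor]
    exact ⟨rfl, rfl⟩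
  set t' := δ t with ht'
  set s := ψ₁ (emb hF 0 (by omega : 0 + 2 ≤ 3) t) with hs
  set s' := ψ₂ (emb hF 1 (by omega : 1 + 2 ≤ 3) t) with hs'
  have hss : Commute s s' := hc t t
  have hα : ∀ x, s * ρ₁ x = ρ₁ (fr hF (RingEquiv.refl F) ![c ^ q, 1] hdA x) * s := by
    intro x
    have := congrArg ψ₁ (conj_zero hF c hcc x hdA)
    rw [map_mul, map_mul] at this
    exact this
  have hβ : ∀ x, s' * ρ₂ x = ρ₂ (fr hF (RingEquiv.refl F) ![1, c] hdB x) * s' := by
    intro x
    have := congrArg ψ₂ (conj_one hF c hcc x hdB)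
    rw [map_mul, map_mul] at this
    exact this
  -- `s'` commutes with `ρ₁ t'`
  have h1 : Commute s' (ρ₁ t') := by
    rw [ht', hδρ]
    change s' * ρ₂ t = ρ₂ t * s'
    rw [hβ, fr_eq_of_isDiag hF hdB htd]
  set t'' := fr hF (RingEquiv.refl F) ![c ^ q, 1] hdA t' with ht''
  have h2 : Commute s' (ρ₁ t'') := by
    have h3 : ρ₁ t'' = s * ρ₁ t' * s⁻¹ := by rw [hα, mul_inv_cancel_right]
    rw [h3]
    exact (hss.symm.mul_right h1).mul_right hss.symm.inv_right
  obtain ⟨x, hx⟩ : ∃ x, δ x = t'' := δ.surjective t''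
  have hxd : IsDiag x := by
    apply isDiag_of_fr_eq hF (Ne.symm hc1) hdB
    apply i2
    have h3 : s' * ρ₂ x = ρ₂ x * s' := by
      rw [← hδρ, hx]
      exact h2
    rw [hβ] at h3
    exact mul_right_cancel h3
  -- matrices
  obtain ⟨D, E, τ, hDE, hED, hδm⟩ := aut_su2 hF δ
  have hT : mat t' * D = D * (mat t).map τ := by
    rw [ht', hδm, Matrix.mul_assoc, hED, Matrix.mul_one]
  have hT' : mat t'' * D = D * (mat x).map τ := by
    rw [← hx, hδm, Matrix.mul_assoc, hED, Matrix.mul_one]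
  have hDdet : D.det ≠ 0 := by
    intro h
    have := congrArg Matrix.det hDE
    rw [Matrix.det_mul, h, zero_mul, Matrix.det_one] at this
    exact zero_ne_one this
  have hlm : τ c ≠ τ (c ^ q) := fun h => hcq1 (τ.injective h)
  have m00 : mat t 0 0 = c := by rw [ht, mat_tor]; rfl
  have m11 : mat t 1 1 = c ^ q := by rw [ht, mat_tor]; rfl
  have w00 : mat t'' 0 0 = mat t' 0 0 := by
    rw [ht'', mat_fr, frM_apply]
    change c ^ q * mat t' 0 0 * (c ^ q)⁻¹ = _
    have : c ^ q ≠ 0 := ne_zero_of_norm (hdA 0)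
    field_simp
  have w11 : mat t'' 1 1 = mat t' 1 1 := by
    rw [ht'', mat_fr, frM_apply]
    change 1 * mat t' 1 1 * (1)⁻¹ = _
    rw [one_mul, inv_one, mul_one]
  have w01 : mat t'' 0 1 = c ^ q * mat t' 0 1 := by
    rw [ht'', mat_fr, frM_apply]
    change c ^ q * mat t' 0 1 * (1)⁻¹ = _
    rw [inv_one, mul_one]
  have w10 : mat t'' 1 0 = c * mat t' 1 0 := by
    rw [ht'', mat_fr, frM_apply]
    change 1 * mat t' 1 0 * (c ^ q)⁻¹ = _
    have : (c ^ q)⁻¹ = c := inv_eq_of_mul_eq_one_left hcc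
    rw [this, one_mul, mul_comm]
  have e00 := congrFun (congrFun hT 0) 0
  have e01 := congrFun (congrFun hT 0) 1
  have e10 := congrFun (congrFun hT 1) 0
  have e11 := congrFun (congrFun hT 1) 1
  have f00 := congrFun (congrFun hT' 0) 0
  have f01 := congrFun (congrFun hT' 0) 1
  have f10 := congrFun (congrFun hT' 1) 0
  have f11 := congrFun (congrFun hT' 1) 1
  simp only [Matrix.mul_apply, Fin.sum_univ_two, Matrix.map_apply, htd.1, htd.2, hxd.1, hxd.2,
    map_zero, mul_zero, add_zero, zero_add, m00, m11, w00, w11, w01, w10]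
    at e00 e01 e10 e11 f00 f01 f10 f11
  have k0 : D 0 0 * D 1 0 = 0 :=
    torus_alg hDdet hcc hc2 hlm e00 e10 e01 e11 f00 f10 f01 f11
  have k1 : D 0 1 * D 1 1 = 0 := by
    have hDdet' : (!![D 0 1, D 0 0; D 1 1, D 1 0] : Matrix (Fin 2) (Fin 2) F).det ≠ 0 := by
      rw [Matrix.det_fin_two_of]
      rw [Matrix.det_fin_two] at hDdet
      intro h
      apply hDdet
      linear_combination -h
    exact torus_alg (T := mat t') (D := !![D 0 1, D 0 0; D 1 1, D 1 0]) (x := τ (mat x 1 1))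
      (y := τ (mat x 0 0)) hDdet' hcc hc2 (Ne.symm hlm) e01 e11 e00 e10 f01 f11 f00 f10
  refine ⟨δ.symm y, ?_, ?_⟩
  · have h4 : mat y = D * (mat (δ.symm y)).map τ * E := by
      rw [← hδm, MulEquiv.apply_symm_apply]
    have h5 := diag_of_monomial hDE k0 k1 h4 hy
    rw [Matrix.map_apply, Matrix.map_apply] at h5
    exact ⟨(map_eq_zero_iff τ τ.injective).1 h5.1, (map_eq_zero_iff τ τ.injective).1 h5.2⟩
  · change ρ₁ y = ρ₂ (δ.symm y)
    rw [← hδρ, MulEquiv.apply_symm_apply]

/-- **Weak Phan systems give systems of homomorphisms.** -/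
theorem exists_weak_system (hF : Fintype.card F = q ^ 2) {G : Type*} [Group G] (n : ℕ)
    (U : Fin n → Subgroup G) (V : Fin n → Fin n → Subgroup G)
    (h1 : ∀ i j : Fin n, (i : ℕ) + 2 ≤ j → ∀ x ∈ U i, ∀ y ∈ U j, x * y = y * x)
    (h2 : ∀ i j : Fin n, (i : ℕ) + 1 = j → IsStandardUnitaryPair (V i j) (U i) (U j) F q) :
    ∃ (φ : ℕ → (SU 2 F q →* G)) (g : ℕ → (SU 3 F q →* G)), System hF (n + 1) φ g ∧
      ∀ k (hk : k + 1 < n), (g k).range = V ⟨k, by omega⟩ ⟨k + 1, hk⟩ ∧
        (g k).ker ≤ Subgroup.center (SU 3 F q) ∧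
        ((g k).comp (emb hF 0 (by omega : 0 + 2 ≤ 3))).range = U ⟨k, by omega⟩ ∧
        ((g k).comp (emb hF 1 (by omega : 1 + 2 ≤ 3))).range = U ⟨k + 1, hk⟩ := by
  classical
  have hex : ∀ k : ℕ, ∃ ψ : SU 3 F q →* G, ∀ hk : k + 1 < n,
      ψ.range = V ⟨k, by omega⟩ ⟨k + 1, hk⟩ ∧ ψ.ker ≤ Subgroup.center (SU 3 F q) ∧
      (ψ.comp (emb hF 0 (by omega : 0 + 2 ≤ 3))).range = U ⟨k, by omega⟩ ∧
      (ψ.comp (emb hF 1 (by omega : 1 + 2 ≤ 3))).range = U ⟨k + 1, hk⟩ := by
    intro k
    by_cases hk : k + 1 < n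
    · obtain ⟨ψ, a1, a2, a3, a4⟩ := exists_of_standard hF (h2 ⟨k, by omega⟩ ⟨k + 1, hk⟩ rfl)
      exact ⟨ψ, fun _ => ⟨a1, a2, a3, a4⟩⟩
    · exact ⟨1, fun h => absurd h hk⟩
  choose ψ hψ using hex
  have hmem : ∀ i a (hi : i + 3 ≤ n + 1) (ha : a + 2 ≤ 3) (x : SU 2 F q),
      ψ i (emb hF a ha x) ∈ U ⟨i + a, by omega⟩ := by
    intro i a hi ha x
    have h3 := hψ i (by omega)
    have ha' : a = 0 ∨ a = 1 := by omega
    rcases ha' with rfl | rfl
    · have : (⟨i + 0, by omega⟩ : Fin n) = ⟨i, by omega⟩ := rfl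
      rw [this, ← h3.2.2.1]
      exact ⟨x, rfl⟩
    · rw [← h3.2.2.2]
      exact ⟨x, rfl⟩
  have hcomm : ∀ i j a b, i + 3 ≤ n + 1 → j + 3 ≤ n + 1 → ∀ (ha : a + 2 ≤ 3) (hb : b + 2 ≤ 3),
      i + a + 2 ≤ j + b → ∀ x y : SU 2 F q,
      Commute (ψ i (emb hF a ha x)) (ψ j (emb hF b hb y)) := by
    intro i j a b hi hj ha hb hij x y
    exact h1 _ _ hij _ (hmem i a hi ha x) _ (hmem j b hj hb y)
  have hrange : ∀ k, k + 4 ≤ n + 1 → ((ψ k).comp (emb hF 1 (by omega : 1 + 2 ≤ 3))).range =
      ((ψ (k + 1)).comp (emb hF 0 (by omega : 0 + 2 ≤ 3))).range := by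
    intro k hk
    rw [(hψ k (by omega)).2.2.2, (hψ (k + 1) (by omega)).2.2.1]
  obtain ⟨φ, g, hs, hg⟩ := exists_system hF (n := n + 1) ψ
    (fun k hk => inj_of_ker hF (hψ k (by omega)).2.1 _)
    (fun k hk => inj_of_ker hF (hψ k (by omega)).2.1 _)
    hrange
    (fun k hk y hy => torus_compat hF (hψ k (by omega)).2.1 (hψ (k + 1) (by omega)).2.1
      (hrange k hk) (fun x y => hcomm k (k + 1) 0 1 (by omega) (by omega) _ _ (by omega) x y)
      y hy) hcomm
  refine ⟨φ, g, hs, ?_⟩
  intro k hk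
  obtain ⟨τ, d, hd, e⟩ := hg k
  obtain ⟨b1, b2, b3, b4⟩ := hψ k hk
  have hsurj := fr_surjective hF τ d hd
  have hblock : ∀ a (ha : a + 2 ≤ 3), ((g k).comp (emb hF a ha)).range =
      ((ψ k).comp (emb hF a ha)).range := by
    intro a ha
    ext y
    constructor
    · rintro ⟨x, rfl⟩
      refine ⟨fr hF τ (d ∘ sh a ha) (fun i => hd _) x, ?_⟩
      change ψ k (emb hF a ha _) = g k (emb hF a ha x)
      rw [e, ← fr_emb]
      rfl
    · rintro ⟨x, rfl⟩
      obtain ⟨x', rfl⟩ := fr_surjective hF τ (d ∘ sh a ha) (fun i => hd _) x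
      refine ⟨x', ?_⟩
      change g k (emb hF a ha x') = ψ k (emb hF a ha _)
      rw [e, ← fr_emb]
      rfl
  refine ⟨?_, ?_, ?_, ?_⟩
  · rw [e, MonoidHom.range_comp, MonoidHom.range_eq_top.2 hsurj, ← MonoidHom.range_eq_map, b1]
  · intro x hx
    have h3 : fr hF τ d hd x ∈ Subgroup.center (SU 3 F q) := by
      apply b2
      rw [MonoidHom.mem_ker] at hx ⊢
      rw [e] at hx
      exact hx
    rw [Subgroup.mem_center_iff] at h3 ⊢
    intro y
    apply fr_injective hF τ d hd
    rw [map_mul, map_mul]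
    exact h3 _
  · rw [hblock, b3]
  · rw [hblock, b4]

end Cfsg.Agent.H434
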