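import Cfsg.Agent.H434.Cover2
import Cfsg.Agent.H434.OrthGeo
import Cfsg.Agent.H434.Weak

/-!
# The inductive step of Phan's theorem through the orthogonality graph

`exists_extension_orth` : dimension at least seven, or at least six and `q ≥ 3`.
`closure_eq_top_orth` : `SU (n+4)` is generated by the stabiliser of the first basis vector and the first `SU 2`, every `q ≥ 2`.
-/

set_option autoImplicit false

namespace Cfsg.Agent.H434

open Matrix Cfsg Cfsg.Agent.Phan Cfsg.Agent.Phan.Cover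
open Cfsg.Agent.LieClassical.HermBasic

variable {F : Type*} [Field F] {q : ℕ} [Fintype F]

/-- the data with the orthogonality graph -/
def octx (hF : Fintype.card F = q ^ 2) (n : ℕ) {H : Type*} [Group H] (α : SU (n + 2) F q →* H)
    (φ : SU 2 F q →* H) : Ctx (SU (n + 3) F q) H (Pt (n + 3) F q) (SU (n + 2) F q) (SU 2 F q) where
  p := e0 (n + 2) F q
  adj := orth
  ι := emb hF 1 (by omega)
  α := α
  κ := emb hF 0 (by omega)
  φ := φ

theorem octx_hyp (hF : Fintype.card F = q ^ 2) (n : ℕ) {H : Type*} [Group H]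
    (α : SU (n + 2) F q →* H) (φ : SU 2 F q →* H)
    (huniq : ∀ (k : SU (n + 2) F q) (a b : SU 2 F q),
      adj (e0 (n + 2) F q) (emb hF 0 (by omega : 0 + 2 ≤ n + 3) a • e0 (n + 2) F q) →
      emb hF 1 (by omega : 1 + (n + 2) ≤ n + 3) k •
        emb hF 0 (by omega : 0 + 2 ≤ n + 3) a • e0 (n + 2) F q =
        emb hF 0 (by omega : 0 + 2 ≤ n + 3) b • e0 (n + 2) F q →
      ∃ l, emb hF 1 (by omega : 1 + (n + 2) ≤ n + 3) k * emb hF 0 (by omega : 0 + 2 ≤ n + 3) a =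
        emb hF 0 (by omega : 0 + 2 ≤ n + 3) b * emb hF 1 (by omega : 1 + (n + 2) ≤ n + 3) l ∧
        α k * φ a = φ b * α l) : (octx hF n α φ).Hyp where
  inj := emb_injective hF _ _
  stab m hm := exists_emb_of_fix hF m hm
  fix k := emb_one_e0 hF k
  symm h := orth_symm hF h
  inv m _ _ h := orth_smul m h
  nbr w hw := exists_of_adj hF w (adj_of_orth hw)
  uniq k a b ha e := huniq k a b (adj_of_orth ha) e

/-- the hypothesis for the trivial target -/
theorem octx_trivial (hF : Fintype.card F = q ^ 2) (n : ℕ) :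
    (octx hF n (1 : SU (n + 2) F q →* PUnit.{1}) 1).Hyp := by
  refine octx_hyp hF n 1 1 ?_
  intro k a b _ e
  have h1 : ((emb hF 0 (by omega : 0 + 2 ≤ n + 3) b)⁻¹ *
      (emb hF 1 (by omega : 1 + (n + 2) ≤ n + 3) k *
      emb hF 0 (by omega : 0 + 2 ≤ n + 3) a)) • e0 (n + 2) F q = e0 (n + 2) F q := by
    rw [mul_smul, mul_smul, e, inv_smul_smul]
  obtain ⟨l, hl⟩ := exists_emb_of_fix hF _ h1
  exact ⟨l, by rw [hl, mul_inv_cancel_left], Subsingleton.elim _ _⟩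

/-- `SU (n+4)` is generated by the stabiliser and the line group, every `q`. -/
theorem closure_eq_top_orth (hF : Fintype.card F = q ^ 2) (n : ℕ) :
    Subgroup.closure (Set.range (emb hF 1 (by omega) : SU (n + 3) F q →* SU (n + 4) F q) ∪
      Set.range (emb hF 0 (by omega) : SU 2 F q →* SU (n + 4) F q)) = ⊤ := by
  have h2 := Cover2.closure_eq_top (octx_trivial hF (n + 1)) (fun w => exists_nbr hF _ w)
  rw [eq_top_iff, ← h2]
  refine Subgroup.closure_mono (Set.union_subset_union ?_ ?_)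
  · rintro _ ⟨k, rfl⟩
    exact ⟨k, rfl⟩
  · rintro _ ⟨a, -, rfl⟩
    exact ⟨a, rfl⟩

/-- Two homomorphisms of `SU (n+4)` agreeing on the stabiliser and the line group are equal. -/
theorem hom_ext_orth (hF : Fintype.card F = q ^ 2) (n : ℕ) {H : Type*} [Group H]
    {f g : SU (n + 4) F q →* H}
    (h1 : ∀ x : SU (n + 3) F q, f (emb hF 1 (by omega) x) = g (emb hF 1 (by omega) x))
    (h2 : ∀ x : SU 2 F q, f (emb hF 0 (by omega) x) = g (emb hF 0 (by omega) x)) : f = g := by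
  refine MonoidHom.eq_of_eqOn_dense (closure_eq_top_orth hF n) ?_
  rintro _ (⟨x, rfl⟩ | ⟨x, rfl⟩)
  · exact h1 x
  · exact h2 x

/-! ### the cyclic permutation -/

/-- the Weyl element `e0 ↦ e1`, `e1 ↦ -e0` -/
def wey (hF : Fintype.card F = q ^ 2) : SU 2 F q :=
  su2 hF 0 1 (by rw [zero_mul, zero_add, one_pow, one_mul])

theorem mat_wey (hF : Fintype.card F = q ^ 2) : mat (wey hF) = !![0, -1; 1, 0] := by
  rw [wey, mat_su2, one_pow, zero_pow_q hF]

/-- the cyclic permutation carries the first block to the second -/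
theorem cyc_conj (hF : Fintype.card F = q ^ 2) (a : SU 2 F q) :
    (emb hF 0 (by omega : 0 + 2 ≤ 3) (wey hF) * emb hF 1 (by omega : 1 + 2 ≤ 3) (wey hF)) *
      emb hF 0 (by omega : 0 + 2 ≤ 3) a =
    emb hF 1 (by omega : 1 + 2 ≤ 3) a *
      (emb hF 0 (by omega : 0 + 2 ≤ 3) (wey hF) * emb hF 1 (by omega : 1 + 2 ≤ 3) (wey hF)) := by
  apply mat_inj
  simp only [mat_mul]
  rw [mat_emb_zero_three, mat_emb_one_three, mat_emb_zero_three, mat_emb_one_three, mat_wey]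
  ext i j
  fin_cases i <;> fin_cases j <;>
    simp [Matrix.mul_apply, Fin.sum_univ_three]

theorem wey_orth (hF : Fintype.card F = q ^ 2) {n : ℕ} :
    orth (e0 (n + 1) F q) (emb hF 0 (by omega : 0 + 2 ≤ n + 2) (wey hF) • e0 (n + 1) F q) := by
  rw [orth, herm_e0_left, emb_zero_e0, Fin.cons_zero, mat_wey]
  change (0 : F) ^ q = 0
  exact zero_pow_q hF

/-- **The inductive step.** -/
theorem exists_extension_orth (hF : Fintype.card F = q ^ 2) (n : ℕ)
    (hn : 7 ≤ n + 4 ∨ (6 ≤ n + 4 ∧ 3 ≤ q)) {H : Type*} [Group H]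
    (α : SU (n + 3) F q →* H) (γ : SU 3 F q →* H)
    (hα : ∀ x : SU 2 F q, γ (emb hF 1 (by omega) x) = α (emb hF 0 (by omega) x))
    (hc : ∀ (c : SU (n + 2) F q) (a : SU 2 F q),
      α (emb hF 1 (by omega) c) * γ (emb hF 0 (by omega) a) =
        γ (emb hF 0 (by omega) a) * α (emb hF 1 (by omega) c)) :
    ∃ Φ : SU (n + 4) F q →* H, (∀ x : SU (n + 3) F q, Φ (emb hF 1 (by omega) x) = α x) ∧
      ∀ x : SU 2 F q, Φ (emb hF 0 (by omega) x) = γ (emb hF 0 (by omega) x) := by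
  set φ : SU 2 F q →* H := γ.comp (emb hF 0 (by omega)) with hφ
  have hφa : ∀ a, φ a = γ (emb hF 0 (by omega) a) := fun a => rfl
  -- relations between the embeddings
  have r1 : ∀ t : SU 2 F q, emb hF 1 (by omega : 1 + (n + 3) ≤ n + 4)
      (emb hF 0 (by omega : 0 + 2 ≤ n + 3) t) =
      emb hF 0 (by omega : 0 + 3 ≤ n + 4) (emb hF 1 (by omega : 1 + 2 ≤ 3) t) := by
    intro t
    rw [emb_emb, emb_emb]
  have r2 : ∀ a : SU 2 F q, emb hF 0 (by omega : 0 + 2 ≤ n + 4) a =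
      emb hF 0 (by omega : 0 + 3 ≤ n + 4) (emb hF 0 (by omega : 0 + 2 ≤ 3) a) := by
    intro a
    rw [emb_emb]
  have r3 : ∀ (c : SU (n + 2) F q) (a : SU 2 F q),
      emb hF 1 (by omega : 1 + (n + 3) ≤ n + 4) (emb hF 1 (by omega : 1 + (n + 2) ≤ n + 3) c) *
        emb hF 0 (by omega : 0 + 2 ≤ n + 4) a =
      emb hF 0 (by omega : 0 + 2 ≤ n + 4) a *
        emb hF 1 (by omega : 1 + (n + 3) ≤ n + 4)
          (emb hF 1 (by omega : 1 + (n + 2) ≤ n + 3) c) := by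
    intro c a
    rw [emb_emb, emb_comm]
    right
    omega
  have hyp : (octx hF (n + 1) α φ).Hyp := by
    refine octx_hyp hF (n + 1) α φ ?_
    intro k a b ha e
    obtain ⟨t, c, hk, e3⟩ := decomp_of_map hF k a b ha e
    have hfix : ((emb hF 0 (by omega : 0 + 2 ≤ 3) b)⁻¹ * (emb hF 1 (by omega : 1 + 2 ≤ 3) t *
        emb hF 0 (by omega : 0 + 2 ≤ 3) a)) • e0 2 F q = e0 2 F q := by
      rw [mul_smul, mul_smul, e3, inv_smul_smul]
    obtain ⟨d, hd⟩ := exists_emb_of_fix hF _ hfix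
    have hd' : emb hF 1 (by omega : 1 + 2 ≤ 3) t * emb hF 0 (by omega : 0 + 2 ≤ 3) a =
        emb hF 0 (by omega : 0 + 2 ≤ 3) b * emb hF 1 (by omega : 1 + 2 ≤ 3) d := by
      rw [hd, mul_inv_cancel_left]
    refine ⟨emb hF 0 (by omega) d * emb hF 1 (by omega) c, ?_, ?_⟩
    · rw [hk, map_mul, map_mul, mul_assoc, r3, ← mul_assoc, ← mul_assoc, r1, r1, r2 a, r2 b,
        ← map_mul, ← map_mul, hd']
    · rw [hk, map_mul, map_mul, hφa, hφa, mul_assoc, hc, ← mul_assoc, ← mul_assoc, ← hα, ← hα,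
        ← map_mul, ← map_mul, hd']
  -- the third subgroup
  have hB : ∀ b : SU 3 F q, orth (e0 (n + 3) F q)
      (emb hF 0 (by omega : 0 + 3 ≤ n + 4) b • e0 (n + 3) F q) →
      (octx hF (n + 1) α φ).E (emb hF 0 (by omega : 0 + 3 ≤ n + 4) b, γ b) := by
    intro b hb
    have hb3 := adj_emb_three hF b (adj_of_orth hb)
    obtain ⟨k, a, hka⟩ := exists_of_adj hF (n := 0) _ hb3
    have hfix : ((emb hF 1 (by omega : 1 + 2 ≤ 3) k * emb hF 0 (by omega : 0 + 2 ≤ 3) a)⁻¹ * b) •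
        e0 2 F q = e0 2 F q := by
      rw [mul_smul, inv_smul_eq_iff, mul_smul]
      exact hka.symm
    obtain ⟨l, hl⟩ := exists_emb_of_fix hF _ hfix
    have hbe : b = emb hF 1 (by omega : 1 + 2 ≤ 3) k * emb hF 0 (by omega : 0 + 2 ≤ 3) a *
        emb hF 1 (by omega : 1 + 2 ≤ 3) l := by
      rw [hl, mul_inv_cancel_left]
    have hpos : emb hF 0 (by omega : 0 + 3 ≤ n + 4) b =
        emb hF 1 (by omega : 1 + (n + 3) ≤ n + 4) (emb hF 0 (by omega : 0 + 2 ≤ n + 3) k) *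
          emb hF 0 (by omega : 0 + 2 ≤ n + 4) a *
          emb hF 1 (by omega : 1 + (n + 3) ≤ n + 4) (emb hF 0 (by omega : 0 + 2 ≤ n + 3) l) := by
      rw [r1, r1, r2, ← map_mul, ← map_mul, ← hbe]
    refine ⟨emb hF 0 (by omega) k, a, emb hF 0 (by omega) l, ?_, ?_⟩
    · -- `a e0` is orthogonal to `e0`
      have h5 : emb hF 0 (by omega : 0 + 3 ≤ n + 4) b • e0 (n + 3) F q =
          emb hF 1 (by omega : 1 + (n + 3) ≤ n + 4) (emb hF 0 (by omega : 0 + 2 ≤ n + 3) k) •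
            emb hF 0 (by omega : 0 + 2 ≤ n + 4) a • e0 (n + 3) F q := by
        rw [hpos, mul_smul, mul_smul, emb_one_e0]
      rw [h5] at hb
      have h6 := orth_smul (emb hF 1 (by omega : 1 + (n + 3) ≤ n + 4)
        (emb hF 0 (by omega : 0 + 2 ≤ n + 3) k))⁻¹ hb
      rw [inv_smul_smul, ← map_inv, emb_one_e0] at h6
      exact h6
    · refine Prod.ext hpos ?_
      change γ b = α (emb hF 0 (by omega) k) * φ a * α (emb hF 0 (by omega) l)
      rw [← hα, ← hα, hφa, ← map_mul, ← map_mul, ← hbe]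
  -- triangles
  have htri : ∀ u v w : Pt (n + 4) F q, orth u v → orth u w → orth v w →
      (octx hF (n + 1) α φ).Tri u v w := by
    intro v x u hvx hvu hxu
    obtain ⟨g, x₁, x₂, x₃, h1, h2, h3⟩ := exists_frame hF v x u hvx (by
      have e1 : hermForm (n + 4) F q v.val u.val = 0 := hvu
      have e2 : hermForm (n + 4) F q x.val u.val = 0 := hxu
      rw [e1, e2, mul_zero, mul_zero, add_zero]
      exact zero_ne_one)
    rw [← h1, ← h2, ← h3]
    apply hyp.tri_smul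
    refine hyp.tri_of_hom (emb hF 0 (by omega : 0 + 3 ≤ n + 4)) γ hB x₁ x₂ x₃ ?_ ?_ ?_
    · have := orth_smul g⁻¹ hvx
      rw [← h1, ← h2, inv_smul_smul, inv_smul_smul] at this
      exact this
    · have := orth_smul g⁻¹ hvu
      rw [← h1, ← h3, inv_smul_smul, inv_smul_smul] at this
      exact this
    · have := orth_smul g⁻¹ hxu
      rw [← h2, ← h3, inv_smul_smul, inv_smul_smul] at this
      exact this
  -- paths
  have hpath : ∀ w u u' : Pt (n + 4) F q, orth (e0 (n + 3) F q) u → orth u w →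
      orth (e0 (n + 3) F q) u' → orth u' w →
      Relation.ReflTransGen (fun a b => orth a b ∧ orth (e0 (n + 3) F q) b ∧ orth b w) u u' := by
    intro w u u' h1 h2 h3 h4
    rcases hn with hn | ⟨hn, hq⟩
    · obtain ⟨m, rfl⟩ : ∃ m, n = m + 3 := ⟨n - 3, by omega⟩
      obtain ⟨v, v1, v2, v3, v4⟩ := exists_nbr_four hF (n := m) (e0 (m + 3 + 3) F q) w u u' h1
      exact (Relation.ReflTransGen.single ⟨v3, v1, v2⟩).tail ⟨v4, h3, h4⟩
    · obtain ⟨m, rfl⟩ : ∃ m, n = m + 2 := ⟨n - 2, by omega⟩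
      obtain ⟨x, x1, x2, x3, x4⟩ := exists_step hF hq (n := m) (e0 (m + 2 + 3) F q) w u u' h1
      obtain ⟨v, v1, v2, v3, v4⟩ := exists_nbr_adj hF (n := m) (e0 (m + 2 + 3) F q) w x u' x1 h3 x4
      exact ((Relation.ReflTransGen.single ⟨x3, x1, x2⟩).tail ⟨v3, v1, v2⟩).tail ⟨v4, h3, h4⟩
  obtain ⟨Φ, hΦ1, hΦ2⟩ := Cover2.exists_hom_of_same hyp htri
    (fun w => exists_nbr hF (n := n) (e0 (n + 3) F q) w)
    (fun w w' h => by
      obtain ⟨m, rfl⟩ : ∃ m, n = m + 1 := ⟨n - 1, by omega⟩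
      exact exists_nbr_edge hF (n := m) (e0 (m + 1 + 3) F q) w w' h)
    (fun w u u' h1 h2 h3 h4 => (Cover2.same_of_path hyp htri h1 h2 (hpath w u u' h1 h2 h3 h4)).1)
  have hΦ1' : ∀ x : SU (n + 3) F q, Φ (emb hF 1 (by omega) x) = α x := hΦ1
  refine ⟨Φ, hΦ1', ?_⟩
  -- the equalizer
  have e1 : ∀ t : SU 2 F q, Φ (emb hF 0 (by omega : 0 + 3 ≤ n + 4)
      (emb hF 1 (by omega : 1 + 2 ≤ 3) t)) = γ (emb hF 1 (by omega : 1 + 2 ≤ 3) t) := by
    intro t
    rw [← r1, hΦ1', hα]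
  have e2 : Φ (emb hF 0 (by omega : 0 + 3 ≤ n + 4) (emb hF 0 (by omega : 0 + 2 ≤ 3) (wey hF))) =
      γ (emb hF 0 (by omega : 0 + 2 ≤ 3) (wey hF)) := by
    rw [← r2]
    exact hΦ2 (wey hF) (wey_orth hF (n := n + 2))
  intro a
  rw [r2]
  set β : SU 3 F q →* H := Φ.comp (emb hF 0 (by omega : 0 + 3 ≤ n + 4)) with hβ
  change β (emb hF 0 (by omega : 0 + 2 ≤ 3) a) = _
  have e1' : ∀ t : SU 2 F q, β (emb hF 1 (by omega : 1 + 2 ≤ 3) t) =
      γ (emb hF 1 (by omega : 1 + 2 ≤ 3) t) := e1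
  have e2' : β (emb hF 0 (by omega : 0 + 2 ≤ 3) (wey hF)) =
      γ (emb hF 0 (by omega : 0 + 2 ≤ 3) (wey hF)) := e2
  have h7 := congrArg β (cyc_conj hF a)
  have h8 := congrArg γ (cyc_conj hF a)
  simp only [map_mul] at h7 h8
  rw [e1', e1', e2', ← h8] at h7
  exact mul_left_cancel h7

end Cfsg.Agent.H434
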