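import Cfsg.Agent.H434.SlimGen

/-!
# Extending a homomorphism to the stabiliser of `ee k`

`StepData` : the data of the inductive step. `exists_beta` : the homomorphism of the stabiliser of `ee k` in `GK k`.
-/

set_option autoImplicit false
open Cfsg
open scoped Matrix
open Cfsg.Agent.ClassicalGeometry.SympBasic Cfsg.Agent.ClassicalGeometry.SympSiegel

namespace Cfsg.Agent.H434.Slim

section IsHomOn

variable {A B : Type*} [Group A] [Group B]

/-- multiplicative on a subgroup -/
def IsHomOn (K : Subgroup A) (φ : A → B) : Prop := ∀ a ∈ K, ∀ b ∈ K, φ (a * b) = φ a * φ b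

variable {K K' : Subgroup A} {φ ψ : A → B}

theorem IsHomOn.one (h : IsHomOn K φ) : φ 1 = 1 := by
  have h1 := h 1 (one_mem _) 1 (one_mem _)
  rw [mul_one] at h1
  exact (mul_eq_left.1 h1.symm)

theorem IsHomOn.inv (h : IsHomOn K φ) {a : A} (ha : a ∈ K) : φ a⁻¹ = (φ a)⁻¹ := by
  have h1 := h a⁻¹ (inv_mem ha) a ha
  rw [inv_mul_cancel, h.one] at h1
  exact eq_inv_of_mul_eq_one_left h1.symm

theorem IsHomOn.mono (h : IsHomOn K φ) (hle : K' ≤ K) : IsHomOn K' φ :=
  fun a ha b hb => h a (hle ha) b (hle hb)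

theorem IsHomOn.congr (h : IsHomOn K φ) (he : ∀ a ∈ K, ψ a = φ a) : IsHomOn K ψ := by
  intro a ha b hb
  rw [he _ (mul_mem ha hb), he a ha, he b hb, h a ha b hb]

theorem IsHomOn.conj (h : IsHomOn K φ) {a b : A} (ha : a ∈ K) (hb : b ∈ K) :
    φ (a * b * a⁻¹) = φ a * φ b * (φ a)⁻¹ := by
  rw [h _ (mul_mem ha hb) _ (inv_mem ha), h a ha b hb, h.inv ha]

/-- the homomorphism -/
def IsHomOn.toHom (h : IsHomOn K φ) : ↥K →* B :=
  MonoidHom.mk' (fun a => φ a) (fun a b => h _ a.2 _ b.2)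

theorem IsHomOn.toHom_apply (h : IsHomOn K φ) (a : ↥K) : h.toHom a = φ a := rfl

open Classical in
/-- the function of a homomorphism -/
noncomputable def extF (φ : ↥K →* B) : A → B := fun a => if h : a ∈ K then φ ⟨a, h⟩ else 1

theorem extF_apply (φ : ↥K →* B) {a : A} (h : a ∈ K) : extF φ a = φ ⟨a, h⟩ := dif_pos h

theorem isHomOn_extF (φ : ↥K →* B) : IsHomOn K (extF φ) := by
  intro a ha b hb
  rw [extF_apply φ ha, extF_apply φ hb, extF_apply φ (mul_mem ha hb), ← map_mul]
  rfl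

/-- the elements whose image commutes with `t` -/
def IsHomOn.comm (h : IsHomOn K φ) (t : B) : Subgroup A where
  carrier := {a | a ∈ K ∧ φ a * t = t * φ a}
  mul_mem' := by
    rintro a b ⟨ha, ha'⟩ ⟨hb, hb'⟩
    refine ⟨mul_mem ha hb, ?_⟩
    rw [h a ha b hb, mul_assoc, hb', ← mul_assoc, ha', mul_assoc]
  one_mem' := ⟨one_mem _, by rw [h.one, one_mul, mul_one]⟩
  inv_mem' := by
    rintro a ⟨ha, ha'⟩
    refine ⟨inv_mem ha, ?_⟩
    rw [h.inv ha, inv_mul_eq_iff_eq_mul, ← mul_assoc, ha', mul_inv_cancel_right]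

/-- the equalizer -/
def IsHomOn.eq (h : IsHomOn K φ) (h' : IsHomOn K ψ) : Subgroup A where
  carrier := {a | a ∈ K ∧ φ a = ψ a}
  mul_mem' := by
    rintro a b ⟨ha, ha'⟩ ⟨hb, hb'⟩
    refine ⟨mul_mem ha hb, ?_⟩
    rw [h a ha b hb, h' a ha b hb, ha', hb']
  one_mem' := ⟨one_mem _, by rw [h.one, h'.one]⟩
  inv_mem' := by
    rintro a ⟨ha, ha'⟩
    exact ⟨inv_mem ha, by rw [h.inv ha, h'.inv ha, ha']⟩

end IsHomOn

variable {F : Type*} [Field F] {n : ℕ} {H : Type*} [Group H]

local notation "V" => (Fin n ⊕ Fin n → F)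
local notation "G" => Matrix.symplecticGroup (Fin n) F
local notation "f" => sympForm n F

/-- elements fixing all `ee j` fix the vectors orthogonal to these -/
theorem fix_of_perp_ee {g : G} (hg : ∀ j, g • (ee j : V) = ee j) {x : V}
    (hx : ∀ j, f x (ee j) = 0) : g • x = x := by
  have key : ∀ s : Finset (Fin n), g • (∑ j ∈ s, f x (ff j) • (ee j : V)) =
      ∑ j ∈ s, f x (ff j) • (ee j : V) := by
    intro s
    classical
    induction s using Finset.induction_on with
    | empty => rw [Finset.sum_empty, smul_zero']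
    | insert a s ha ih => rw [Finset.sum_insert ha, smul_add', ih, smul_smul', hg]
  have h1 : x = ∑ j : Fin n, f x (ff j) • (ee j : V) := by
    conv_lhs => rw [expand x]
    refine Finset.sum_congr rfl fun j _ => ?_
    rw [hx, zero_smul, sub_zero]
  rw [h1]
  exact key _

/-- the elements fixing all `ee j` commute -/
theorem comm_of_fix {g h : G} (hg : ∀ j, g • (ee j : V) = ee j) (hh : ∀ j, h • (ee j : V) = ee j) :
    g * h = h * g := by
  have key : ∀ (g : G) (_ : ∀ j, g • (ee j : V) = ee j) (j l : Fin n),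
      f (g • ff j - ff j) (ee l) = 0 := by
    intro g hg j l
    have := form_smul g (ff j) (ee l)
    rw [hg] at this
    rw [sympForm_sub_left, this, sub_self]
  apply ext_basis
  · intro j
    rw [mul_smul, mul_smul, hg, hh, hg]
  · intro j
    have h1 := fix_of_perp_ee hg (key h hh j)
    have h2 := fix_of_perp_ee hh (key g hg j)
    rw [smul_sub', ← mul_smul] at h1 h2
    have h3 : (g * h) • (ff j : V) = g • ff j + (h • ff j - ff j) := by rw [← h1]; abel
    have h4 : (h * g) • (ff j : V) = h • ff j + (g • ff j - ff j) := by rw [← h2]; abel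
    rw [h3, h4]
    abel

theorem MI_comm {i i' : ℕ} {g h : G} (hg : g ∈ MI n F i) (hh : h ∈ MI n F i') : g * h = h * g :=
  comm_of_fix hg.1 hh.1

/-- `T(0,c)` -/
theorem siegel_zero_mem_SJ (k : Fin n) (c : F) : siegel (ee k) (0 : V) c ∈ SJ F k :=
  siegel_mem (sympForm_zero_right _) (inJ_ee (by simp)) (InJ.zero _) c

theorem siegel_zero_mem_MI {i : ℕ} {k : Fin n} (h : (k : ℕ) = i ∨ (k : ℕ) = i + 1) (c : F) :
    siegel (ee k) (0 : V) c ∈ MI n F i := by
  constructor
  · intro j
    rw [siegel_smul (sympForm_zero_right _), ee_ee, sympForm_zero_left]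
    simp
  · intro j h1 h2
    rw [siegel_smul (sympForm_zero_right _), ee_ff_of_ne, sympForm_zero_left]
    · simp
    · rintro rfl
      rcases h with h | h
      · exact h1 h
      · exact h2 h

theorem siegel_smul_mem_MI {k k1 : Fin n} (hk : (k1 : ℕ) = k + 1) (s c : F) :
    siegel (ee k) (s • ee k1 : V) c ∈ MI n F k := by
  have hp : f (ee k) (s • ee k1 : V) = 0 := by
    rw [sympForm_smul_right, ee_ee, mul_zero]
  constructor
  · intro j
    rw [siegel_smul hp, ee_ee, sympForm_smul_left, ee_ee]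
    simp
  · intro j h1 h2
    rw [siegel_smul hp, ee_ff_of_ne, sympForm_smul_left, ee_ff_of_ne]
    · simp
    · rintro rfl
      exact h2 hk
    · rintro rfl
      exact h1 rfl

/-- a vector with only one nonzero coordinate -/
theorem eq_smul_ee {k : Fin n} {w : V} (h1 : ∀ j, f w (ee j) = 0)
    (h2 : ∀ j, j ≠ k → f w (ff j) = 0) : w = f w (ff k) • ee k := by
  conv_lhs => rw [expand w]
  rw [Finset.sum_eq_single k]
  · rw [h1, zero_smul, sub_zero]
  · intro j _ hj
    rw [h1, h2 j hj]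
    simp
  · intro h
    exact absurd (Finset.mem_univ _) h

/-- The data of the inductive step. -/
structure StepData (k k1 : Fin n) (α σ μ : Matrix.symplecticGroup (Fin n) F → H) : Prop where
  hk : (k1 : ℕ) = k + 1
  homα : IsHomOn (GK n F (k + 1)) α
  ext0 : ∃ Ψ : Matrix.symplecticGroup (Fin n) F → H, IsHomOn (MI n F k ⊔ SJ F k) Ψ ∧
    (∀ a ∈ MI n F k, Ψ a = μ a) ∧ ∀ a ∈ SJ F k, Ψ a = σ a
  ext1 : ∃ Ψ : Matrix.symplecticGroup (Fin n) F → H, IsHomOn (MI n F k ⊔ SJ F k1) Ψ ∧
    (∀ a ∈ MI n F k, Ψ a = μ a) ∧ ∀ a ∈ SJ F k1, Ψ a = α a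
  commS : ∀ a ∈ SJ F k, ∀ g ∈ GK n F (k + 1), σ a * α g = α g * σ a
  commM : ∀ m ∈ MI n F k, ∀ h ∈ GK n F (k + 1),
    h • (ee k1 : Fin n ⊕ Fin n → F) = ee k1 → α h * μ m = μ m * α h

namespace StepData

variable {k k1 : Fin n} {α σ μ : Matrix.symplecticGroup (Fin n) F → H}
  (D : StepData k k1 α σ μ)

include D

theorem homσ : IsHomOn (SJ F k) σ := by
  obtain ⟨Ψ, h1, -, h3⟩ := D.ext0
  exact (h1.mono le_sup_right).congr (fun a ha => (h3 a ha).symm)

theorem homμ : IsHomOn (MI n F k) μ := by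
  obtain ⟨Ψ, h1, h2, -⟩ := D.ext0
  exact (h1.mono le_sup_left).congr (fun a ha => (h2 a ha).symm)

theorem agree {a : G} (ha : a ∈ MI n F k) (ha' : a ∈ SJ F k) : μ a = σ a := by
  obtain ⟨Ψ, -, h2, h3⟩ := D.ext0
  rw [← h2 a ha, h3 a ha']

theorem agree1 {a : G} (ha : a ∈ MI n F k) (ha' : a ∈ SJ F k1) : μ a = α a := by
  obtain ⟨Ψ, -, h2, h3⟩ := D.ext1
  rw [← h2 a ha, h3 a ha']

theorem μ_comm {a b : G} (ha : a ∈ MI n F k) (hb : b ∈ MI n F k) : μ a * μ b = μ b * μ a := by
  rw [← D.homμ a ha b hb, ← D.homμ b hb a ha, MI_comm ha hb]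

theorem inK_e1 : InK (k + 1) (ee k1 : V) := by rw [← D.hk]; exact inK_ee k1

theorem inK_f1 : InK (k + 1) (ff k1 : V) := by rw [← D.hk]; exact inK_ff k1

theorem exists_q0 : ∃ q : V → H, q 0 = 1 ∧ ∀ g ∈ GK n F (k + 1),
    q (g • ee k1) = α g * μ (siegel (ee k) (ee k1) 0) * (α g)⁻¹ := by
  classical
  set t := μ (siegel (ee k) (ee k1 : V) 0) with ht
  refine ⟨fun w => if h : ∃ g, g ∈ GK n F (k + 1) ∧ g • (ee k1 : V) = w then
    α h.choose * t * (α h.choose)⁻¹ else 1, ?_, ?_⟩
  · change (if h : ∃ g, g ∈ GK n F (k + 1) ∧ g • (ee k1 : V) = 0 then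
      α h.choose * t * (α h.choose)⁻¹ else 1) = 1
    rw [dif_neg]
    rintro ⟨g, -, hg⟩
    exact smul_ne_zero' g (ee_ne_zero k1) hg
  · intro g hg
    have hex : ∃ g', g' ∈ GK n F (k + 1) ∧ g' • (ee k1 : V) = g • ee k1 := ⟨g, hg, rfl⟩
    change (if h : ∃ g', g' ∈ GK n F (k + 1) ∧ g' • (ee k1 : V) = g • ee k1 then
      α h.choose * t * (α h.choose)⁻¹ else 1) = _
    rw [dif_pos hex]
    obtain ⟨h1, h2⟩ := hex.choose_spec
    generalize hex.choose = g' at h1 h2 ⊢
    have hm : siegel (ee k) (ee k1 : V) 0 ∈ MI n F k := by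
      have := siegel_smul_mem_MI (F := F) D.hk 1 0
      rwa [one_smul] at this
    have h3 := D.commM _ hm (g⁻¹ * g') (mul_mem (inv_mem hg) h1)
      (by rw [mul_smul, h2, inv_smul_smul])
    rw [D.homα _ (inv_mem hg) _ h1, D.homα.inv hg, ← ht] at h3
    have h4 : α g' * t = α g * (t * ((α g)⁻¹ * α g')) := by
      rw [← h3]; group
    rw [h4]; group

/-- the image of the long root elements -/
theorem z_facts : (∀ c c' : F, σ (siegel (ee k) 0 (c + c')) =
      σ (siegel (ee k) 0 c) * σ (siegel (ee k) 0 c')) ∧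
    (∀ c, σ (siegel (ee k) 0 c) = μ (siegel (ee k) 0 c)) ∧
    (∀ c, ∀ g ∈ GK n F (k + 1), σ (siegel (ee k) 0 c) * α g = α g * σ (siegel (ee k) 0 c)) := by
  refine ⟨fun c c' => ?_, fun c => ?_, fun c g hg => ?_⟩
  · rw [← D.homσ _ (siegel_zero_mem_SJ k c) _ (siegel_zero_mem_SJ k c'),
      siegel_mul (sympForm_zero_right _) (sympForm_zero_right _), sympForm_zero_right, add_zero,
      add_zero]
  · exact (D.agree (siegel_zero_mem_MI (Or.inl rfl) c) (siegel_zero_mem_SJ k c)).symm
  · exact D.commS _ (siegel_zero_mem_SJ k c) g hg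

end StepData

/-- dual vectors -/
theorem exists_dual {J : Fin n → Prop} {w w' : V} (hw : InJ J w) (hw' : InJ J w') (h0 : w' ≠ 0)
    (h : ∀ s : F, w ≠ s • w') : ∃ v, InJ J v ∧ f w v = 1 ∧ f w' v = 0 := by
  obtain ⟨z, hz, hwz⟩ := exists_ne hw' h0
  set s := (f w' z)⁻¹ * f w z with hs
  have h1 : w - s • w' ≠ 0 := fun h' => h s (sub_eq_zero.1 h')
  obtain ⟨x, hx, hwx⟩ := exists_ne (hw.sub (hw'.smul s)) h1
  -- `x - (f w' x / f w' z) z`
  set v := x - ((f w' z)⁻¹ * f w' x) • z with hv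
  have hvJ : InJ J v := hx.sub (hz.smul _)
  have h2 : f w' v = 0 := by
    rw [hv, sympForm_sub_right, sympForm_smul_right]
    field_simp
    ring
  have h3 : f w v ≠ 0 := by
    intro h'
    apply hwx
    rw [hv, sympForm_sub_right, sympForm_smul_right] at h'
    rw [sympForm_sub_left, sympForm_smul_left, hs]
    linear_combination h'
  refine ⟨(f w v)⁻¹ • v, hvJ.smul _, ?_, ?_⟩
  · rw [sympForm_smul_right, inv_mul_cancel₀ h3]
  · rw [sympForm_smul_right, h2, mul_zero]

namespace StepData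

variable {k k1 : Fin n} {α σ μ : Matrix.symplecticGroup (Fin n) F → H}
  (D : StepData k k1 α σ μ)

include D

/-- the homomorphism on the unipotent radical of the stabiliser -/
theorem exists_q (hF : ∃ a : F, a ≠ 0 ∧ a ≠ 1) : ∃ q : V → H, q 0 = 1 ∧
    (∀ g ∈ GK n F (k + 1), ∀ w, InK (k + 1) w → q (g • w) = α g * q w * (α g)⁻¹) ∧
    (∀ w, InK (k + 1) w → ∀ c, σ (siegel (ee k) 0 c) * q w = q w * σ (siegel (ee k) 0 c)) ∧
    (∀ s : F, q (s • ee k1) = μ (siegel (ee k) (s • ee k1) 0)) ∧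
    ∀ w w', InK (k + 1) w → InK (k + 1) w' →
      q w * q w' = q (w + w') * σ (siegel (ee k) 0 (f w w')) := by
  obtain ⟨q, q0, q1⟩ := D.exists_q0
  obtain ⟨z1, z2, z3⟩ := D.z_facts
  set z : F → H := fun c => σ (siegel (ee k) 0 c) with hz
  have hzz : ∀ c, σ (siegel (ee k) 0 c) = z c := fun c => rfl
  have z0 : z 0 = 1 := by rw [← hzz, siegel_zero_zero, D.homσ.one]
  simp only [hzz] at z1 z2 z3 ⊢
  have hm : siegel (ee k) (ee k1 : V) 0 ∈ MI n F k := by
    have := siegel_smul_mem_MI (F := F) D.hk 1 0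
    rwa [one_smul] at this
  -- conjugation
  have hconj : ∀ g ∈ GK n F (k + 1), ∀ w, InK (k + 1) w →
      q (g • w) = α g * q w * (α g)⁻¹ := by
    intro g hg w hw
    by_cases h0 : w = 0
    · rw [h0, smul_zero', q0]
      group
    · obtain ⟨x, hx, hxw⟩ := exists_smul_eq D.inK_e1 hw (ee_ne_zero k1) h0
      rw [← hxw, ← mul_smul, q1 _ (mul_mem hg hx), q1 _ hx, D.homα _ hg _ hx]
      group
  -- the centre
  have hcen : ∀ w, InK (k + 1) w → ∀ c, z c * q w = q w * z c := by
    intro w hw c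
    by_cases h0 : w = 0
    · rw [h0, q0, one_mul, mul_one]
    · obtain ⟨x, hx, hxw⟩ := exists_smul_eq D.inK_e1 hw (ee_ne_zero k1) h0
      rw [← hxw, q1 _ hx]
      have h1 := z3 c x hx
      have h2 : z c * μ (siegel (ee k) (ee k1) 0) = μ (siegel (ee k) (ee k1) 0) * z c := by
        rw [z2]
        exact D.μ_comm (siegel_zero_mem_MI (Or.inl rfl) c) hm
      have h3 : z c * (α x)⁻¹ = (α x)⁻¹ * z c := by
        rw [eq_inv_mul_iff_mul_eq, ← mul_assoc, ← h1, mul_inv_cancel_right]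
      calc z c * (α x * μ (siegel (ee k) (ee k1) 0) * (α x)⁻¹)
          = (z c * α x) * μ (siegel (ee k) (ee k1) 0) * (α x)⁻¹ := by group
        _ = α x * (z c * μ (siegel (ee k) (ee k1) 0)) * (α x)⁻¹ := by rw [h1]; group
        _ = α x * μ (siegel (ee k) (ee k1) 0) * (z c * (α x)⁻¹) := by rw [h2]; group
        _ = _ := by rw [h3]; group
  -- the plane
  obtain ⟨Ψ, hΨ, hΨμ, hΨα⟩ := D.ext1
  have hplane : ∀ a b : F, q (a • ee k1 + b • ff k1) =
      Ψ (siegel (ee k) (a • ee k1 + b • ff k1) 0) := by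
    intro a b
    by_cases h : a ≠ 0 ∨ b ≠ 0
    · obtain ⟨s, hs, hse⟩ := exists_SJ (F := F) (k := k1) h
      have hsG : s ∈ GK n F (k + 1) := by
        rw [← D.hk]
        exact SJ_le_GK le_rfl hs
      have hsk : s • (ee k : V) = ee k := (mem_GK_succ.1 hsG).2.1
      have h1 := conj_siegel s (perp_ee D.inK_e1) 0
      rw [hsk] at h1
      rw [← hse, q1 s hsG, ← h1, hΨ.conj (Subgroup.mem_sup_right hs) (Subgroup.mem_sup_left hm),
        hΨμ _ hm, hΨα s hs]
    · push Not at h
      rw [h.1, h.2, zero_smul, zero_smul, add_zero, q0, siegel_zero_zero, hΨ.one]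
  have hinp : ∀ a b : F, InK (k + 1) (a • ee k1 + b • ff k1 : V) := fun a b =>
    (D.inK_e1.smul a).add (D.inK_f1.smul b)
  have hmem : ∀ a b : F, siegel (ee k) (a • ee k1 + b • ff k1 : V) 0 ∈ MI n F k ⊔ SJ F k1 := by
    intro a b
    by_cases h : a ≠ 0 ∨ b ≠ 0
    · obtain ⟨s, hs, hse⟩ := exists_SJ (F := F) (k := k1) h
      have hsG : s ∈ GK n F (k + 1) := by
        rw [← D.hk]
        exact SJ_le_GK le_rfl hs
      have h1 := conj_siegel s (perp_ee D.inK_e1) 0
      rw [(mem_GK_succ.1 hsG).2.1] at h1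
      rw [← hse, ← h1]
      exact mul_mem (mul_mem (Subgroup.mem_sup_right hs) (Subgroup.mem_sup_left hm))
        (inv_mem (Subgroup.mem_sup_right hs))
    · push Not at h
      rw [h.1, h.2, zero_smul, zero_smul, add_zero, siegel_zero_zero]
      exact one_mem _
  have hrel : ∀ a b a' b' : F, q (a • ee k1 + b • ff k1) * q (a' • ee k1 + b' • ff k1) =
      q ((a • ee k1 + b • ff k1) + (a' • ee k1 + b' • ff k1)) *
        z (f (a • ee k1 + b • ff k1) (a' • ee k1 + b' • ff k1)) := by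
    intro a b a' b'
    have e1 : (a • ee k1 + b • ff k1 : V) + (a' • ee k1 + b' • ff k1) =
        (a + a') • ee k1 + (b + b') • ff k1 := by module
    rw [hplane, hplane, ← hΨ _ (hmem a b) _ (hmem a' b'), e1, hplane, z2, ← hΨμ _
      (siegel_zero_mem_MI (Or.inl rfl) _), ← hΨ _ (hmem _ _) _
      (Subgroup.mem_sup_left (siegel_zero_mem_MI (Or.inl rfl) _)),
      siegel_mul (perp_ee (hinp a b)) (perp_ee (hinp a' b')), e1,
      siegel_mul (perp_ee (hinp _ _)) (sympForm_zero_right _), sympForm_zero_right]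
    congr 2
    · rw [add_zero]
    · ring
  -- moving the relation
  have hmove : ∀ g ∈ GK n F (k + 1), ∀ w w', InK (k + 1) w → InK (k + 1) w' →
      q w * q w' = q (w + w') * z (f w w') →
      q (g • w) * q (g • w') = q (g • w + g • w') * z (f (g • w) (g • w')) := by
    intro g hg w w' hw hw' h
    rw [form_smul, ← smul_add', hconj g hg w hw, hconj g hg w' hw', hconj g hg _ (hw.add hw')]
    have h1 := z3 (f w w') g hg
    have h3 : z (f w w') * (α g)⁻¹ = (α g)⁻¹ * z (f w w') := by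
      rw [eq_inv_mul_iff_mul_eq, ← mul_assoc, ← h1, mul_inv_cancel_right]
    calc α g * q w * (α g)⁻¹ * (α g * q w' * (α g)⁻¹)
        = α g * (q w * q w') * (α g)⁻¹ := by group
      _ = α g * q (w + w') * (z (f w w') * (α g)⁻¹) := by rw [h]; group
      _ = _ := by rw [h3]; group
  -- non-orthogonal pairs
  have hne : ∀ w w', InK (k + 1) w → InK (k + 1) w' → f w w' ≠ 0 →
      q w * q w' = q (w + w') * z (f w w') := by
    intro w w' hw hw' h
    obtain ⟨g, hg, hg1, hg2⟩ := exists_smul_pair D.inK_e1 D.inK_f1 hw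
      (hw'.smul (f w w')⁻¹) (ee_ff_self k1) (by rw [sympForm_smul_right, inv_mul_cancel₀ h])
    have e1 : g • ((1 : F) • ee k1 + (0 : F) • ff k1 : V) = w := by
      rw [one_smul, zero_smul, add_zero, hg1]
    have e2 : g • ((0 : F) • ee k1 + (f w w') • ff k1 : V) = w' := by
      rw [zero_smul, zero_add, smul_smul', hg2, smul_smul, mul_inv_cancel₀ h, one_smul]
    have := hmove g hg _ _ (hinp _ _) (hinp _ _) (hrel 1 0 0 (f w w'))
    rwa [e1, e2] at this
  have hpar : ∀ (w : V) (s : F), InK (k + 1) w →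
      q w * q (s • w) = q (w + s • w) * z (f w (s • w)) := by
    intro w s hw
    by_cases h0 : w = 0
    · rw [h0, smul_zero, add_zero, q0, sympForm_zero_left, z0]
    · obtain ⟨g, hg, hg1⟩ := exists_smul_eq D.inK_e1 hw (ee_ne_zero k1) h0
      have e1 : g • ((1 : F) • ee k1 + (0 : F) • ff k1 : V) = w := by
        rw [one_smul, zero_smul, add_zero, hg1]
      have e2 : g • (s • ee k1 + (0 : F) • ff k1 : V) = s • w := by
        rw [zero_smul, add_zero, smul_smul', hg1]
      have := hmove g hg _ _ (hinp _ _) (hinp _ _) (hrel 1 0 s 0)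
      rwa [e1, e2] at this
  refine ⟨q, q0, hconj, hcen, ?_, ?_⟩
  · intro s
    have h1 := hplane s 0
    rw [zero_smul, add_zero] at h1
    rw [h1, hΨμ _ (siegel_smul_mem_MI D.hk s 0)]
  · intro w w' hw hw'
    by_cases hww : f w w' = 0
    swap
    · exact hne w w' hw hw' hww
    by_cases h0 : w = 0
    · rw [h0, q0, one_mul, zero_add, sympForm_zero_left, z0, mul_one]
    by_cases h0' : w' = 0
    · rw [h0', q0, mul_one, add_zero, sympForm_zero_right, z0, mul_one]
    by_cases hp : ∃ s : F, w' = s • w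
    · obtain ⟨s, rfl⟩ := hp
      exact hpar w s hw
    push Not at hp
    have hp' : ∀ s : F, w ≠ s • w' := by
      intro s hs
      have hs0 : s ≠ 0 := by
        rintro rfl
        rw [zero_smul] at hs
        exact h0 hs
      exact hp s⁻¹ (by rw [hs, smul_smul, inv_mul_cancel₀ hs0, one_smul])
    obtain ⟨v1, hv1, a1, a2⟩ := exists_dual hw hw' h0' hp'
    obtain ⟨v2, hv2, b1, b2⟩ := exists_dual hw' hw h0 hp
    obtain ⟨b, hb0, hb1⟩ := hF
    -- the auxiliary decomposition `w' = w1 + w2`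
    obtain ⟨w1, hw1J, hw1, hw1'⟩ : ∃ w1, InK (k + 1) w1 ∧ f w w1 = 1 ∧ f w1 w' = b := by
      refine ⟨v1 - b • v2, hv1.sub (hv2.smul _), ?_, ?_⟩
      · rw [sympForm_sub_right, sympForm_smul_right, a1, b2]; ring
      · rw [sympForm_swap, sympForm_sub_right, sympForm_smul_right, a2, b1]; ring
    have r1 := hne w w1 hw hw1J (by rw [hw1]; exact one_ne_zero)
    have f2 : f w1 (w' - w1) = b := by rw [sympForm_sub_right, hw1', sympForm_self, sub_zero]
    have f3 : f (w + w1) (w' - w1) = b - 1 := by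
      rw [sympForm_add_left, f2, sympForm_sub_right, hww, hw1]; ring
    have r2 := hne w1 (w' - w1) hw1J (hw'.sub hw1J) (by rw [f2]; exact hb0)
    have r3 := hne (w + w1) (w' - w1) (hw.add hw1J) (hw'.sub hw1J)
      (by rw [f3]; exact sub_ne_zero.2 hb1)
    rw [hw1] at r1
    rw [f2, add_sub_cancel] at r2
    rw [f3, show w + w1 + (w' - w1) = w + w' by abel] at r3
    rw [hww, z0, mul_one]
    have hzb : z b = z (b - 1) * z 1 := by rw [← z1, sub_add_cancel]
    have c1 := hcen (w' - w1) (hw'.sub hw1J) 1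
    have : q w * (q w' * z b) = q (w + w') * z b := by
      rw [← r2, ← mul_assoc, r1, mul_assoc, c1, ← mul_assoc, r3, hzb]
      group
    rw [← mul_assoc] at this
    exact mul_right_cancel this

end StepData

/-- the stabiliser of `ee k` in `GK k` -/
def PK {n : ℕ} (F : Type*) [Field F] (k : Fin n) : Subgroup (Matrix.symplecticGroup (Fin n) F) where
  carrier := {g | g ∈ GK n F k ∧ g • (ee k : Fin n ⊕ Fin n → F) = ee k}
  mul_mem' := by
    rintro a b ⟨ha, ha'⟩ ⟨hb, hb'⟩
    exact ⟨mul_mem ha hb, by rw [mul_smul, hb', ha']⟩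
  one_mem' := ⟨one_mem _, one_smul _ _⟩
  inv_mem' := by
    rintro a ⟨ha, ha'⟩
    exact ⟨inv_mem ha, by rw [inv_smul_eq_iff]; exact ha'.symm⟩

theorem mem_PK {k : Fin n} {g : G} : g ∈ PK F k ↔ g ∈ GK n F k ∧ g • (ee k : V) = ee k := Iff.rfl

namespace StepData

variable {k k1 : Fin n} {α σ μ : Matrix.symplecticGroup (Fin n) F → H}
  (D : StepData k k1 α σ μ)

include D

/-- **The homomorphism on the stabiliser.** -/
theorem exists_beta (hF : ∃ a : F, a ≠ 0 ∧ a ≠ 1) : ∃ β : G → H, IsHomOn (PK F k) β ∧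
    (∀ g ∈ GK n F (k + 1), β g = α g) ∧ (∀ m ∈ MI n F k, β m = μ m) ∧
    ∀ a ∈ SJ F k, a • (ee k : V) = ee k → β a = σ a := by
  obtain ⟨q, q0, hconj, hcen, qμ, hmul⟩ := D.exists_q hF
  obtain ⟨z1, z2, z3⟩ := D.z_facts
  set z : F → H := fun c => σ (siegel (ee k) 0 c) with hz
  have hzz : ∀ c, σ (siegel (ee k) 0 c) = z c := fun c => rfl
  have z0 : z 0 = 1 := by rw [← hzz, siegel_zero_zero, D.homσ.one]
  simp only [hzz] at z1 z2 z3 hcen hmul
  set β : G → H := fun g => q (wOf k g) * z (cOf k g) *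
    α ((siegel (ee k) (wOf k g) (cOf k g))⁻¹ * g) with hβ
  have hrep : ∀ (w : V) (c : F) (g : G), InK (k + 1) w → g ∈ GK n F (k + 1) →
      β (siegel (ee k) w c * g) = q w * z c * α g := by
    intro w c g hw hg
    change q (wOf k _) * z (cOf k _) * α ((siegel (ee k) (wOf k _) (cOf k _))⁻¹ * _) = _
    rw [wOf_rep hw c hg, cOf_rep hw c hg, inv_mul_cancel_left]
  have hα : ∀ g ∈ GK n F (k + 1), β g = α g := by
    intro g hg
    have := hrep 0 0 g (inK_zero _) hg
    rwa [siegel_zero_zero, one_mul, q0, z0, one_mul, one_mul] at this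
  refine ⟨β, ?_, hα, ?_, ?_⟩
  · intro a ha b hb
    obtain ⟨w, c, g, hw, hg, rfl⟩ := exists_rep ha.1 ha.2
    obtain ⟨w', c', g', hw', hg', rfl⟩ := exists_rep hb.1 hb.2
    rw [rep_mul hw hw' c c' hg, hrep _ _ _ (hw.add (hw'.act hg)) (mul_mem hg hg'),
      hrep w c g hw hg, hrep w' c' g' hw' hg', D.homα g hg g' hg', z1, z1]
    have h1 := hmul w (g • w') hw (hw'.act hg)
    have h2 := z3 c g hg
    have h3 := hconj g hg w' hw'
    have h4 : z (f w (g • w')) * (z c * z c') = z c * z c' * z (f w (g • w')) := by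
      rw [← z1, ← z1, ← z1, add_comm]
    have h5 := z3 c' g hg
    have h6 := hcen w' hw' c
    have h7 := hcen w' hw' c'
    have h8 : (α g)⁻¹ * z c = z c * (α g)⁻¹ := by
      rw [inv_mul_eq_iff_eq_mul, ← mul_assoc, ← h2, mul_inv_cancel_right]
    calc q (w + g • w') * (z c * z c' * z (f w (g • w'))) * (α g * α g')
        = (q (w + g • w') * z (f w (g • w'))) * (z c * z c') * (α g * α g') := by
          rw [← h4]; group
      _ = q w * (α g * q w' * (α g)⁻¹) * (z c * z c') * (α g * α g') := by rw [← h1, h3]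
      _ = q w * α g * q w' * ((α g)⁻¹ * z c) * z c' * α g * α g' := by group
      _ = q w * α g * (q w' * z c) * (α g)⁻¹ * (z c' * α g) * α g' := by rw [h8]; group
      _ = q w * (α g * z c) * q w' * z c' * α g' := by rw [← h6, h5]; group
      _ = _ := by rw [← h2]; group
  · intro m hm
    have hmG : m ∈ GK n F k := MI_le_GK le_rfl hm
    have hme : m • (ee k : V) = ee k := hm.1 k
    -- the parameter is a multiple of `ee k1`
    have hkk : k1 ≠ k := by
      intro h
      have := D.hk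
      rw [h] at this
      omega
    have hw1 : ∀ j, f (wOf k m) (ee j) = 0 := by
      intro j
      have h1 := form_smul m (ff k) (ee j)
      rw [hm.1 j] at h1
      rw [wOf, sympForm_sub_left, sympForm_sub_left, sympForm_smul_left, ee_ee, h1]
      ring
    have hw2 : ∀ j, j ≠ k1 → f (wOf k m) (ff j) = 0 := by
      intro j hj
      by_cases hjk : j = k
      · rw [hjk]
        exact (inK_succ.1 (inK_wOf hmG hme)).2.2
      · have h1 := form_smul m (ff k) (ff j)
        rw [hm.2 j (fun h => hjk (Fin.ext h)) (fun h => hj (Fin.ext (h.trans D.hk.symm)))] at h1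
        rw [wOf, sympForm_sub_left, sympForm_sub_left, sympForm_smul_left,
          ee_ff_of_ne (Ne.symm hjk), ff_ff, h1, ff_ff]
        ring
    have hw3 := eq_smul_ee hw1 hw2
    set s := f (wOf k m) (ff k1)
    obtain ⟨w, c, g, hw, hg, hrepm⟩ := exists_rep hmG hme
    have hws : w = s • ee k1 := by
      rw [← hw3, hrepm, wOf_rep hw c hg]
    subst hws
    have hT : siegel (ee k) (s • ee k1 : V) c ∈ MI n F k := siegel_smul_mem_MI D.hk s c
    have hgM : g ∈ MI n F k := by
      have : g = (siegel (ee k) (s • ee k1 : V) c)⁻¹ * m := by rw [hrepm, inv_mul_cancel_left]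
      rw [this]
      exact mul_mem (inv_mem hT) hm
    have hgS : g ∈ SJ F k1 := by
      intro j hj
      refine ⟨hgM.1 j, ?_⟩
      by_cases hjk : j = k
      · rw [hjk]
        exact (mem_GK_succ.1 hg).2.2
      · exact hgM.2 j (fun h => hjk (Fin.ext h)) (fun h => hj (Fin.ext (h.trans D.hk.symm)))
    rw [hrepm, hrep _ c g hw hg, qμ, z2, ← D.agree1 hgM hgS, D.homμ _ hT _ hgM,
      siegel_split hw c, D.homμ _ (siegel_smul_mem_MI D.hk s 0) _
      (siegel_zero_mem_MI (Or.inl rfl) c)]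
  · intro a ha hae
    have haG : a ∈ GK n F k := SJ_le_GK le_rfl ha
    obtain ⟨w, c, g, hw, hg, hrepm⟩ := exists_rep haG hae
    have hw0 : w = 0 := by
      have h1 : w = wOf k a := by rw [hrepm, wOf_rep hw c hg]
      rw [expand w]
      refine Finset.sum_eq_zero fun j _ => ?_
      by_cases hj : j = k
      · rw [hj, (inK_succ.1 hw).2.1, (inK_succ.1 hw).2.2]
        simp
      · have e1 := form_smul a (ff k) (ee j)
        have e2 := form_smul a (ff k) (ff j)
        rw [(ha j hj).1, ff_ee_of_ne (Ne.symm hj)] at e1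
        rw [(ha j hj).2, ff_ff] at e2
        have e3 : f w (ee j) = 0 := by
          rw [h1, wOf, sympForm_sub_left, sympForm_sub_left, sympForm_smul_left, e1, ee_ee,
            ff_ee_of_ne (Ne.symm hj)]
          ring
        have e4 : f w (ff j) = 0 := by
          rw [h1, wOf, sympForm_sub_left, sympForm_sub_left, sympForm_smul_left, e2,
            ee_ff_of_ne (Ne.symm hj), ff_ff]
          ring
        rw [e3, e4]
        simp
    subst hw0
    have hT := siegel_zero_mem_SJ (F := F) k c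
    have hgS : g ∈ SJ F k := by
      have : g = (siegel (ee k) (0 : V) c)⁻¹ * a := by rw [hrepm, inv_mul_cancel_left]
      rw [this]
      exact mul_mem (inv_mem hT) ha
    have hg1 : g = 1 := by
      apply ext_basis
      · intro j
        rw [one_smul]
        by_cases hj : j = k
        · rw [hj]; exact (mem_GK_succ.1 hg).2.1
        · exact (hgS j hj).1
      · intro j
        rw [one_smul]
        by_cases hj : j = k
        · rw [hj]; exact (mem_GK_succ.1 hg).2.2
        · exact (hgS j hj).2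
    rw [hrepm, hrep 0 c g (inK_zero _) hg, q0, hg1, D.homα.one, mul_one, mul_one, one_mul]

end StepData

end Cfsg.Agent.H434.Slim
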