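import Cfsg.Agent.H434.SlimStep

/-!
# The slim amalgam of the symplectic group

`gen_all` : generation of `GK k` by the `SJ j` and `MI i`. `exists_ext` : the homomorphism.
-/

set_option autoImplicit false
open Cfsg
open scoped Matrix
open Cfsg.Agent.ClassicalGeometry.SympBasic Cfsg.Agent.ClassicalGeometry.SympSiegel

namespace Cfsg.Agent.H434.Slim

variable {F : Type*} [Field F] {n : ℕ} {H : Type*} [Group H]

local notation "V" => (Fin n ⊕ Fin n → F)
local notation "G" => Matrix.symplecticGroup (Fin n) F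
local notation "f" => sympForm n F

theorem GK_last_le {k : Fin n} (h : (k : ℕ) + 1 = n) : GK n F k ≤ SJ F k := by
  refine GJ_mono (fun j hj => ?_)
  have : (j : ℕ) ≠ k := fun h' => hj (Fin.ext h')
  omega

theorem GK_top : GK n F 0 = ⊤ := by
  rw [eq_top_iff]
  intro g _ j hj
  omega

theorem MI_le_GJ (i : ℕ) : MI n F i ≤ GJ (fun j : Fin n => (j : ℕ) ≠ i ∧ (j : ℕ) ≠ i + 1) :=
  fun _ hg j hj => ⟨hg.1 j, hg.2 j hj.1 hj.2⟩

theorem MI_SJ_comm {i : ℕ} {j : Fin n} (h1 : (j : ℕ) ≠ i) (h2 : (j : ℕ) ≠ i + 1) {m a : G}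
    (hm : m ∈ MI n F i) (ha : a ∈ SJ F j) : m * a = a * m := by
  refine GJ_comm (J := fun j : Fin n => (j : ℕ) ≠ i ∧ (j : ℕ) ≠ i + 1) (J' := fun l => l ≠ j) ?_
    (MI_le_GJ i hm) ha
  intro l
  by_cases h : l = j
  · left; rw [h]; exact ⟨h1, h2⟩
  · exact Or.inr h

/-- **Generation.** -/
theorem gen_all (X : Subgroup G) : ∀ d k : ℕ, k + d = n →
    (∀ j : Fin n, k ≤ j → SJ F j ≤ X) → (∀ i : Fin n, k ≤ i → (i : ℕ) + 1 < n → MI n F i ≤ X) →
    GK n F k ≤ X := by
  intro d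
  induction d with
  | zero =>
    intro k hk _ _ g hg
    have : g = 1 := by
      apply ext_basis
      · intro j; rw [one_smul]; exact (hg j (by omega)).1
      · intro j; rw [one_smul]; exact (hg j (by omega)).2
    rw [this]
    exact one_mem _
  | succ d ih =>
    intro k hk hS hM
    have hkn : k < n := by omega
    by_cases hk1 : k + 1 < n
    · have h1 := ih (k + 1) (by omega) (fun j hj => hS j (by omega))
        (fun i hi => hM i (by omega))
      have hm := siegel_smul_mem_MI (F := F) (k := ⟨k, hkn⟩) (k1 := ⟨k + 1, hk1⟩) rfl 1 0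
      rw [one_smul] at hm
      exact gen_step (k := ⟨k, hkn⟩) (k1 := ⟨k + 1, hk1⟩) rfl h1 (hS ⟨k, hkn⟩ le_rfl)
        (hM ⟨k, hkn⟩ le_rfl hk1 hm)
    · exact (GK_last_le (k := ⟨k, hkn⟩) (by change k + 1 = n; omega)).trans
        (hS ⟨k, hkn⟩ le_rfl)

/-- **The homomorphism on `GK k`.** -/
theorem exists_ext (hF : ∃ a : F, a ≠ 0 ∧ a ≠ 1) {σ μ : Fin n → G → H}
    (commS : ∀ j l : Fin n, j ≠ l → ∀ a ∈ SJ F j, ∀ b ∈ SJ F l, σ j a * σ l b = σ l b * σ j a)
    (commM : ∀ i i' : Fin n, (i : ℕ) + 1 < n → (i' : ℕ) + 1 < n → ∀ a ∈ MI n F i,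
      ∀ b ∈ MI n F i', μ i a * μ i' b = μ i' b * μ i a)
    (homS : ∀ j : Fin n, IsHomOn (SJ F j) (σ j))
    (ext : ∀ i j : Fin n, (i : ℕ) + 1 < n → ∃ Ψ : G → H, IsHomOn (MI n F i ⊔ SJ F j) Ψ ∧
      (∀ a ∈ MI n F i, Ψ a = μ i a) ∧ ∀ a ∈ SJ F j, Ψ a = σ j a) :
    ∀ d k : ℕ, k + d + 1 = n → ∃ Φ : G → H, IsHomOn (GK n F k) Φ ∧
      (∀ j : Fin n, k ≤ j → ∀ a ∈ SJ F j, Φ a = σ j a) ∧
      ∀ i : Fin n, k ≤ i → (i : ℕ) + 1 < n → ∀ m ∈ MI n F i, Φ m = μ i m := by
  have hMS : ∀ i j : Fin n, (i : ℕ) + 1 < n → (j : ℕ) ≠ i → (j : ℕ) ≠ i + 1 →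
      ∀ m ∈ MI n F i, ∀ a ∈ SJ F j, μ i m * σ j a = σ j a * μ i m := by
    intro i j hi h1 h2 m hm a ha
    obtain ⟨Ψ, hΨ, hΨμ, hΨσ⟩ := ext i j hi
    rw [← hΨμ m hm, ← hΨσ a ha, ← hΨ _ (Subgroup.mem_sup_left hm) _ (Subgroup.mem_sup_right ha),
      ← hΨ _ (Subgroup.mem_sup_right ha) _ (Subgroup.mem_sup_left hm), MI_SJ_comm h1 h2 hm ha]
  intro d
  induction d with
  | zero =>
    intro k hk
    have hkn : k < n := by omega
    refine ⟨σ ⟨k, hkn⟩, (homS ⟨k, hkn⟩).mono (GK_last_le (k := ⟨k, hkn⟩)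
      (by change k + 1 = n; omega)), ?_, ?_⟩
    · intro j hj a _
      have : j = ⟨k, hkn⟩ := Fin.ext (by change (j : ℕ) = k; omega)
      rw [this]
    · intro i hi hi'
      omega
  | succ d ih =>
    intro k hk
    have hkn : k < n := by omega
    have hk1 : k + 1 < n := by omega
    obtain ⟨α, hα, hασ, hαμ⟩ := ih (k + 1) (by omega)
    set k0 : Fin n := ⟨k, hkn⟩ with hk0
    set k1 : Fin n := ⟨k + 1, hk1⟩ with hk1'
    have hk0v : (k0 : ℕ) = k := rfl
    have hk1v : (k1 : ℕ) = k + 1 := rfl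
    have D : StepData k0 k1 α (σ k0) (μ k0) := by
      refine ⟨rfl, hα, ext k0 k0 hk1, ?_, ?_, ?_⟩
      · obtain ⟨Ψ, hΨ, hΨμ, hΨσ⟩ := ext k0 k1 hk1
        exact ⟨Ψ, hΨ, hΨμ, fun a ha => (hΨσ a ha).trans (hασ k1 le_rfl a ha).symm⟩
      · intro a ha
        have hX : GK n F (k + 1) ≤ hα.comm (σ k0 a) := by
          refine gen_all _ (d + 1) (k + 1) (by omega) ?_ ?_
          · intro j hj b hb
            refine ⟨SJ_le_GK hj hb, ?_⟩
            rw [hασ j hj b hb]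
            exact commS j k0 (by rintro rfl; omega) b hb a ha
          · intro i hi hi' m hm
            refine ⟨MI_le_GK hi hm, ?_⟩
            rw [hαμ i hi hi' m hm]
            exact hMS i k0 hi' (by omega) (by omega) m hm a ha
        intro g hg
        exact (hX hg).2.symm
      · intro m hm h hh hhe
        have hX : GK n F ((k1 : ℕ) + 1) ≤ hα.comm (μ k0 m) := by
          refine gen_all _ d (k1 + 1) (by omega) ?_ ?_
          · intro j hj b hb
            refine ⟨SJ_le_GK (by omega) hb, ?_⟩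
            rw [hασ j (by omega) b hb]
            exact (hMS k0 j hk1 (by omega) (by omega) m hm b hb).symm
          · intro i hi hi' b hb
            refine ⟨MI_le_GK (by omega) hb, ?_⟩
            rw [hαμ i (by omega) hi' b hb]
            exact commM i k0 hi' hk1 b hb m hm
        refine (gen_stab (k := k1) hX ?_ ?_ hh hhe).2
        · intro c
          have h1 := siegel_zero_mem_SJ (F := F) k1 c
          have h2 : siegel (ee k1) (0 : V) c ∈ MI n F k0 :=
            siegel_zero_mem_MI (Or.inr rfl) c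
          refine ⟨SJ_le_GK le_rfl h1, ?_⟩
          obtain ⟨Ψ, hΨ, hΨμ, hΨσ⟩ := ext k0 k1 hk1
          rw [hασ k1 le_rfl _ h1, ← hΨσ _ h1, hΨμ _ h2]
          exact commM k0 k0 hk1 hk1 _ h2 m hm
        · intro k2 hk2
          have hlt : (k1 : ℕ) + 1 < n := by rw [← hk2]; exact k2.2
          have h1 := siegel_smul_mem_MI (F := F) (k := k1) (k1 := k2) hk2 1 0
          rw [one_smul] at h1
          refine ⟨MI_le_GK le_rfl h1, ?_⟩
          rw [hαμ k1 le_rfl hlt _ h1]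
          exact commM k1 k0 hlt hk1 _ h1 m hm
    obtain ⟨Φ, hΦ, hΦα, hΦμ, hΦσ⟩ := D.exists_hom hF
    refine ⟨Φ, hΦ, ?_, ?_⟩
    · intro j hj a ha
      by_cases hjk : (j : ℕ) = k
      · have : j = k0 := Fin.ext hjk
        subst this
        exact hΦσ a ha
      · rw [hΦα a (SJ_le_GK (by omega) ha)]
        exact hασ j (by omega) a ha
    · intro i hi hi' m hm
      by_cases hik : (i : ℕ) = k
      · have : i = k0 := Fin.ext hik
        subst this
        exact hΦμ m hm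
      · rw [hΦα m (MI_le_GK (by omega) hm)]
        exact hαμ i (by omega) hi' m hm

end Cfsg.Agent.H434.Slim
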