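import Cfsg.Agent.ClassicalGeometry.SympSiegel

/-!
# Subgroups of the symplectic group fixing some hyperbolic pairs of the standard basis

`ee j`, `ff j` : the basis, `f (ee j) (ff j) = 1`. `GJ J` : the subgroup fixing `ee j`, `ff j` for `j ∈ J`; `InJ J v` : `v` is
orthogonal to these. Transitivity on nonzero vectors and on hyperbolic pairs over any field.
-/

set_option autoImplicit false
open Cfsg
open scoped Matrix
open Cfsg.Agent.ClassicalGeometry.SympBasic Cfsg.Agent.ClassicalGeometry.SympSiegel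

namespace Cfsg.Agent.H434.Slim

variable {F : Type*} [Field F] {n : ℕ}

local notation "V" => (Fin n ⊕ Fin n → F)
local notation "G" => Matrix.symplecticGroup (Fin n) F
local notation "f" => sympForm n F

/-- first half of the basis -/
def ee (j : Fin n) : V := Pi.single (Sum.inl j) 1

/-- second half of the basis, with a sign -/
def ff (j : Fin n) : V := -(Pi.single (Sum.inr j) 1)

theorem form_ee (v : V) (j : Fin n) : f v (ee j) = v (Sum.inr j) := sympForm_single_inl_right j v

theorem form_ff (v : V) (j : Fin n) : f v (ff j) = v (Sum.inl j) := by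
  rw [ff, sympForm_neg_right, sympForm_single_inr_right, neg_neg]

theorem ee_ee (i j : Fin n) : f (ee i) (ee j) = 0 := by
  rw [form_ee, ee, Pi.single_eq_of_ne (by simp)]

theorem ff_ff (i j : Fin n) : f (ff i) (ff j) = 0 := by
  rw [form_ff, ff, Pi.neg_apply, Pi.single_eq_of_ne (by simp), neg_zero]

theorem ee_ff_self (i : Fin n) : f (ee i) (ff i) = 1 := by
  rw [form_ff, ee, Pi.single_eq_same]

theorem ee_ff_of_ne {i j : Fin n} (h : i ≠ j) : f (ee i) (ff j) = 0 := by
  rw [form_ff, ee, Pi.single_eq_of_ne]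
  intro h'
  exact h (Sum.inl_injective h').symm

theorem ff_ee_self (i : Fin n) : f (ff i) (ee i) = -1 := by
  rw [sympForm_swap, ee_ff_self]

theorem ff_ee_of_ne {i j : Fin n} (h : i ≠ j) : f (ff i) (ee j) = 0 := by
  rw [sympForm_swap, ee_ff_of_ne (Ne.symm h), neg_zero]

theorem ee_ne_zero (j : Fin n) : (ee j : V) ≠ 0 := by
  intro h
  have := ee_ff_self (F := F) j
  rw [h, sympForm_zero_left] at this
  exact zero_ne_one this

theorem ff_ne_zero (j : Fin n) : (ff j : V) ≠ 0 := by
  intro h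
  have := ee_ff_self (F := F) j
  rw [h, sympForm_zero_right] at this
  exact zero_ne_one this

/-- expansion in the basis -/
theorem expand (v : V) : v = ∑ j : Fin n, (f v (ff j) • ee j - f v (ee j) • ff j) := by
  have h : ∀ j : Fin n, f v (ff j) • ee j - f v (ee j) • (ff j : V) =
      (Pi.single (Sum.inl j) (v (Sum.inl j)) : V) + (Pi.single (Sum.inr j) (v (Sum.inr j)) : V) := by
    intro j
    rw [form_ee, form_ff, ee, ff, smul_neg, sub_neg_eq_add, ← Pi.single_smul, ← Pi.single_smul,
      smul_eq_mul, smul_eq_mul, mul_one, mul_one]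
  rw [Finset.sum_congr rfl fun j _ => h j, Finset.sum_add_distrib]
  have h2 := Fintype.sum_sum_type (fun x : Fin n ⊕ Fin n => (Pi.single x (v x) : V))
  rw [← h2]
  exact (Finset.univ_sum_single v).symm

/-- The subgroup fixing the pairs with index in `J`. -/
def GJ (J : Fin n → Prop) : Subgroup G where
  carrier := {g | ∀ j, J j → g • (ee j : V) = ee j ∧ g • (ff j : V) = ff j}
  mul_mem' := by
    intro a b ha hb j hj
    rw [mul_smul, mul_smul, (hb j hj).1, (hb j hj).2]
    exact ha j hj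
  one_mem' := fun j _ => ⟨one_smul _ _, one_smul _ _⟩
  inv_mem' := by
    intro a ha j hj
    rw [inv_smul_eq_iff, inv_smul_eq_iff]
    exact ⟨(ha j hj).1.symm, (ha j hj).2.symm⟩

theorem mem_GJ {J : Fin n → Prop} {g : G} :
    g ∈ GJ J ↔ ∀ j, J j → g • (ee j : V) = ee j ∧ g • (ff j : V) = ff j := Iff.rfl

theorem GJ_mono {J J' : Fin n → Prop} (h : ∀ j, J j → J' j) : (GJ J' : Subgroup G) ≤ GJ J :=
  fun _ hg j hj => hg j (h j hj)

/-- orthogonal to the pairs with index in `J` -/
def InJ (J : Fin n → Prop) (v : V) : Prop := ∀ j, J j → f v (ee j) = 0 ∧ f v (ff j) = 0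

theorem InJ.add {J : Fin n → Prop} {u v : V} (hu : InJ J u) (hv : InJ J v) : InJ J (u + v) := by
  intro j hj
  rw [sympForm_add_left, sympForm_add_left, (hu j hj).1, (hv j hj).1, (hu j hj).2, (hv j hj).2]
  simp

theorem InJ.smul {J : Fin n → Prop} {u : V} (a : F) (hu : InJ J u) : InJ J (a • u) := by
  intro j hj
  rw [sympForm_smul_left, sympForm_smul_left, (hu j hj).1, (hu j hj).2]
  simp

theorem InJ.neg {J : Fin n → Prop} {u : V} (hu : InJ J u) : InJ J (-u) := by
  intro j hj
  rw [sympForm_neg_left, sympForm_neg_left, (hu j hj).1, (hu j hj).2]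
  simp

theorem InJ.sub {J : Fin n → Prop} {u v : V} (hu : InJ J u) (hv : InJ J v) : InJ J (u - v) := by
  rw [sub_eq_add_neg]
  exact hu.add hv.neg

theorem InJ.zero (J : Fin n → Prop) : InJ J (0 : V) := by
  intro j _
  simp

theorem InJ.mono {J J' : Fin n → Prop} (h : ∀ j, J j → J' j) {v : V} (hv : InJ J' v) : InJ J v :=
  fun j hj => hv j (h j hj)

theorem InJ.act {J : Fin n → Prop} {g : G} (hg : g ∈ GJ J) {v : V} (hv : InJ J v) :
    InJ J (g • v) := by
  intro j hj
  obtain ⟨h1, h2⟩ := hg j hj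
  have e1 := form_smul g v (ee j)
  have e2 := form_smul g v (ff j)
  rw [h1] at e1
  rw [h2] at e2
  rw [e1, e2]
  exact hv j hj

theorem inJ_ee {J : Fin n → Prop} {j : Fin n} (h : ¬ J j) : InJ J (ee j : V) := by
  intro i hi
  have hne : j ≠ i := by rintro rfl; exact h hi
  exact ⟨ee_ee _ _, ee_ff_of_ne hne⟩

theorem inJ_ff {J : Fin n → Prop} {j : Fin n} (h : ¬ J j) : InJ J (ff j : V) := by
  intro i hi
  have hne : j ≠ i := by rintro rfl; exact h hi
  exact ⟨ff_ee_of_ne hne, ff_ff _ _⟩

/-- an element of `GJ J` fixes the vectors supported on `J` -/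
theorem smul_eq_of_support {J : Fin n → Prop} {g : G} (hg : g ∈ GJ J) {v : V}
    (hv : ∀ j, ¬ J j → f v (ee j) = 0 ∧ f v (ff j) = 0) : g • v = v := by
  have key : ∀ s : Finset (Fin n), g • (∑ j ∈ s, (f v (ff j) • ee j - f v (ee j) • ff j)) =
      ∑ j ∈ s, (f v (ff j) • ee j - f v (ee j) • (ff j : V)) := by
    intro s
    classical
    induction s using Finset.induction_on with
    | empty => rw [Finset.sum_empty, smul_zero']
    | insert a s ha ih =>
      rw [Finset.sum_insert ha, smul_add', ih, smul_sub', smul_smul', smul_smul']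
      by_cases hJ : J a
      · rw [(hg a hJ).1, (hg a hJ).2]
      · rw [(hv a hJ).1, (hv a hJ).2]
        simp
  conv_lhs => rw [expand v]
  rw [key]
  exact (expand v).symm

/-- extensionality on the basis -/
theorem ext_basis {g h : G} (he : ∀ j, g • (ee j : V) = h • ee j) (hf : ∀ j, g • (ff j : V) = h • ff j) :
    g = h := by
  have : h⁻¹ * g ∈ GJ (n := n) (F := F) (fun _ => True) := by
    intro j _
    rw [mul_smul, mul_smul, he, hf, inv_smul_smul, inv_smul_smul]
    exact ⟨rfl, rfl⟩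
  have h1 : h⁻¹ * g = 1 := by
    apply ext_smul
    intro v
    rw [smul_eq_of_support this (fun j hj => absurd trivial hj), one_smul]
  rwa [inv_mul_eq_one, eq_comm] at h1

/-- commuting subgroups -/
theorem GJ_comm {J J' : Fin n → Prop} (h : ∀ j, J j ∨ J' j) {a b : G} (ha : a ∈ GJ J)
    (hb : b ∈ GJ J') : a * b = b * a := by
  have h1 : ∀ {J J' : Fin n → Prop} (_ : ∀ j, J j ∨ J' j) {a b : G} (_ : a ∈ GJ J)
      (_ : b ∈ GJ J') (v : V) (_ : a • v = v) (_ : InJ J' v ∨ b • v = v),
      (a * b) • v = (b * a) • v := by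
    intro J J' h a b ha hb v hv hv'
    rw [mul_smul, mul_smul, hv]
    rcases hv' with hv' | hv'
    · have h2 := hv'.act hb
      exact smul_eq_of_support ha (fun j hj => h2 j ((h j).resolve_left hj))
    · rw [hv', hv]
  apply ext_basis
  · intro j
    by_cases hj : J j
    · refine h1 h ha hb _ (ha j hj).1 ?_
      by_cases hj' : J' j
      · exact Or.inr (hb j hj').1
      · exact Or.inl (inJ_ee hj')
    · have hj' := (h j).resolve_left hj
      exact (h1 (fun j => (h j).symm) hb ha _ (hb j hj').1 (Or.inl (inJ_ee hj))).symm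
  · intro j
    by_cases hj : J j
    · refine h1 h ha hb _ (ha j hj).2 ?_
      by_cases hj' : J' j
      · exact Or.inr (hb j hj').2
      · exact Or.inl (inJ_ff hj')
    · have hj' := (h j).resolve_left hj
      exact (h1 (fun j => (h j).symm) hb ha _ (hb j hj').2 (Or.inl (inJ_ff hj))).symm

theorem transv_mem {J : Fin n → Prop} {v : V} (hv : InJ J v) (c : F) : transv v c ∈ GJ J := by
  intro j hj
  rw [transv_smul, transv_smul, sympForm_swap (ee j) v, sympForm_swap (ff j) v, (hv j hj).1,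
    (hv j hj).2]
  simp

theorem siegel_mem {J : Fin n → Prop} {e w : V} (h : f e w = 0) (he : InJ J e) (hw : InJ J w)
    (c : F) : siegel e w c ∈ GJ J := by
  intro j hj
  rw [siegel_smul h, siegel_smul h, (he j hj).1, (he j hj).2, (hw j hj).1, (hw j hj).2]
  simp

/-- a vector not orthogonal to `u` -/
theorem exists_ne {J : Fin n → Prop} {u : V} (hu : InJ J u) (h0 : u ≠ 0) :
    ∃ z : V, InJ J z ∧ f u z ≠ 0 := by
  by_contra hcon
  push Not at hcon
  apply h0
  rw [expand u]
  refine Finset.sum_eq_zero fun j _ => ?_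
  by_cases hj : J j
  · rw [(hu j hj).1, (hu j hj).2]
    simp
  · rw [hcon _ (inJ_ee hj), hcon _ (inJ_ff hj)]
    simp

theorem exists_both {J : Fin n → Prop} {x y : V} (hx : InJ J x) (hy : InJ J y) (hx0 : x ≠ 0)
    (hy0 : y ≠ 0) : ∃ z : V, InJ J z ∧ f x z ≠ 0 ∧ f y z ≠ 0 := by
  obtain ⟨a, haJ, ha⟩ := exists_ne hx hx0
  obtain ⟨b, hbJ, hb⟩ := exists_ne hy hy0
  by_cases ha' : f y a = 0
  · by_cases hb' : f x b = 0
    · refine ⟨a + b, haJ.add hbJ, ?_, ?_⟩
      · rwa [sympForm_add_right, hb', add_zero]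
      · rwa [sympForm_add_right, ha', zero_add]
    · exact ⟨b, hbJ, hb', hb⟩
  · exact ⟨a, haJ, ha, ha'⟩

theorem transv_sub_smul {x y : V} (h : f x y ≠ 0) : transv (y - x) (f x y)⁻¹ • x = y :=
  transv_sub_mulVec h

theorem transv_sub_smul_of_eq {x y u : V} (c : F) (h : f u x = f u y) :
    transv (y - x) c • u = u := transv_sub_mulVec_of_eq c h

/-- **Transitivity on nonzero vectors.** -/
theorem exists_smul_eq {J : Fin n → Prop} {x y : V} (hx : InJ J x) (hy : InJ J y) (hx0 : x ≠ 0)
    (hy0 : y ≠ 0) : ∃ g ∈ (GJ J : Subgroup G), g • x = y := by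
  obtain ⟨z, hz, hxz, hyz⟩ := exists_both hx hy hx0 hy0
  have hzy : f z y ≠ 0 := by
    rw [sympForm_swap]; exact neg_ne_zero.2 hyz
  refine ⟨transv (y - z) (f z y)⁻¹ * transv (z - x) (f x z)⁻¹,
    mul_mem (transv_mem (hy.sub hz) _) (transv_mem (hz.sub hx) _), ?_⟩
  rw [mul_smul, transv_sub_smul hxz, transv_sub_smul hzy]

/-- **Transitivity on hyperbolic pairs.** -/
theorem exists_smul_pair {J : Fin n → Prop} {x y x' y' : V} (hx : InJ J x) (hy : InJ J y)
    (hx' : InJ J x') (hy' : InJ J y') (h : f x y = 1) (h' : f x' y' = 1) :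
    ∃ g ∈ (GJ J : Subgroup G), g • x = x' ∧ g • y = y' := by
  have hx0 : x ≠ 0 := by
    rintro rfl
    rw [sympForm_zero_left] at h
    exact zero_ne_one h
  have hx'0 : x' ≠ 0 := by
    rintro rfl
    rw [sympForm_zero_left] at h'
    exact zero_ne_one h'
  obtain ⟨a, ha, hax⟩ := exists_smul_eq hx hx' hx0 hx'0
  set v := a • y with hv
  have hvJ : InJ J v := hy.act ha
  have hv1 : f x' v = 1 := by rw [← hax, form_smul, h]
  -- fix `x'` and move `v` to `y'`
  obtain ⟨b, hb, hbx, hby⟩ : ∃ b ∈ (GJ J : Subgroup G), b • x' = x' ∧ b • v = y' := by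
    by_cases hvw : f v y' = 0
    · have h1 : f v (x' + v) ≠ 0 := by
        rw [sympForm_add_right, sympForm_self, sympForm_swap, hv1, add_zero]
        exact neg_ne_zero.2 one_ne_zero
      have h2 : f (x' + v) y' ≠ 0 := by
        rw [sympForm_add_left, hvw, h', add_zero]
        exact one_ne_zero
      have h3 : f x' (x' + v) = 1 := by
        rw [sympForm_add_right, sympForm_self, hv1, zero_add]
      refine ⟨transv (y' - (x' + v)) (f (x' + v) y')⁻¹ * transv ((x' + v) - v) (f v (x' + v))⁻¹,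
        mul_mem (transv_mem (hy'.sub (hx'.add hvJ)) _) (transv_mem ((hx'.add hvJ).sub hvJ) _),
        ?_, ?_⟩
      · rw [mul_smul, transv_sub_smul_of_eq (u := x') _ (hv1.trans h3.symm),
          transv_sub_smul_of_eq (u := x') _ (h3.trans h'.symm)]
      · rw [mul_smul, transv_sub_smul h1, transv_sub_smul h2]
    · refine ⟨transv (y' - v) (f v y')⁻¹, transv_mem (hy'.sub hvJ) _, ?_, ?_⟩
      · rw [transv_sub_smul_of_eq (u := x') _ (hv1.trans h'.symm)]
      · rw [transv_sub_smul hvw]
  exact ⟨b * a, mul_mem hb ha, by rw [mul_smul, hax, hbx], by rw [mul_smul, ← hv, hby]⟩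

end Cfsg.Agent.H434.Slim
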